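import Mathlib
import Groth.Agent.Lib.Lead.FBC1
import Groth.Agent.Lib.Helper7.BC0.Alg

set_option linter.style.haveILetI false
set_option linter.unusedVariables false
set_option linter.unusedSectionVars false
set_option autoImplicit false
set_option backward.isDefEq.respectTransparency.types false
set_option backward.isDefEq.respectTransparency false
set_option synthInstance.maxHeartbeats 400000
set_option maxHeartbeats 1600000

universe u

/-! helper7: base change of the cohomology of a three term complex with flat terms and flat cokernel; semilinear maps with bijective linearization are base changes -/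

open TensorProduct
open Groth.Agent.Lead.FBC Groth.Agent.Lead.BCU

namespace Groth.Agent.Helper7.GenBC

section Bridge

variable {A B : Type u} [CommRing A] [CommRing B] (φ : A →+* B)
  {M N : Type u} [AddCommGroup M] [Module A M] [AddCommGroup N] [Module B N]

/-- a semilinear map whose linearization is bijective is a base change -/
theorem isBC_of_tens_bijective {l : M → N}
    (hl : letI := φ.toAlgebra; SemiLin (A := A) (B := B) l)
    (hb : letI := φ.toAlgebra; Function.Bijective (tens hl)) : IsBC φ l := by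
  letI := φ.toAlgebra
  letI : Module A N := Module.compHom N φ
  haveI : IsScalarTower A B N := ⟨fun a b n => by
    change (φ a * b) • n = φ a • b • n
    exact mul_smul _ _ _⟩
  let l' : M →ₗ[A] N :=
    { toFun := l
      map_add' := hl.add
      map_smul' := fun a m => hl.smul a m }
  refine ⟨l', fun m => rfl, ?_⟩
  let eL : B ⊗[A] M →ₗ[B] N :=
    { toFun := tens hl
      map_add' := map_add _
      map_smul' := fun b x => tens_smul hl b x }
  exact IsBaseChange.of_equiv (LinearEquiv.ofBijective eL hb) (fun x => by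
    change tens hl (1 ⊗ₜ x) = l x
    rw [tens_tmul, one_smul])

end Bridge

section Main

variable {A B : Type u} [CommRing A] [CommRing B] [Algebra A B]
  {C0 C1 C2 HC : Type u} [AddCommGroup C0] [Module A C0] [AddCommGroup C1] [Module A C1]
  [AddCommGroup C2] [Module A C2] [AddCommGroup HC] [Module A HC]
  {D0 D1 D2 HD : Type u} [AddCommGroup D0] [Module B D0] [AddCommGroup D1] [Module B D1]
  [AddCommGroup D2] [Module B D2] [AddCommGroup HD] [Module B HD]

/-- **base change of the cohomology of a three term complex**: flat terms, flat cokernel of the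
second differential, termwise base change (onto, bijective, one to one) -/
theorem tens_bijective_of_cohomology
    [Module.Flat A C1] [Module.Flat A C2]
    (d0 : C0 →ₗ[A] C1) (d1 : C1 →ₗ[A] C2) (hdd : ∀ y, d1 (d0 y) = 0)
    [Module.Flat A (C2 ⧸ LinearMap.range d1)]
    (e0 : D0 →ₗ[B] D1) (e1 : D1 →ₗ[B] D2) (hee : ∀ y, e1 (e0 y) = 0)
    {L0 : C0 → D0} {L1 : C1 → D1} {L2 : C2 → D2}
    (hL0 : SemiLin (A := A) (B := B) L0) (hL1 : SemiLin (A := A) (B := B) L1)
    (hL2 : SemiLin (A := A) (B := B) L2)
    (h01 : ∀ y, e0 (L0 y) = L1 (d0 y)) (h12 : ∀ y, e1 (L1 y) = L2 (d1 y))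
    (cC : LinearMap.ker d1 →ₗ[A] HC) (hcC : Function.Surjective cC)
    (hcC0 : ∀ z : LinearMap.ker d1, cC z = 0 ↔ ∃ y, d0 y = z.1)
    (cD : LinearMap.ker e1 →ₗ[B] HD) (hcD : Function.Surjective cD)
    (hcD0 : ∀ w : LinearMap.ker e1, cD w = 0 ↔ ∃ y, e0 y = w.1)
    (lam : HC → HD)
    (hlam : ∀ (z : LinearMap.ker d1) (w : LinearMap.ker e1), w.1 = L1 z.1 →
      lam (cC z) = cD w)
    (hs0 : Function.Surjective (tens hL0)) (hb1 : Function.Bijective (tens hL1))
    (hi2 : Function.Injective (tens hL2)) :
    ∃ hl : SemiLin (A := A) (B := B) lam, Function.Bijective (tens hl) := by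
  have hmem : ∀ z : LinearMap.ker d1, L1 z.1 ∈ LinearMap.ker e1 := fun z => by
    rw [LinearMap.mem_ker, h12, (LinearMap.mem_ker.1 z.2)]
    exact Groth.Agent.Helper7.BC0.SemiLin.map_zero' hL2
  let lZ : LinearMap.ker d1 → LinearMap.ker e1 := fun z => ⟨L1 z.1, hmem z⟩
  have hlZ : SemiLin (A := A) (B := B) lZ :=
    ⟨fun x y => Subtype.ext (hL1.add x.1 y.1), fun a m => Subtype.ext (hL1.smul a m.1)⟩
  have hlc : ∀ z, lam (cC z) = cD (lZ z) := fun z => hlam z (lZ z) rfl
  have hl : SemiLin (A := A) (B := B) lam := by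
    constructor
    · intro x y
      obtain ⟨z, rfl⟩ := hcC x
      obtain ⟨z', rfl⟩ := hcC y
      rw [← map_add, hlc, hlc, hlc, hlZ.add, map_add]
    · intro a x
      obtain ⟨z, rfl⟩ := hcC x
      rw [← map_smul, hlc, hlc, hlZ.smul, map_smul]
  refine ⟨hl, ?_⟩
  have hZ : Function.Bijective (tens hlZ) :=
    Groth.Agent.Helper7.BC0.tens_bijective_of_exact (W := C2 ⧸ LinearMap.range d1)
      (LinearMap.ker d1).subtype d1 (LinearMap.range d1).mkQ
      (Submodule.subtype_injective _) (LinearMap.exact_subtype_ker_map d1)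
      (LinearMap.exact_map_mkQ_range d1) (Submodule.mkQ_surjective _)
      (LinearMap.ker e1).subtype e1 (Submodule.subtype_injective _)
      (LinearMap.exact_subtype_ker_map e1)
      hlZ hL1 hL2 (fun m => rfl) h12 hb1 hi2
  have hsq : ∀ t : B ⊗[A] LinearMap.ker d1, tens hl (cC.lTensor B t) = cD (tens hlZ t) :=
    fun t => tens_lTensor hlZ hl cC cD (fun m => (hlc m).symm) t
  constructor
  · rw [injective_iff_map_eq_zero]
    intro x hx
    obtain ⟨t, rfl⟩ := LinearMap.lTensor_surjective B hcC x
    rw [hsq] at hx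
    obtain ⟨y, hy⟩ := (hcD0 _).1 hx
    obtain ⟨s, rfl⟩ := hs0 y
    let σ0 : C0 →ₗ[A] LinearMap.ker d1 :=
      d0.codRestrict (LinearMap.ker d1) (fun y => LinearMap.mem_ker.2 (hdd y))
    let e0' : D0 →ₗ[B] LinearMap.ker e1 :=
      e0.codRestrict (LinearMap.ker e1) (fun y => LinearMap.mem_ker.2 (hee y))
    have h3 : tens hlZ (σ0.lTensor B s) = e0' (tens hL0 s) :=
      tens_lTensor hL0 hlZ σ0 e0' (fun m => Subtype.ext (h01 m)) s
    have h4 : t = σ0.lTensor B s := by
      apply hZ.1
      apply Subtype.ext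
      rw [h3]
      exact hy.symm
    have h5 : cC.comp σ0 = 0 := by
      apply LinearMap.ext
      intro y
      exact (hcC0 (σ0 y)).2 ⟨y, rfl⟩
    rw [h4, ← LinearMap.comp_apply, ← LinearMap.lTensor_comp, h5, LinearMap.lTensor_zero,
      LinearMap.zero_apply]
  · intro n
    obtain ⟨w, rfl⟩ := hcD n
    obtain ⟨t, rfl⟩ := hZ.2 w
    exact ⟨cC.lTensor B t, hsq t⟩

end Main

end Groth.Agent.Helper7.GenBC
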