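import Mathlib
import Groth.Prelude.Def_CohCmp
import Groth.Agent.Lib.Helper4.CechTen3

set_option linter.style.haveILetI false
set_option linter.unusedVariables false
set_option linter.unusedSectionVars false
set_option autoImplicit false
set_option backward.isDefEq.respectTransparency.types false
set_option backward.isDefEq.respectTransparency false
set_option synthInstance.maxHeartbeats 400000
set_option maxHeartbeats 1600000

universe u

/-! helper7: cohomology classes of Cech cocycle families: surjectivity, kernel, naturality for morphisms of the underlying abelian sheaves -/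

open CategoryTheory CategoryTheory.Limits Opposite TopologicalSpace AlgebraicGeometry
open Groth.Agent.Helper1
open Groth.Agent.Lib.Helper4.LocCech1
open Groth.Agent.Lib.Helper4.CechTen1
open Groth.Agent.Lib.Helper4.CechTen2
open Groth.Agent.Lib.Helper4.CechTen3

namespace Groth.Agent.Helper7.GenBC

section AbCyc

variable (K : CochainComplex AddCommGrpCat.{u} ℕ) (p : ℕ)

/-- the cocycles as a subgroup -/
abbrev Zk : AddSubgroup (K.X p) := (K.d p (p + 1)).hom.ker

/-- the subgroup of cocycles, into the categorical cycles -/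
noncomputable def toCycK : AddCommGrpCat.of (Zk K p) ⟶ K.cycles p :=
  K.liftCycles (AddCommGrpCat.ofHom (Zk K p).subtype) (p + 1) (CochainComplex.next ℕ p) (by
    apply ConcreteCategory.hom_ext
    intro z
    exact z.2)

theorem iCycles_toCycK (z : Zk K p) : (K.iCycles p).hom ((toCycK K p).hom z) = z.1 :=
  ConcreteCategory.congr_hom (K.liftCycles_i (AddCommGrpCat.ofHom (Zk K p).subtype) (p + 1)
    (CochainComplex.next ℕ p) _) z

theorem iCyclesK_injective : Function.Injective (K.iCycles p).hom :=
  (AddCommGrpCat.mono_iff_injective _).mp inferInstance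

theorem d_iCyclesK (y : K.cycles p) : (K.d p (p + 1)).hom ((K.iCycles p).hom y) = 0 :=
  ConcreteCategory.congr_hom (K.iCycles_d p (p + 1)) y

theorem toCycK_surjective : Function.Surjective (toCycK K p).hom := by
  intro y
  refine ⟨⟨(K.iCycles p).hom y, d_iCyclesK K p y⟩, ?_⟩
  apply iCyclesK_injective K p
  rw [iCycles_toCycK]

/-- the class of a cocycle -/
noncomputable def clsK : Zk K p →+ K.homology p := (toCycK K p ≫ K.homologyπ p).hom

theorem clsK_apply (z : Zk K p) :
    clsK K p z = (K.homologyπ p).hom ((toCycK K p).hom z) := rfl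

theorem clsK_surjective : Function.Surjective (clsK K p) := by
  intro c
  obtain ⟨y, rfl⟩ := (AddCommGrpCat.epi_iff_surjective _).mp
    (inferInstance : Epi (K.homologyπ p)) c
  obtain ⟨z, rfl⟩ := toCycK_surjective K p y
  exact ⟨z, rfl⟩

theorem clsK_eq_zero_iff (i : ℕ) (hi : (ComplexShape.up ℕ).prev p = i) (z : Zk K p) :
    clsK K p z = 0 ↔ ∃ w : K.X i, (K.d i p).hom w = z.1 := by
  have hex : (ShortComplex.mk (K.toCycles i p) (K.homologyπ p)
      (K.toCycles_comp_homologyπ i p)).Exact :=
    ShortComplex.exact_of_g_is_cokernel _ (K.homologyIsCokernel i p hi)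
  rw [ShortComplex.ab_exact_iff] at hex
  constructor
  · intro h
    obtain ⟨w, hw⟩ := hex _ h
    have hw' : (K.toCycles i p).hom w = (toCycK K p).hom z := hw
    refine ⟨w, ?_⟩
    have h2 : (K.iCycles p).hom ((K.toCycles i p).hom w) = (K.d i p).hom w :=
      ConcreteCategory.congr_hom (K.toCycles_i i p) w
    rw [← h2, hw', iCycles_toCycK]
  · rintro ⟨w, hw⟩
    have h2 : (K.iCycles p).hom ((K.toCycles i p).hom w) = (K.d i p).hom w :=
      ConcreteCategory.congr_hom (K.toCycles_i i p) w
    have h1 : (toCycK K p).hom z = (K.toCycles i p).hom w := by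
      apply iCyclesK_injective K p
      rw [iCycles_toCycK, ← hw, h2]
    rw [clsK_apply, h1]
    exact ConcreteCategory.congr_hom (K.toCycles_comp_homologyπ i p) w

theorem clsK_eq_zero_iff_succ (q : ℕ) (z : Zk K (q + 1)) :
    clsK K (q + 1) z = 0 ↔ ∃ w : K.X q, (K.d q (q + 1)).hom w = z.1 :=
  clsK_eq_zero_iff K (q + 1) q (by simp) z

theorem clsK_eq_zero_iff_zero (z : Zk K 0) : clsK K 0 z = 0 ↔ z = 0 := by
  rw [clsK_eq_zero_iff K 0 0 (by simp) z]
  have hd : K.d 0 0 = 0 := K.shape 0 0 (by simp)
  constructor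
  · rintro ⟨w, hw⟩
    apply Subtype.ext
    rw [← hw, hd]
    rfl
  · intro h
    refine ⟨0, ?_⟩
    rw [h, map_zero]
    rfl

variable {K} in
theorem map_memK {K' : CochainComplex AddCommGrpCat.{u} ℕ} (φ : K ⟶ K') (z : Zk K p) :
    (φ.f p).hom z.1 ∈ Zk K' p := by
  change (K'.d p (p + 1)).hom ((φ.f p).hom z.1) = 0
  have h := ConcreteCategory.congr_hom (φ.comm p (p + 1)) z.1
  change (K'.d p (p + 1)).hom ((φ.f p).hom z.1) = (φ.f (p + 1)).hom ((K.d p (p + 1)).hom z.1) at h
  have hz : (K.d p (p + 1)).hom z.1 = 0 := z.2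
  rw [h, hz, map_zero]

variable {K} in
theorem map_clsK {K' : CochainComplex AddCommGrpCat.{u} ℕ} (φ : K ⟶ K') (z : Zk K p) :
    (HomologicalComplex.homologyMap φ p).hom (clsK K p z) =
      clsK K' p ⟨(φ.f p).hom z.1, map_memK p φ z⟩ := by
  have h : (HomologicalComplex.homologyMap φ p).hom
      ((K.homologyπ p).hom ((toCycK K p).hom z)) =
      (K'.homologyπ p).hom ((HomologicalComplex.cyclesMap φ p).hom ((toCycK K p).hom z)) :=
    ConcreteCategory.congr_hom (HomologicalComplex.homologyπ_naturality φ p)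
      ((toCycK K p).hom z)
  rw [clsK_apply, clsK_apply]
  refine h.trans (congrArg (K'.homologyπ p).hom ?_)
  apply iCyclesK_injective K' p
  have h2 : (K'.iCycles p).hom ((HomologicalComplex.cyclesMap φ p).hom
      ((toCycK K p).hom z)) = (φ.f p).hom ((K.iCycles p).hom ((toCycK K p).hom z)) :=
    ConcreteCategory.congr_hom (HomologicalComplex.cyclesMap_i φ p) ((toCycK K p).hom z)
  rw [h2, iCycles_toCycK, iCycles_toCycK]

end AbCyc

section Cech

variable {X : Scheme.{u}} (F : X.Modules) {ι : Type u} (U : ι → X.Opens)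

/-- cochains of the Čech complex as families of sections -/
noncomputable def compsE (n : ℕ) : (TCx.K U F.presheaf).X n ≃+ Co F U n :=
  AddEquiv.ofBijective
    (AddMonoidHom.mk' (comps F U n) (fun x y => by
      funext a
      exact map_add (TCx.proj U F.presheaf n a).hom x y))
    ⟨comps_injective F U n, comps_surjective F U n⟩

theorem compsE_apply (n : ℕ) (x : (TCx.K U F.presheaf).X n) :
    compsE F U n x = comps F U n x := rfl

theorem Dd_zero (n : ℕ) : Dd F U n 0 = 0 := by
  rw [← map_zero (compsE F U n), compsE_apply, ← comps_d, map_zero]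
  exact map_zero (compsE F U (n + 1))

/-- a family cocycle gives a cocycle of the Čech complex -/
theorem symm_mem_Zk (p : ℕ) (z : Co F U p) (hz : Dd F U p z = 0) :
    (compsE F U p).symm z ∈ Zk (TCx.K U F.presheaf) p := by
  change ((TCx.K U F.presheaf).d p (p + 1)).hom ((compsE F U p).symm z) = 0
  apply (compsE F U (p + 1)).injective
  rw [compsE_apply, comps_d, ← compsE_apply, AddEquiv.apply_symm_apply, hz, map_zero]

variable (hcov : iSup U = ⊤)

/-- the cohomology class of a family cocycle -/
noncomputable def cc (p : ℕ) (z : Co F U p) (hz : Dd F U p z = 0) : Coh.HH X F p :=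
  Groth.Agent.Lib.Helper4.PnE3.EE U (hTop U hcov) (Coh.toAb F) p
    (clsK (TCx.K U F.presheaf) p ⟨(compsE F U p).symm z, symm_mem_Zk F U p z hz⟩)

theorem Dd_add (n : ℕ) (y y' : Co F U n) : Dd F U n (y + y') = Dd F U n y + Dd F U n y' := by
  obtain ⟨x, rfl⟩ := (compsE F U n).surjective y
  obtain ⟨x', rfl⟩ := (compsE F U n).surjective y'
  rw [← map_add, compsE_apply, compsE_apply, compsE_apply, ← comps_d, ← comps_d, ← comps_d,
    map_add, ← compsE_apply, ← compsE_apply, ← compsE_apply, map_add]

theorem cc_add (p : ℕ) (z z' : Co F U p) (hz : Dd F U p z = 0) (hz' : Dd F U p z' = 0) :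
    cc F U hcov p (z + z') (by rw [Dd_add, hz, hz', add_zero]) =
      cc F U hcov p z hz + cc F U hcov p z' hz' := by
  unfold cc
  refine Eq.trans (congrArg (Groth.Agent.Lib.Helper4.PnE3.EE U (hTop U hcov) (Coh.toAb F) p) ?_)
    (map_add (Groth.Agent.Lib.Helper4.PnE3.EE U (hTop U hcov) (Coh.toAb F) p) _ _)
  refine Eq.trans (congrArg (clsK (TCx.K U F.presheaf) p) ?_)
    (map_add (clsK (TCx.K U F.presheaf) p) _ _)
  apply Subtype.ext
  exact map_add (compsE F U p).symm z z'

section Bij

variable [Finite ι] [F.IsQuasicoherent]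
  (haff : ∀ (n : ℕ) (a : Fin (n + 1) → ι), IsAffineOpen (TCx.W U a))

include haff in
theorem EE_bij (p : ℕ) : Function.Bijective
    (Groth.Agent.Lib.Helper4.PnE3.EE U (hTop U hcov) (Coh.toAb F) p) :=
  (eF F U haff hcov p).bijective

include haff in
theorem cc_surjective (p : ℕ) (x : Coh.HH X F p) :
    ∃ (z : Co F U p) (hz : Dd F U p z = 0), cc F U hcov p z hz = x := by
  obtain ⟨c, rfl⟩ := (EE_bij F U hcov haff p).2 x
  obtain ⟨w, rfl⟩ := clsK_surjective (TCx.K U F.presheaf) p c
  have hw : Dd F U p (compsE F U p w.1) = 0 := by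
    rw [compsE_apply, ← comps_d]
    have : ((TCx.K U F.presheaf).d p (p + 1)).hom w.1 = 0 := w.2
    rw [this]
    exact map_zero (compsE F U (p + 1))
  refine ⟨compsE F U p w.1, hw, ?_⟩
  unfold cc
  congr 2
  apply Subtype.ext
  exact (compsE F U p).symm_apply_apply w.1

include haff in
theorem cc_eq_zero_iff_succ (q : ℕ) (z : Co F U (q + 1)) (hz : Dd F U (q + 1) z = 0) :
    cc F U hcov (q + 1) z hz = 0 ↔ ∃ y : Co F U q, Dd F U q y = z := by
  unfold cc
  rw [← map_zero (Groth.Agent.Lib.Helper4.PnE3.EE U (hTop U hcov) (Coh.toAb F) (q + 1)),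
    (EE_bij F U hcov haff (q + 1)).1.eq_iff, clsK_eq_zero_iff_succ]
  constructor
  · rintro ⟨w, hw⟩
    refine ⟨compsE F U q w, ?_⟩
    rw [compsE_apply, ← comps_d]
    have hw' : ((TCx.K U F.presheaf).d q (q + 1)).hom w = (compsE F U (q + 1)).symm z := hw
    rw [hw', ← compsE_apply, AddEquiv.apply_symm_apply]
  · rintro ⟨y, rfl⟩
    refine ⟨(compsE F U q).symm y, ?_⟩
    change ((TCx.K U F.presheaf).d q (q + 1)).hom ((compsE F U q).symm y) =
      (compsE F U (q + 1)).symm (Dd F U q y)
    apply (compsE F U (q + 1)).injective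
    rw [compsE_apply, comps_d, ← compsE_apply, AddEquiv.apply_symm_apply,
      AddEquiv.apply_symm_apply]

include haff in
theorem cc_eq_zero_iff_zero (z : Co F U 0) (hz : Dd F U 0 z = 0) :
    cc F U hcov 0 z hz = 0 ↔ z = 0 := by
  unfold cc
  rw [← map_zero (Groth.Agent.Lib.Helper4.PnE3.EE U (hTop U hcov) (Coh.toAb F) 0),
    (EE_bij F U hcov haff 0).1.eq_iff, clsK_eq_zero_iff_zero]
  constructor
  · intro h
    have h1 : (compsE F U 0).symm z = 0 := congrArg Subtype.val h
    exact (compsE F U 0).symm.injective (h1.trans (map_zero _).symm)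
  · intro h
    apply Subtype.ext
    change (compsE F U 0).symm z = 0
    rw [h, map_zero]

end Bij

section Nat

variable {F} {F' : X.Modules} (ψ : Coh.toAb F ⟶ Coh.toAb F')

/-- the map of family cochains induced by a morphism of the underlying abelian sheaves -/
noncomputable def coMap (n : ℕ) (y : Co F U n) : Co F' U n :=
  fun a => (ψ.hom.app (op (TCx.W U a))).hom (y a)

theorem coMap_comps (n : ℕ) (x : (TCx.K U F.presheaf).X n) :
    comps F' U n ((((cechComplexFunctor U).map ψ.hom).f n).hom x) =
      coMap U ψ n (comps F U n x) := by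
  funext a
  exact map_proj_apply U ψ.hom n a x

theorem coMap_Dd (n : ℕ) (y : Co F U n) :
    Dd F' U n (coMap U ψ n y) = coMap U ψ (n + 1) (Dd F U n y) := by
  obtain ⟨x, rfl⟩ := comps_surjective F U n y
  have h := ConcreteCategory.congr_hom (((cechComplexFunctor U).map ψ.hom).comm n (n + 1)) x
  have h' : ((TCx.K U F'.presheaf).d n (n + 1)).hom
      ((((cechComplexFunctor U).map ψ.hom).f n).hom x) =
      (((cechComplexFunctor U).map ψ.hom).f (n + 1)).hom
        (((TCx.K U F.presheaf).d n (n + 1)).hom x) := h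
  rw [← coMap_comps, ← comps_d, ← comps_d, ← coMap_comps, h']

theorem coMap_zero (n : ℕ) : coMap U ψ n (0 : Co F U n) = 0 := by
  funext a
  exact map_zero (ψ.hom.app (op (TCx.W U a))).hom

/-- **naturality of the class map** -/
theorem cc_nat (p : ℕ) (z : Co F U p) (hz : Dd F U p z = 0) :
    Sheaf.H.map ψ p (cc F U hcov p z hz) =
      cc F' U hcov p (coMap U ψ p z) (by rw [coMap_Dd, hz, coMap_zero]) := by
  unfold cc
  rw [← Groth.Agent.Lib.Helper4.PnE3.EE_natural U (hTop U hcov) ψ p]
  congr 1
  refine (map_clsK p ((cechComplexFunctor U).map ψ.hom) _).trans ?_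
  congr 1
  apply Subtype.ext
  change (((cechComplexFunctor U).map ψ.hom).f p).hom ((compsE F U p).symm z) =
    (compsE F' U p).symm (coMap U ψ p z)
  apply (compsE F' U p).injective
  rw [AddEquiv.apply_symm_apply, compsE_apply, coMap_comps, ← compsE_apply,
    AddEquiv.apply_symm_apply]

end Nat

end Cech

end Groth.Agent.Helper7.GenBC
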