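import Mathlib
import Groth.Prelude.Def_CohCmp
import Groth.Agent.Lib.Helper3.ResLE4
import Groth.Agent.Lib.Helper3.EdgeMod3

set_option linter.style.haveILetI false
set_option linter.unusedVariables false
set_option linter.unusedSectionVars false
set_option autoImplicit false
set_option backward.isDefEq.respectTransparency.types false
set_option backward.isDefEq.respectTransparency false
set_option synthInstance.maxHeartbeats 400000
set_option maxHeartbeats 1600000

universe u

/-! helper7: the pullback on cohomology as the unit followed by the edge map; naturality and linearity of the edge map -/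

open CategoryTheory CategoryTheory.Limits Opposite TopologicalSpace AlgebraicGeometry
open CategoryTheory.Abelian
open AlgebraicGeometry.Scheme.Modules
open Groth.Agent.Helper3

namespace Groth.Agent.Helper7.GenBC

variable {X X' : Scheme.{u}} (r : X' ⟶ X)

/-- naturality of the pullback on cohomology in the module -/
theorem pullMod_mapH {M M' : X.Modules} (φ : M ⟶ M') (p : ℕ) (x : Coh.HH X M p) :
    CohPull.pullMod r M' p (CohPull.mapH φ p x) =
      CohPull.mapH ((Scheme.Modules.pullback r).map φ) p (CohPull.pullMod r M p x) := by
  change Sheaf.H.map (CohPull.theta r M') p (CohPull.pullAb r.base _ p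
    (Sheaf.H.map ((SheafOfModules.toSheaf X.ringCatSheaf).map φ) p x)) =
    Sheaf.H.map ((SheafOfModules.toSheaf X'.ringCatSheaf).map
      ((Scheme.Modules.pullback r).map φ)) p
      (Sheaf.H.map (CohPull.theta r M) p (CohPull.pullAb r.base _ p x))
  rw [EdgeAb.pullAb_map, ← Sheaf.H.map_comp_apply, ← Sheaf.H.map_comp_apply,
    ResLE.theta_naturality]

/-- **the pullback on cohomology is the unit followed by the edge map** -/
theorem pullMod_eq_pushEdge (G : X.Modules) (p : ℕ) (x : Coh.HH X G p) :
    CohPull.pullMod r G p x =
      CohPull.pushEdge r ((Scheme.Modules.pullback r).obj G) p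
        (CohPull.mapH ((pullbackPushforwardAdjunction r).unit.app G) p x) := by
  have h := pullMod_mapH r ((pullbackPushforwardAdjunction r).unit.app G) p x
  have h2 : CohPull.pushEdge r ((Scheme.Modules.pullback r).obj G) p
        (CohPull.mapH ((pullbackPushforwardAdjunction r).unit.app G) p x) =
      CohPull.mapH ((pullbackPushforwardAdjunction r).counit.app
        ((Scheme.Modules.pullback r).obj G)) p
      (CohPull.pullMod r ((pushforward r).obj ((Scheme.Modules.pullback r).obj G)) p
        (CohPull.mapH ((pullbackPushforwardAdjunction r).unit.app G) p x)) := rfl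
  rw [h2]
  refine Eq.trans ?_ (congrArg (CohPull.mapH ((pullbackPushforwardAdjunction r).counit.app
        ((Scheme.Modules.pullback r).obj G)) p) h).symm
  have h3 : ∀ {A B C : X'.Modules} (a : A ⟶ B) (b : B ⟶ C) (y : Coh.HH X' A p),
      CohPull.mapH b p (CohPull.mapH a p y) = CohPull.mapH (a ≫ b) p y := by
    intro A B C a b y
    change Sheaf.H.map _ p (Sheaf.H.map _ p y) = Sheaf.H.map _ p y
    rw [← Sheaf.H.map_comp_apply, ← Functor.map_comp]
  have h4 : ∀ {A : X'.Modules} (y : Coh.HH X' A p), CohPull.mapH (𝟙 A) p y = y := by
    intro A y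
    change Sheaf.H.map _ p y = y
    rw [CategoryTheory.Functor.map_id, Sheaf.H.map_id_apply]
  have h5 := h3 ((Scheme.Modules.pullback r).map ((pullbackPushforwardAdjunction r).unit.app G))
    ((pullbackPushforwardAdjunction r).counit.app ((Scheme.Modules.pullback r).obj G))
    (CohPull.pullMod r G p x)
  refine Eq.trans ?_ h5.symm
  have tri : (Scheme.Modules.pullback r).map ((pullbackPushforwardAdjunction r).unit.app G) ≫
      (pullbackPushforwardAdjunction r).counit.app ((Scheme.Modules.pullback r).obj G) = 𝟙 _ :=
    (pullbackPushforwardAdjunction r).left_triangle_components G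
  have h6 := congrArg (fun a => CohPull.mapH a p (CohPull.pullMod r G p x)) tri
  exact ((h4 _).symm.trans h6.symm)

/-- naturality of the edge map for morphisms of the underlying abelian sheaves -/
theorem pushEdge_mapAb {N N' : X'.Modules} (ψ : Coh.toAb N ⟶ Coh.toAb N') (p : ℕ)
    (y : Coh.HH X ((pushforward r).obj N) p) :
    CohPull.pushEdge r N' p (Sheaf.H.map ((CohTop.push r.base).map ψ) p y) =
      Sheaf.H.map ψ p (CohPull.pushEdge r N p y) := by
  rw [EdgeMod.pushEdge_eq, EdgeMod.pushEdge_eq]
  exact EdgeAb.edge_map r.base ψ p y

/-- the edge map commutes with multiplication by functions of the base ring of the source -/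
theorem pushEdge_smul {B : Type u} [CommRing B] [X'.Over (Spec (CommRingCat.of B))]
    (N : X'.Modules) (p : ℕ) (b : B) (y : Coh.HH X ((pushforward r).obj N) p) :
    b • CohPull.pushEdge r N p y =
      CohPull.pushEdge r N p (Sheaf.H.map ((CohTop.push r.base).map
        (Coh.smulAb N (Coh.toGlobal (X' ↘ Spec (CommRingCat.of B)) b))) p y) :=
  (pushEdge_mapAb r (Coh.smulAb N (Coh.toGlobal (X' ↘ Spec (CommRingCat.of B)) b)) p y).symm

end Groth.Agent.Helper7.GenBC
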