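import Mathlib
import Groth.Prelude.Def_CohCmp
import Groth.Agent.Lib.Helper4.BCSec2
import Groth.Agent.Lib.Helper4.CechTen3
import Groth.Agent.Lib.Helper3.EdgeMod3
import Groth.Agent.Lib.Helper1.PushQc
import Groth.Agent.Lib.Lead.PBQc
import Groth.Agent.Lib.Helper7.GenBC.Route
import Groth.Agent.Lib.Helper7.GenBC.CechCls
import Groth.Agent.Lib.Helper7.GenBC.Alg

set_option linter.style.haveILetI false
set_option linter.unusedVariables false
set_option linter.unusedSectionVars false
set_option autoImplicit false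
set_option backward.isDefEq.respectTransparency.types false
set_option backward.isDefEq.respectTransparency false
set_option synthInstance.maxHeartbeats 400000
set_option maxHeartbeats 1600000

universe u

/-! helper7: base change for cohomology in degree p over an affine base when the cokernel of the Cech differential is flat: the pullback map is a base change of modules -/

open CategoryTheory CategoryTheory.Limits Opposite TopologicalSpace AlgebraicGeometry
open TensorProduct
open AlgebraicGeometry.Scheme.Modules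
open Groth.Agent.Helper1
open Groth.Agent.Lib.Helper4.BaseChgRing1
open Groth.Agent.Lib.Helper4.TenSec2
open Groth.Agent.Lib.Helper4.LocCech1
open Groth.Agent.Lib.Helper4.CechTen1
open Groth.Agent.Lib.Helper4.CechTen2
open Groth.Agent.Lib.Helper4.CechTen3
open Groth.Agent.Lib.Helper4.BCSec1
open Groth.Agent.Lib.Helper4.BCSec2
open Groth.Agent.Lead.FBC

namespace Groth.Agent.Helper7.GenBC

attribute [local instance] secMod

section IsBCTens

variable {A B : Type u} [CommRing A] [CommRing B] (φ : A →+* B)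
  {M N : Type u} [AddCommGroup M] [Module A M] [AddCommGroup N] [Module B N]

/-- a base change has bijective linearization -/
theorem tens_bijective_of_isBC {l : M → N} (h : Groth.Agent.Lead.BCU.IsBC φ l)
    (hl : letI := φ.toAlgebra; SemiLin (A := A) (B := B) l) :
    letI := φ.toAlgebra
    Function.Bijective (tens hl) := by
  letI := φ.toAlgebra
  letI : Module A N := Module.compHom N φ
  haveI : IsScalarTower A B N := ⟨fun a b n => by
    change (φ a * b) • n = φ a • b • n
    exact mul_smul _ _ _⟩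
  obtain ⟨l', hl', hb⟩ := h
  have key : ∀ x : B ⊗[A] M, tens hl x = hb.equiv x := by
    intro x
    induction x using TensorProduct.induction_on with
    | zero => rw [map_zero, map_zero]
    | tmul b m => rw [tens_tmul, IsBaseChange.equiv_tmul, hl']
    | add x y hx hy => rw [map_add, map_add, hx, hy]
  have h2 : (tens hl : B ⊗[A] M → N) = hb.equiv := funext key
  rw [h2]
  exact hb.equiv.bijective

end IsBCTens

section Core

variable {A B : Type u} [CommRing A] [CommRing B] (φ : A →+* B)
variable {X X' : Scheme.{u}} [X.Over (Spec (CommRingCat.of A))] [X'.Over (Spec (CommRingCat.of B))]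
variable (r : X' ⟶ X) (G : X.Modules) {ι : Type u} (U : ι → X.Opens)

theorem cc_congr (F : X.Modules) (hcov : iSup U = ⊤) (p : ℕ) {z z' : Co F U p} (h : z = z')
    (hz : Dd F U p z = 0) (hz' : Dd F U p z' = 0) :
    cc F U hcov p z hz = cc F U hcov p z' hz' := by
  subst h
  rfl

theorem coMap_smulAb (F : X.Modules) (n : ℕ) (a : A) (z : Co F U n) :
    coMap U (Coh.smulAb F (Coh.toGlobal (X ↘ Spec (CommRingCat.of A)) a)) n z = a • z := by
  funext k
  change (Coh.smulAb F _).hom.app (op (TCx.W U k)) (z k) = a • z k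
  rw [secMod_smul, ← resTop_toGlobal]
  rfl

theorem Dd_smul (F : X.Modules) (n : ℕ) (a : A) (z : Co F U n) :
    Dd F U n (a • z) = a • Dd F U n z := by
  rw [← DdA_apply A, ← DdA_apply A]
  exact (DdA A F U n).map_smul a z

theorem cc_smul (F : X.Modules) (hcov : iSup U = ⊤) (p : ℕ) (a : A) (z : Co F U p)
    (hz : Dd F U p z = 0) :
    a • cc F U hcov p z hz =
      cc F U hcov p (a • z) (by rw [Dd_smul, hz, smul_zero]) := by
  have h := cc_nat U hcov (Coh.smulAb F (Coh.toGlobal (X ↘ Spec (CommRingCat.of A)) a)) p z hz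
  refine Eq.trans ?_ (h.trans (cc_congr U F hcov p (coMap_smulAb U F p a z) _ _))
  rfl

/-- the class map, linearly -/
noncomputable def cC (hcov : iSup U = ⊤) (p : ℕ) :
    LinearMap.ker (DdA A G U p) →ₗ[A] Coh.HH X G p where
  toFun z := cc G U hcov p z.1 ((DdA_apply A G U p z.1).symm.trans (LinearMap.mem_ker.1 z.2))
  map_add' z z' := cc_add G U hcov p z.1 z'.1 _ _
  map_smul' a z := (cc_smul U G hcov p a z.1 _).symm

theorem cC_apply (hcov : iSup U = ⊤) (p : ℕ) (z : LinearMap.ker (DdA A G U p)) :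
    cC G U hcov p z =
      cc G U hcov p z.1 ((DdA_apply A G U p z.1).symm.trans (LinearMap.mem_ker.1 z.2)) := rfl

/-! ### cochains of the direct image -/

variable (N : X'.Modules)

/-- cochains on the preimage cover, as cochains of the direct image -/
noncomputable def rhoInv (n : ℕ) (w : Co N (Up r U) n) :
    Co ((Scheme.Modules.pushforward r).obj N) U n :=
  fun a => QcCech.res N (Wp_eq r U a).ge (w a)

/-- cochains of the direct image, as cochains on the preimage cover -/
noncomputable def rhoFwd (n : ℕ) (y : Co ((Scheme.Modules.pushforward r).obj N) U n) :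
    Co N (Up r U) n :=
  fun a => QcCech.res N (Wp_eq r U a).le (y a)

theorem rhoFwd_rhoInv (n : ℕ) (w : Co N (Up r U) n) : rhoFwd r U N n (rhoInv r U N n w) = w := by
  funext a
  change QcCech.res N _ (QcCech.res N _ (w a)) = w a
  rw [QcCech.res_res, QcCech.res_self]

theorem rhoInv_rhoFwd (n : ℕ) (y : Co ((Scheme.Modules.pushforward r).obj N) U n) :
    rhoInv r U N n (rhoFwd r U N n y) = y := by
  funext a
  change QcCech.res N _ (QcCech.res N _ (y a)) = y a
  rw [QcCech.res_res, QcCech.res_self]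

theorem rhoInv_add (n : ℕ) (w w' : Co N (Up r U) n) :
    rhoInv r U N n (w + w') = rhoInv r U N n w + rhoInv r U N n w' := by
  funext a
  exact map_add (QcCech.res N (Wp_eq r U a).ge) (w a) (w' a)

theorem rhoInv_zero (n : ℕ) : rhoInv r U N n 0 = 0 := by
  funext a
  exact map_zero (QcCech.res N (Wp_eq r U a).ge)

theorem rhoInv_Dd (n : ℕ) (w : Co N (Up r U) n) :
    Dd ((Scheme.Modules.pushforward r).obj N) U n (rhoInv r U N n w) =
      rhoInv r U N (n + 1) (Dd N (Up r U) n w) := by
  funext a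
  rw [Dd_apply]
  change _ = QcCech.res N (Wp_eq r U a).ge (Dd N (Up r U) n w a)
  rw [Dd_apply, map_sum]
  refine Finset.sum_congr rfl fun i _ => ?_
  rw [map_zsmul]
  congr 1
  change QcCech.res N _ (QcCech.res N _ (w _)) = QcCech.res N _ (QcCech.res N _ (w _))
  rw [QcCech.res_res, QcCech.res_res]

theorem rhoFwd_Dd (n : ℕ) (y : Co ((Scheme.Modules.pushforward r).obj N) U n) :
    Dd N (Up r U) n (rhoFwd r U N n y) =
      rhoFwd r U N (n + 1) (Dd ((Scheme.Modules.pushforward r).obj N) U n y) := by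
  have h := rhoInv_Dd r U N n (rhoFwd r U N n y)
  rw [rhoInv_rhoFwd] at h
  rw [h, rhoFwd_rhoInv]

theorem rhoInv_uCo (n : ℕ) (z : Co G U n) :
    rhoInv r U (Fp r G) n (uCo r G U n z) =
      coMap U ((SheafOfModules.toSheaf X.ringCatSheaf).map
        ((pullbackPushforwardAdjunction r).unit.app G)) n z := by
  funext a
  change QcCech.res (Fp r G) _ (QcCech.res (Fp r G) _
    (((pullbackPushforwardAdjunction r).unit.app G).app (TCx.W U a) (z a))) = _
  rw [QcCech.res_res, QcCech.res_self]
  rfl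

theorem rhoInv_smul (n : ℕ) (b : B) (w : Co N (Up r U) n) :
    rhoInv r U N n (b • w) =
      coMap U (show Coh.toAb ((Scheme.Modules.pushforward r).obj N) ⟶
          Coh.toAb ((Scheme.Modules.pushforward r).obj N) from
        (CohTop.push r.base).map
          (Coh.smulAb N (Coh.toGlobal (X' ↘ Spec (CommRingCat.of B)) b))) n
        (rhoInv r U N n w) := by
  funext a
  change QcCech.res N _ (b • w a) =
    (Coh.smulAb N (Coh.toGlobal (X' ↘ Spec (CommRingCat.of B)) b)).hom.app
      (op (r ⁻¹ᵁ TCx.W U a)) (QcCech.res N (Wp_eq r U a).ge (w a))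
  refine ((resA B N (Wp_eq r U a).ge).map_smul b (w a)).trans ?_
  change b • QcCech.res N (Wp_eq r U a).ge (w a) = _
  rw [secMod_smul, ← resTop_toGlobal]
  rfl

theorem rhoInv_mem (hcov : iSup U = ⊤) (p : ℕ) (w : LinearMap.ker (DdA B N (Up r U) p)) :
    Dd ((Scheme.Modules.pushforward r).obj N) U p (rhoInv r U N p w.1) = 0 := by
  rw [rhoInv_Dd, ← DdA_apply B, LinearMap.mem_ker.1 w.2, rhoInv_zero]

/-- the class map of the preimage cover through the direct image, linearly -/
noncomputable def cD (hcov : iSup U = ⊤) (p : ℕ) :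
    LinearMap.ker (DdA B N (Up r U) p) →ₗ[B] Coh.HH X' N p where
  toFun w := CohPull.pushEdge r N p
    (cc ((Scheme.Modules.pushforward r).obj N) U hcov p (rhoInv r U N p w.1)
      (rhoInv_mem r U N hcov p w))
  map_add' w w' := by
    rw [← map_add]
    congr 1
    exact (cc_congr U _ hcov p (rhoInv_add r U N p w.1 w'.1) _
      (by rw [Dd_add, rhoInv_mem r U N hcov p w, rhoInv_mem r U N hcov p w', add_zero])).trans
      (cc_add _ U hcov p _ _ _ _)
  map_smul' b w := by
    rw [RingHom.id_apply, pushEdge_smul r N p b]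
    congr 1
    refine Eq.trans ?_ (cc_nat U hcov (show Coh.toAb ((Scheme.Modules.pushforward r).obj N) ⟶
          Coh.toAb ((Scheme.Modules.pushforward r).obj N) from
        (CohTop.push r.base).map
          (Coh.smulAb N (Coh.toGlobal (X' ↘ Spec (CommRingCat.of B)) b))) p _
        (rhoInv_mem r U N hcov p w)).symm
    exact cc_congr U _ hcov p (rhoInv_smul r U N p b w.1) _ _

theorem cD_apply (hcov : iSup U = ⊤) (p : ℕ) (w : LinearMap.ker (DdA B N (Up r U) p)) :
    cD r U N hcov p w = CohPull.pushEdge r N p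
      (cc ((Scheme.Modules.pushforward r).obj N) U hcov p (rhoInv r U N p w.1)
        (rhoInv_mem r U N hcov p w)) := rfl

end Core

section Main

variable {A B : Type u} [CommRing A] [CommRing B] (φ : A →+* B)
variable {X X' : Scheme.{u}} [X.Over (Spec (CommRingCat.of A))] [X'.Over (Spec (CommRingCat.of B))]
variable (r : X' ⟶ X) (G : X.Modules) {ι : Type u} (U : ι → X.Opens)

/-- the pullback of cochains is semilinear -/
theorem semiLin_uCo
    (hw : r ≫ (X ↘ Spec (CommRingCat.of A)) =
      (X' ↘ Spec (CommRingCat.of B)) ≫ Spec.map (CommRingCat.ofHom φ)) (n : ℕ) :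
    letI := φ.toAlgebra
    SemiLin (A := A) (B := B) (uCo r G U n) := by
  letI := φ.toAlgebra
  exact ⟨uCo_add r G U n, fun a y => uCo_smulA φ r G U hw n a y⟩

/-- termwise, the pulled back cochains are the base change of the cochains -/
theorem tens_uCo_bijective [Finite ι] [G.IsQuasicoherent]
    (hsq : IsPullback r (X' ↘ Spec (CommRingCat.of B)) (X ↘ Spec (CommRingCat.of A))
      (Spec.map (CommRingCat.ofHom φ)))
    (haff : ∀ (n : ℕ) (a : Fin (n + 1) → ι), IsAffineOpen (TCx.W U a)) (n : ℕ) :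
    letI := φ.toAlgebra
    Function.Bijective (tens (semiLin_uCo φ r G U hsq.w n)) := by
  letI := φ.toAlgebra
  have hli : ∀ a : Fin (n + 1) → ι, SemiLin (A := A) (B := B)
      (Groth.Agent.Lead.BCU.unitRes r G (Wp_eq r U a).le) := fun a =>
    ⟨Groth.Agent.Lead.FBC.unitRes_add r G _, fun c s => unitRes_smulA φ r G hsq.w _ c s⟩
  have hb : ∀ a, Function.Bijective (tens (hli a)) := fun a =>
    tens_bijective_of_isBC φ (isBC_base' φ r G hsq (haff n a) (Wp_eq r U a)) (hli a)
  exact Groth.Agent.Helper7.BC0.tens_pi_bijective hli hb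

theorem rhoFwd_zero (N : X'.Modules) (n : ℕ) : rhoFwd r U N n 0 = 0 := by
  funext a
  exact map_zero (QcCech.res N (Wp_eq r U a).le)

/-- the base change statement, from the description of the coboundaries -/
theorem isBC_pullMod_aux [Finite ι] [G.IsQuasicoherent]
    (hsq : IsPullback r (X' ↘ Spec (CommRingCat.of B)) (X ↘ Spec (CommRingCat.of A))
      (Spec.map (CommRingCat.ofHom φ)))
    (haff : ∀ (n : ℕ) (a : Fin (n + 1) → ι), IsAffineOpen (TCx.W U a)) (hcov : iSup U = ⊤)
    (p : ℕ) [Module.Flat A (Co G U p)] [Module.Flat A (Co G U (p + 1))]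
    [Module.Flat A (Co G U (p + 1) ⧸ LinearMap.range (DdA A G U p))]
    {C0 D0 : Type u} [AddCommGroup C0] [Module A C0] [AddCommGroup D0] [Module B D0]
    (d0 : C0 →ₗ[A] Co G U p) (e0 : D0 →ₗ[B] Co (Fp r G) (Up r U) p) (L0 : C0 → D0)
    (hL0 : letI := φ.toAlgebra; SemiLin (A := A) (B := B) L0)
    (hs0 : letI := φ.toAlgebra; Function.Surjective (tens hL0))
    (hdd : ∀ y, DdA A G U p (d0 y) = 0) (hee : ∀ y, DdA B (Fp r G) (Up r U) p (e0 y) = 0)
    (h01 : ∀ y, e0 (L0 y) = uCo r G U p (d0 y))
    (hC0 : ∀ (z : Co G U p) (hz : Dd G U p z = 0), cc G U hcov p z hz = 0 ↔ ∃ y, d0 y = z)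
    (hD0 : ∀ (y : Co ((Scheme.Modules.pushforward r).obj (Fp r G)) U p)
      (hy : Dd ((Scheme.Modules.pushforward r).obj (Fp r G)) U p y = 0),
      cc ((Scheme.Modules.pushforward r).obj (Fp r G)) U hcov p y hy = 0 ↔
        ∃ y', rhoInv r U (Fp r G) p (e0 y') = y) :
    Groth.Agent.Lead.BCU.IsBC φ (CohPull.pullMod r G p) := by
  letI := φ.toAlgebra
  haveI : IsAffineHom r := isAffineHom_of_sq φ r hsq
  haveI : (Fp r G).IsQuasicoherent := Groth.Agent.Lead.PB.isQuasicoherent_pullback _ _
  haveI : ((Scheme.Modules.pushforward r).obj (Fp r G)).IsQuasicoherent :=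
    Groth.Agent.Helper1.PushQc.isQuasicoherent_pushforward r (Fp r G)
  have hpe := Groth.Agent.Helper3.EdgeMod.pushEdge_bijective_of_isAffineHom r (Fp r G) p
  have h12 : ∀ y, DdA B (Fp r G) (Up r U) p (uCo r G U p y) =
      uCo r G U (p + 1) (DdA A G U p y) := fun y => by
    rw [DdA_apply, DdA_apply, uCo_Dd]
  have hcC : Function.Surjective (cC G U hcov p) := fun x => by
    obtain ⟨z, hz, rfl⟩ := cc_surjective G U hcov haff p x
    exact ⟨⟨z, LinearMap.mem_ker.2 ((DdA_apply A G U p z).trans hz)⟩, rfl⟩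
  have hcC0 : ∀ z : LinearMap.ker (DdA A G U p), cC G U hcov p z = 0 ↔ ∃ y, d0 y = z.1 :=
    fun z => hC0 z.1 ((DdA_apply A G U p z.1).symm.trans (LinearMap.mem_ker.1 z.2))
  have hcD : Function.Surjective (cD r U (Fp r G) hcov p) := fun x => by
    obtain ⟨y', rfl⟩ := hpe.2 x
    obtain ⟨y, hy, rfl⟩ := cc_surjective _ U hcov haff p y'
    have hw : rhoFwd r U (Fp r G) p y ∈ LinearMap.ker (DdA B (Fp r G) (Up r U) p) := by
      rw [LinearMap.mem_ker, DdA_apply, rhoFwd_Dd, hy, rhoFwd_zero]
    refine ⟨⟨rhoFwd r U (Fp r G) p y, hw⟩, ?_⟩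
    rw [cD_apply]
    congr 1
    exact cc_congr U _ hcov p (rhoInv_rhoFwd r U (Fp r G) p y) _ _
  have hcD0 : ∀ w : LinearMap.ker (DdA B (Fp r G) (Up r U) p),
      cD r U (Fp r G) hcov p w = 0 ↔ ∃ y, e0 y = w.1 := fun w => by
    have h0 : cD r U (Fp r G) hcov p w = 0 ↔
        cc ((Scheme.Modules.pushforward r).obj (Fp r G)) U hcov p (rhoInv r U (Fp r G) p w.1)
          (rhoInv_mem r U (Fp r G) hcov p w) = 0 := by
      rw [cD_apply]
      constructor
      · intro h
        exact hpe.1 (h.trans (map_zero _).symm)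
      · intro h
        rw [h, map_zero]
    rw [h0, hD0]
    constructor
    · rintro ⟨y', hy'⟩
      refine ⟨y', ?_⟩
      have := congrArg (rhoFwd r U (Fp r G) p) hy'
      rwa [rhoFwd_rhoInv, rhoFwd_rhoInv] at this
    · rintro ⟨y', hy'⟩
      exact ⟨y', by rw [hy']⟩
  have hlam : ∀ (z : LinearMap.ker (DdA A G U p))
      (w : LinearMap.ker (DdA B (Fp r G) (Up r U) p)),
      w.1 = uCo r G U p z.1 →
        CohPull.pullMod r G p (cC G U hcov p z) = cD r U (Fp r G) hcov p w := fun z w hwz => by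
    rw [pullMod_eq_pushEdge, cD_apply, cC_apply]
    congr 1
    refine (cc_nat U hcov ((SheafOfModules.toSheaf X.ringCatSheaf).map
      ((pullbackPushforwardAdjunction r).unit.app G)) p z.1
      ((DdA_apply A G U p z.1).symm.trans (LinearMap.mem_ker.1 z.2))).trans ?_
    refine cc_congr U _ hcov p ?_ _ _
    rw [hwz, rhoInv_uCo]
  obtain ⟨hl, hb⟩ := tens_bijective_of_cohomology (A := A) (B := B)
    d0 (DdA A G U p) hdd e0 (DdA B (Fp r G) (Up r U) p) hee
    hL0 (semiLin_uCo φ r G U hsq.w p) (semiLin_uCo φ r G U hsq.w (p + 1))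
    h01 h12 (cC G U hcov p) hcC hcC0 (cD r U (Fp r G) hcov p) hcD hcD0
    (CohPull.pullMod r G p) hlam hs0 (tens_uCo_bijective φ r G U hsq haff p)
    (tens_uCo_bijective φ r G U hsq haff (p + 1)).1
  exact isBC_of_tens_bijective φ hl hb

/-- **base change for cohomology in degree `p`** when the cokernel of the Čech differential in
degree `p` is flat: the pullback map exhibits `H^p(X', r^*G)` as the base change of `H^p(X, G)` -/
theorem isBC_pullMod [Finite ι] [G.IsQuasicoherent]
    (hsq : IsPullback r (X' ↘ Spec (CommRingCat.of B)) (X ↘ Spec (CommRingCat.of A))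
      (Spec.map (CommRingCat.ofHom φ)))
    (haff : ∀ (n : ℕ) (a : Fin (n + 1) → ι), IsAffineOpen (TCx.W U a)) (hcov : iSup U = ⊤)
    (p : ℕ) (hfl : ∀ n, Module.Flat A (Co G U n))
    (hW : Module.Flat A (Co G U (p + 1) ⧸ LinearMap.range (DdA A G U p))) :
    Groth.Agent.Lead.BCU.IsBC φ (CohPull.pullMod r G p) := by
  letI := φ.toAlgebra
  haveI : IsAffineHom r := isAffineHom_of_sq φ r hsq
  haveI : (Fp r G).IsQuasicoherent := Groth.Agent.Lead.PB.isQuasicoherent_pullback _ _
  haveI : ((Scheme.Modules.pushforward r).obj (Fp r G)).IsQuasicoherent :=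
    Groth.Agent.Helper1.PushQc.isQuasicoherent_pushforward r (Fp r G)
  cases p with
  | zero =>
    haveI := hfl 0
    haveI := hfl 1
    haveI := hW
    refine isBC_pullMod_aux φ r G U hsq haff hcov 0 (0 : Co G U 0 →ₗ[A] Co G U 0)
      (0 : Co (Fp r G) (Up r U) 0 →ₗ[B] Co (Fp r G) (Up r U) 0) (uCo r G U 0)
      (semiLin_uCo φ r G U hsq.w 0) (tens_uCo_bijective φ r G U hsq haff 0).2
      (fun y => map_zero _) (fun y => map_zero _) (fun y => ?_) (fun z hz => ?_)
      (fun y hy => ?_)
    · change (0 : Co (Fp r G) (Up r U) 0) = uCo r G U 0 0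
      exact (Groth.Agent.Helper7.BC0.SemiLin.map_zero' (semiLin_uCo φ r G U hsq.w 0)).symm
    · rw [cc_eq_zero_iff_zero G U hcov haff z hz]
      constructor
      · intro h
        exact ⟨0, h.symm⟩
      · rintro ⟨y, hy⟩
        exact hy.symm
    · rw [cc_eq_zero_iff_zero _ U hcov haff y hy]
      constructor
      · intro h
        refine ⟨0, ?_⟩
        rw [h]
        exact rhoInv_zero r U (Fp r G) 0
      · rintro ⟨y', hy'⟩
        rw [← hy']
        exact rhoInv_zero r U (Fp r G) 0
  | succ q =>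
    haveI := hfl (q + 1)
    haveI := hfl (q + 1 + 1)
    haveI := hW
    refine isBC_pullMod_aux φ r G U hsq haff hcov (q + 1) (DdA A G U q)
      (DdA B (Fp r G) (Up r U) q) (uCo r G U q)
      (semiLin_uCo φ r G U hsq.w q) (tens_uCo_bijective φ r G U hsq haff q).2
      (fun y => ?_) (fun y => ?_) (fun y => ?_) (fun z hz => ?_) (fun y hy => ?_)
    · rw [DdA_apply, DdA_apply]
      exact Dd_Dd G U q y
    · rw [DdA_apply, DdA_apply]
      exact Dd_Dd (Fp r G) (Up r U) q y
    · rw [DdA_apply, DdA_apply, uCo_Dd]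
    · rw [cc_eq_zero_iff_succ G U hcov haff q z hz]
      constructor
      · rintro ⟨y, hy⟩
        exact ⟨y, (DdA_apply A G U q y).trans hy⟩
      · rintro ⟨y, hy⟩
        exact ⟨y, (DdA_apply A G U q y).symm.trans hy⟩
    · rw [cc_eq_zero_iff_succ _ U hcov haff q y hy]
      constructor
      · rintro ⟨y0, hy0⟩
        refine ⟨rhoFwd r U _ q y0, ?_⟩
        rw [DdA_apply, rhoFwd_Dd, rhoInv_rhoFwd, hy0]
      · rintro ⟨y', hy'⟩
        refine ⟨rhoInv r U _ q y', ?_⟩
        rw [rhoInv_Dd, ← DdA_apply B, hy']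

end Main

end Groth.Agent.Helper7.GenBC
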