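import Mathlib
import Groth.Agent.Lib.Helper7.BC0.SpecFlat

set_option linter.style.haveILetI false
set_option linter.unusedVariables false
set_option linter.unusedSectionVars false
set_option autoImplicit false
set_option backward.isDefEq.respectTransparency.types false
set_option backward.isDefEq.respectTransparency false
set_option synthInstance.maxHeartbeats 400000
set_option maxHeartbeats 1600000

universe u

/-! helper7: flatness of the cokernel of the Cech differential in degree p near a point with vanishing fibre cohomology in degree p+1 -/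

open CategoryTheory CategoryTheory.Limits AlgebraicGeometry Opposite TopologicalSpace Topology
open MonoidalCategory
open Groth.Agent.Helper1
open Groth.Agent.Lib.Helper4.LocCech1
open Groth.Agent.Lib.Helper4.BaseChgRing1
open Groth.Agent.Lib.Helper4.TenSec2
open Groth.Agent.Lib.Helper4.CechTen1
open Groth.Agent.Lib.Helper4.CechTen2
open Groth.Agent.Lib.Helper4.CechTen3
open Groth.Agent.Lib.Helper4.BCSec1
open Groth.Agent.Lib.Helper4.BCSec2
open Groth.Agent.Lib.Helper4.MumCx1
open Groth.Agent.Lib.Helper4.MumCx2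
open Groth.Agent.Lib.Helper4.MumBC1
open Groth.Agent.Lib.Helper4.MumBC2
open Groth.Agent.Lib.Helper4.ExchAlg1
open Groth.Agent.Lib.Helper4.ExchAlg2
open Groth.Agent.Lib.Helper4.TruncAlg1
open Groth.Agent.Lib.Helper4.Grauert2
open Groth.Agent.Lib.Helper4.CechCls1
open Groth.Agent.Helper7.BC0

namespace Groth.Agent.Helper7.GenBC

attribute [local instance] Groth.Agent.Lib.Helper4.TenSec2.secMod

section Noeth

variable (A : Type u) [CommRing A] [IsNoetherianRing A] (X : Scheme.{u})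
  [X.Over (Spec (CommRingCat.of A))] [IsProper (X ↘ Spec (CommRingCat.of A))]
  (F : X.Modules) [F.IsQuasicoherent]

/-- over a Noetherian base, vanishing of `H^{p+1}` of all fibres gives the exchange property in
degree `p` for the Čech complex of the Mumford data -/
theorem presSurj_CZ_of_fibre_vanishing_deg (D : MData A X F) (p : ℕ)
    (h : ∀ y : ↑(Spec (CommRingCat.of A)),
      Subsingleton (CohIII.fiberH (X ↘ Spec (CommRingCat.of A)) F y (p + 1))) :
    PresSurj (CZ A F D.U) (p : ℤ) := by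
  haveI : ∀ i, Module.Finite A (D.K.X i) := fun i => (D.hff i).1
  haveI : ∀ i, Module.Free A (D.K.X i) := fun i => (D.hff i).2
  have hfv : FibVan D.K ((p + 1 : ℕ) : ℤ) := D.fibVan (p + 1) h
  have hW := (flat_W_of_fibVan D.K (p : ℤ) ((p + 1 : ℕ) : ℤ) ((p + 2 : ℕ) : ℤ)
    (by push_cast; ring) (by push_cast; ring) hfv).1
  have hK : PresSurj D.K (p : ℤ) :=
    (presSurj_iff_flat D.K ((p : ℤ) - 1) (p : ℤ) ((p + 1 : ℕ) : ℤ) (by ring)
      (by push_cast; ring)).2 hW
  exact presSurj_of_iso (p : ℤ) (D.eK (p : ℤ)) hK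

end Noeth

section BaseChange

variable {A B : Type u} [CommRing A] [CommRing B] (φ : A →+* B)
variable {X X' : Scheme.{u}} [X.Over (Spec (CommRingCat.of A))] [X'.Over (Spec (CommRingCat.of B))]
variable (g : X' ⟶ X) (F : X.Modules) [F.IsQuasicoherent] {ι : Type u} [Finite ι] (U : ι → X.Opens)

/-- the exchange property in degree `p` passes to base changes -/
theorem presSurj_baseChange_deg (p : ℕ)
    (hsq : IsPullback g (X' ↘ Spec (CommRingCat.of B)) (X ↘ Spec (CommRingCat.of A))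
      (Spec.map (CommRingCat.ofHom φ)))
    (haff : ∀ (n : ℕ) (a : Fin (n + 1) → ι), IsAffineOpen (TCx.W U a))
    (h : PresSurj (CZ A F U) (p : ℤ)) : PresSurj (CZ B (Fp g F) (Up g U)) (p : ℤ) := by
  intro M M'' g₀ hg₀
  have e := bcCech φ g F U hsq haff p
  show Function.Surjective ((CohIII.TFun (CZ B (Fp g F) (Up g U)) ((p : ℕ) : ℤ)).map g₀).hom
  refine (map_surjective_iff (CZ B (Fp g F) (Up g U)) ((p : ℕ) : ℤ) e.symm g₀).1 ?_
  have hA := h _ _ ((ModuleCat.restrictScalars φ).map g₀) (fun y => hg₀ y)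
  intro y
  obtain ⟨x, hx⟩ := hA y
  exact ⟨x, hx⟩

end BaseChange

section Concrete

variable (A : Type u) [CommRing A] {X : Scheme.{u}} [X.Over (Spec (CommRingCat.of A))]
variable (F : X.Modules) {ι : Type u} (U : ι → X.Opens)

/-- degree `n` of the extended Čech complex -/
noncomputable def exN (n : ℕ) : (CZ A F U).X (n : ℤ) ≅ ModuleCat.of A (Co F U n) :=
  HomologicalComplex.extendXIso (CAN A F U) ComplexShape.embeddingUpNat (i := n) (i' := (n : ℤ)) rfl

theorem CZ_d (n : ℕ) : (CZ A F U).d (n : ℤ) ((n + 1 : ℕ) : ℤ) =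
    (exN A F U n).hom ≫ ModuleCat.ofHom (DdA A F U n) ≫ (exN A F U (n + 1)).inv := by
  rw [← CAN_d]
  exact HomologicalComplex.extend_d_eq _ _ rfl rfl

/-- the exchange property in degree `p` makes the cokernel of the Čech differential flat -/
theorem flatW_of_presSurj_deg [Finite ι] [F.IsQuasicoherent] (p : ℕ)
    (hfl : FlatMod.IsFlatOver (X ↘ Spec (CommRingCat.of A)) F)
    (haff : ∀ (n : ℕ) (a : Fin (n + 1) → ι), IsAffineOpen (TCx.W U a))
    (h : PresSurj (CZ A F U) (p : ℤ)) :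
    Module.Flat A (Co F U (p + 1) ⧸ LinearMap.range (DdA A F U p)) := by
  haveI : Module.Flat A ((CZ A F U).X ((p + 1 : ℕ) : ℤ)) := flat_CZ A F U hfl haff _
  have h1 : Module.Flat A ((CZ A F U).X ((p + 1 : ℕ) : ℤ) ⧸
      Bq (CZ A F U) (p : ℤ) ((p + 1 : ℕ) : ℤ)) :=
    (presSurj_iff_flat (CZ A F U) ((p : ℤ) - 1) (p : ℤ) ((p + 1 : ℕ) : ℤ) (by ring)
      (by push_cast; ring)).1 h
  refine flat_quot_range_of_equiv (exN A F U p).toLinearEquiv (exN A F U (p + 1)).toLinearEquiv
    ((CZ A F U).d (p : ℤ) ((p + 1 : ℕ) : ℤ)).hom (DdA A F U p) ?_ h1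
  intro y
  have h2 := congrArg (fun m => m ≫ (exN A F U (p + 1)).hom) (CZ_d A F U p)
  simp only [Category.assoc, Iso.inv_hom_id, Category.comp_id] at h2
  exact ConcreteCategory.congr_hom h2 y

variable {F} in
theorem coEquiv_Dd_deg {G : X.Modules} (e : F ≅ G) (n : ℕ) (y : Co F U n) :
    coEquiv A U e (n + 1) (DdA A F U n y) = DdA A G U n (coEquiv A U e n y) := by
  funext a
  rw [DdA_apply, DdA_apply, Dd_apply]
  change e.hom.app (TCx.W U a) (Dd F U n y a) = _
  rw [Dd_apply, map_sum]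
  refine Finset.sum_congr rfl fun i _ => ?_
  rw [map_zsmul]
  congr 1
  exact Groth.Agent.Lead.BCU.app_res e.hom (TCx.W_face_le U a i) _

variable {F} in
/-- flatness of the Čech cokernel only depends on the isomorphism class of the module -/
theorem flatW_of_iso_deg {G : X.Modules} (e : F ≅ G) (p : ℕ)
    (h : Module.Flat A (Co F U (p + 1) ⧸ LinearMap.range (DdA A F U p))) :
    Module.Flat A (Co G U (p + 1) ⧸ LinearMap.range (DdA A G U p)) :=
  flat_quot_range_of_equiv (coEquiv A U e p) (coEquiv A U e (p + 1)) (DdA A F U p) (DdA A G U p)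
    (coEquiv_Dd_deg A U e p) h

end Concrete

section Point

/-- **flatness of the Čech cokernel near a point with vanishing `H^{p+1}` of the fibre** -/
theorem exists_unit_flatW_deg (A : Type u) [CommRing A] {X : Scheme.{u}}
    (f : X ⟶ Spec (CommRingCat.of A)) [IsProper f] [LocallyOfFinitePresentation f]
    (F : X.Modules) [F.IsQuasicoherent] (hF : CohB1.IsFP F) (hfl : FlatMod.IsFlatOver f F)
    (p : ℕ) (y : ↥(Spec (CommRingCat.of A)))
    (h0 : Subsingleton (CohIII.fiberH f F y (p + 1))) :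
    ∃ g : A, g ∉ y.asIdeal ∧ ∀ (B : Type u) [CommRing B] (ψ : A →+* B), IsUnit (ψ g) →
      ∀ (X' : Scheme.{u}) (f' : X' ⟶ Spec (CommRingCat.of B)) (r : X' ⟶ X),
        IsPullback r f' f (Spec.map (CommRingCat.ofHom ψ)) →
        ∀ (G : X'.Modules), ((Scheme.Modules.pullback r).obj F ≅ G) →
        letI : X'.Over (Spec (CommRingCat.of B)) := ⟨f'⟩
        ∃ (ι : Type u) (_ : Finite ι) (U : ι → X'.Opens), iSup U = ⊤ ∧
          (∀ (n : ℕ) (a : Fin (n + 1) → ι), IsAffineOpen (TCx.W U a)) ∧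
          Module.Flat B (Co G U (p + 1) ⧸ LinearMap.range (DdA B G U p)) := by
  obtain ⟨g, A₁, _, _, X₁, f₁, F₁, hg, hprop, hcoh, hflat, hvan, hbc⟩ :=
    Groth.Agent.Helper7.CohBC.exists_noeth_model_vanishing A f F hF hfl y {p + 1} (fun i hi => by
      rw [Finset.mem_singleton] at hi
      subst hi
      exact h0)
  refine ⟨g, hg, fun B _ ψ hu X' f' r hsq G eG => ?_⟩
  obtain ⟨φ₁, r₁, hsq₁, ⟨e⟩⟩ := hbc B ψ hu X' f' r hsq
  letI : X₁.Over (Spec (CommRingCat.of A₁)) := ⟨f₁⟩
  haveI : IsProper (X₁ ↘ Spec (CommRingCat.of A₁)) := hprop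
  letI : X'.Over (Spec (CommRingCat.of B)) := ⟨f'⟩
  haveI : F₁.IsQuasicoherent := hcoh.1
  obtain ⟨D⟩ := nonempty_mdata A₁ X₁ F₁ hcoh hflat
  haveI := D.fin
  have hPS₁ : PresSurj (CZ A₁ F₁ D.U) (p : ℤ) :=
    presSurj_CZ_of_fibre_vanishing_deg A₁ X₁ F₁ D p
      (fun y₁ => hvan y₁ (p + 1) (Finset.mem_singleton_self (p + 1)))
  have hPS := presSurj_baseChange_deg φ₁ r₁ F₁ D.U p hsq₁ D.haff hPS₁
  haveI : IsAffineHom r₁ := isAffineHom_of_sq φ₁ r₁ hsq₁
  have haff' := isAffineOpen_Wp r₁ D.U D.haff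
  have hcov' := iSup_Up r₁ D.U D.hcov
  haveI : (Fp r₁ F₁).IsQuasicoherent := Groth.Agent.Lead.PB.isQuasicoherent_pullback _ _
  have hfl' : FlatMod.IsFlatOver (X' ↘ Spec (CommRingCat.of B)) (Fp r₁ F₁) := fun z =>
    Groth.Agent.Lead.FB.flat_baseChange hsq₁ F₁ z (hflat _)
  have hW := flatW_of_presSurj_deg B (Fp r₁ F₁) (Up r₁ D.U) p hfl' haff' hPS
  exact ⟨D.ι, D.fin, Up r₁ D.U, hcov', haff', flatW_of_iso_deg B (Up r₁ D.U) (e ≪≫ eG) p hW⟩

end Point

end Groth.Agent.Helper7.GenBC
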