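import Mathlib
import Groth.Prelude.Def_ega3
import Groth.Agent.Lib.Helper4.ExchAlg1

set_option linter.style.haveILetI false
set_option linter.unusedVariables false
set_option linter.unusedSectionVars false
set_option autoImplicit false
set_option backward.isDefEq.respectTransparency.types false
set_option backward.isDefEq.respectTransparency false
set_option synthInstance.maxHeartbeats 400000
set_option maxHeartbeats 1600000

universe u

/-! helper7: helper7: base change of a complex of modules along a ring map versus restriction of scalars of the coefficient module, as a natural isomorphism of the cohomology functors T^p -/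

open CategoryTheory CategoryTheory.Limits TensorProduct MonoidalCategory
open Groth.Agent.Lib.Helper4.HomEl1
open Groth.Agent.Lib.Helper4.ExchAlg1

namespace Groth.Agent.Helper7.GenBC

section Lift

/-- a homomorphism out of a group presented by a surjection -/
theorem exists_addHom_of_surjective {Z H Z' H' : Type*} [AddCommGroup Z] [AddCommGroup H]
    [AddCommGroup Z'] [AddCommGroup H'] (π : Z →+ H) (hπ : Function.Surjective π)
    (π' : Z' →+ H') (c : Z →+ Z') (hk : ∀ z, π z = 0 → π' (c z) = 0) :
    ∃ Ξ : H →+ H', ∀ z, Ξ (π z) = π' (c z) := by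
  have key : ∀ z, π' (c (Function.surjInv hπ (π z))) = π' (c z) := by
    intro z
    have h1 : π (Function.surjInv hπ (π z) - z) = 0 := by
      rw [map_sub, Function.surjInv_eq hπ, sub_self]
    have h2 := hk _ h1
    rw [map_sub, map_sub, sub_eq_zero] at h2
    exact h2
  refine ⟨AddMonoidHom.mk' (fun h => π' (c (Function.surjInv hπ h))) ?_, key⟩
  intro a b
  obtain ⟨x, rfl⟩ := hπ a
  obtain ⟨y, rfl⟩ := hπ b
  rw [← map_add, key, key, key, map_add, map_add]

end Lift

section Chain

variable {A B : Type u} [CommRing A] [CommRing B] [Algebra A B]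
variable (N : Type u) [AddCommGroup N] [Module A N]
variable (M : Type u) [AddCommGroup M] [Module B M] [Module A M] [IsScalarTower A B M]

/-- the cancellation `(B ⊗_A N) ⊗_B M = N ⊗_A M` -/
noncomputable def cE : (B ⊗[A] N) ⊗[B] M ≃+ N ⊗[A] M :=
  (TensorProduct.comm B (B ⊗[A] N) M).toAddEquiv.trans
    ((AlgebraTensorModule.cancelBaseChange A B B M N).toAddEquiv.trans
      (TensorProduct.comm A M N).toAddEquiv)

theorem cE_tmul (b : B) (n : N) (m : M) : cE N M ((b ⊗ₜ[A] n) ⊗ₜ[B] m) = n ⊗ₜ[A] (b • m) := rfl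

theorem cE_symm_tmul (n : N) (m : M) : (cE N M).symm (n ⊗ₜ[A] m) = ((1 : B) ⊗ₜ[A] n) ⊗ₜ[B] m := rfl

variable {N M} in
theorem addHom_ext3 {P : Type*} [AddCommGroup P] (f g : (B ⊗[A] N) ⊗[B] M →+ P)
    (h : ∀ (b : B) (n : N) (m : M), f ((b ⊗ₜ[A] n) ⊗ₜ[B] m) = g ((b ⊗ₜ[A] n) ⊗ₜ[B] m)) (x) :
    f x = g x := by
  induction x using TensorProduct.induction_on with
  | zero => rw [map_zero, map_zero]
  | add x y hx hy => rw [map_add, map_add, hx, hy]
  | tmul x m =>
    induction x using TensorProduct.induction_on with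
    | zero => rw [TensorProduct.zero_tmul, map_zero, map_zero]
    | add x y hx hy => rw [TensorProduct.add_tmul, map_add, map_add, hx, hy]
    | tmul b n => exact h b n m

variable {N} in
theorem cE_d {N' : Type u} [AddCommGroup N'] [Module A N'] (f : N →ₗ[A] N')
    (x : (B ⊗[A] N) ⊗[B] M) :
    cE N' M ((f.baseChange B).rTensor M x) = f.rTensor M (cE N M x) :=
  addHom_ext3
    ((cE N' M).toAddMonoidHom.comp ((f.baseChange B).rTensor M).toAddMonoidHom)
    ((f.rTensor M).toAddMonoidHom.comp (cE N M).toAddMonoidHom) (fun b n m => rfl) x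

variable {M} in
theorem cE_nat {M'' : Type u} [AddCommGroup M''] [Module B M''] [Module A M'']
    [IsScalarTower A B M''] (g : M →ₗ[B] M'') (gA : M →ₗ[A] M'') (hg : ∀ m, gA m = g m)
    (x : (B ⊗[A] N) ⊗[B] M) :
    cE N M'' (g.lTensor (B ⊗[A] N) x) = gA.lTensor N (cE N M x) :=
  addHom_ext3
    ((cE N M'').toAddMonoidHom.comp (g.lTensor (B ⊗[A] N)).toAddMonoidHom)
    ((gA.lTensor N).toAddMonoidHom.comp (cE N M).toAddMonoidHom) (fun b n m => by
      change n ⊗ₜ[A] (b • g m) = n ⊗ₜ[A] gA (b • m)
      rw [hg, map_smul]) x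

end Chain

section Complex

variable {A B : Type u} [CommRing A] [CommRing B] [Algebra A B]
variable (K : CochainComplex (ModuleCat.{u} A) ℤ)

/-- the base change of a complex, termwise `B ⊗_A K^i` -/
noncomputable def bcK : CochainComplex (ModuleCat.{u} B) ℤ where
  X i := ModuleCat.of B (B ⊗[A] K.X i)
  d i j := ModuleCat.ofHom ((K.d i j).hom.baseChange B)
  shape i j h := by
    rw [K.shape i j h]
    apply ModuleCat.hom_ext
    rw [ModuleCat.hom_ofHom, ModuleCat.hom_zero, ModuleCat.hom_zero]
    exact LinearMap.baseChange_zero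
  d_comp_d' i j k _ _ := by
    apply ModuleCat.hom_ext
    rw [ModuleCat.hom_comp, ModuleCat.hom_ofHom, ModuleCat.hom_ofHom, ← LinearMap.baseChange_comp,
      ← ModuleCat.hom_comp, K.d_comp_d, ModuleCat.hom_zero, ModuleCat.hom_zero]
    exact LinearMap.baseChange_zero

variable (B) in
theorem bcK_d (i j : ℤ) : ((bcK (B := B) K).d i j).hom = (K.d i j).hom.baseChange B := rfl

/-- a `B`-module as an `A`-module -/
noncomputable abbrev rsM (M : ModuleCat.{u} B) : ModuleCat.{u} A :=
  (ModuleCat.restrictScalars (algebraMap A B)).obj M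

/-- the restricted scalar multiplication -/
@[reducible] noncomputable def modA (M : ModuleCat.{u} B) : Module A M := Module.compHom M (algebraMap A B)

theorem towerA (M : ModuleCat.{u} B) :
    letI := modA (A := A) M
    IsScalarTower A B M := by
  letI := modA (A := A) M
  refine ⟨fun a b m => ?_⟩
  change (a • b) • m = algebraMap A B a • b • m
  rw [Algebra.smul_def, mul_smul]

variable (M : ModuleCat.{u} B)

/-- the chain level comparison in degree `i` -/
noncomputable def cX (i : ℤ) : (KM (bcK (B := B) K) M).X i ≃+ (KM K (rsM (A := A) M)).X i :=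
  letI := modA (A := A) M
  haveI := towerA (A := A) M
  cE (K.X i) M

theorem cX_d (i j : ℤ) (x : (KM (bcK (B := B) K) M).X i) :
    cX K M j (((KM (bcK (B := B) K) M).d i j).hom x) =
      ((KM K (rsM (A := A) M)).d i j).hom (cX K M i x) := by
  letI := modA (A := A) M
  haveI := towerA (A := A) M
  exact cE_d (B := B) M (K.d i j).hom x

theorem cX_symm_d (i j : ℤ) (y : (KM K (rsM (A := A) M)).X i) :
    (cX K M j).symm (((KM K (rsM (A := A) M)).d i j).hom y) =
      ((KM (bcK (B := B) K) M).d i j).hom ((cX K M i).symm y) := by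
  rw [AddEquiv.symm_apply_eq, cX_d, AddEquiv.apply_symm_apply]

theorem cX_nat {M'' : ModuleCat.{u} B} (g : M ⟶ M'') (i : ℤ) (x : (KM (bcK (B := B) K) M).X i) :
    cX K M'' i (((CohIII.tensorMap (bcK (B := B) K) g).f i).hom x) =
      ((CohIII.tensorMap K ((ModuleCat.restrictScalars (algebraMap A B)).map g)).f i).hom
        (cX K M i x) := by
  letI := modA (A := A) M
  haveI := towerA (A := A) M
  letI := modA (A := A) M''
  haveI := towerA (A := A) M''
  exact cE_nat (B := B) (K.X i) g.hom
    ((ModuleCat.restrictScalars (algebraMap A B)).map g).hom (fun m => rfl) x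

end Complex

section Homology

variable {A B : Type u} [CommRing A] [CommRing B] [Algebra A B]
variable (K : CochainComplex (ModuleCat.{u} A) ℤ) (M : ModuleCat.{u} B) (p : ℤ)

/-- cycles to cycles -/
noncomputable def cZ : Zs (KM (bcK (B := B) K) M) p (p + 1) →+
    Zs (KM K (rsM (A := A) M)) p (p + 1) :=
  AddMonoidHom.mk' (fun z => ⟨cX K M p z.1, by
    change ((KM K (rsM (A := A) M)).d p (p + 1)).hom (cX K M p z.1) = 0
    rw [← cX_d, z.2, map_zero]⟩) (fun z z' => by
    apply Subtype.ext
    exact map_add (cX K M p) z.1 z'.1)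

/-- cycles to cycles, backwards -/
noncomputable def cZ' : Zs (KM K (rsM (A := A) M)) p (p + 1) →+
    Zs (KM (bcK (B := B) K) M) p (p + 1) :=
  AddMonoidHom.mk' (fun z => ⟨(cX K M p).symm z.1, by
    change ((KM (bcK (B := B) K) M).d p (p + 1)).hom ((cX K M p).symm z.1) = 0
    rw [← cX_symm_d, z.2, map_zero]⟩) (fun z z' => by
    apply Subtype.ext
    exact map_add (cX K M p).symm z.1 z'.1)

theorem cZ_val (z : Zs (KM (bcK (B := B) K) M) p (p + 1)) : (cZ K M p z).1 = cX K M p z.1 := rfl

theorem cZ'_val (z : Zs (KM K (rsM (A := A) M)) p (p + 1)) :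
    (cZ' K M p z).1 = (cX K M p).symm z.1 := rfl

theorem exists_tF : ∃ Ξ : (KM (bcK (B := B) K) M).homology p →+
    (KM K (rsM (A := A) M)).homology p,
    ∀ z, Ξ (cls (KM (bcK (B := B) K) M) p (p + 1) rfl z) =
      cls (KM K (rsM (A := A) M)) p (p + 1) rfl (cZ K M p z) := by
  refine exists_addHom_of_surjective
    (cls (KM (bcK (B := B) K) M) p (p + 1) rfl).toAddMonoidHom
    (cls_surjective (KM (bcK (B := B) K) M) p (p + 1) rfl)
    (cls (KM K (rsM (A := A) M)) p (p + 1) rfl).toAddMonoidHom (cZ K M p) ?_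
  intro z hz
  obtain ⟨w, hw⟩ := (cls_eq_zero_iff (KM (bcK (B := B) K) M) (p - 1) p (p + 1)
    (sub_add_cancel p 1) rfl z).1 hz
  refine (cls_eq_zero_iff (KM K (rsM (A := A) M)) (p - 1) p (p + 1)
    (sub_add_cancel p 1) rfl _).2 ⟨cX K M (p - 1) w, ?_⟩
  rw [← cX_d, hw]
  rfl

theorem exists_tB : ∃ Ξ : (KM K (rsM (A := A) M)).homology p →+
    (KM (bcK (B := B) K) M).homology p,
    ∀ z, Ξ (cls (KM K (rsM (A := A) M)) p (p + 1) rfl z) =
      cls (KM (bcK (B := B) K) M) p (p + 1) rfl (cZ' K M p z) := by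
  refine exists_addHom_of_surjective
    (cls (KM K (rsM (A := A) M)) p (p + 1) rfl).toAddMonoidHom
    (cls_surjective (KM K (rsM (A := A) M)) p (p + 1) rfl)
    (cls (KM (bcK (B := B) K) M) p (p + 1) rfl).toAddMonoidHom (cZ' K M p) ?_
  intro z hz
  obtain ⟨w, hw⟩ := (cls_eq_zero_iff (KM K (rsM (A := A) M)) (p - 1) p (p + 1)
    (sub_add_cancel p 1) rfl z).1 hz
  refine (cls_eq_zero_iff (KM (bcK (B := B) K) M) (p - 1) p (p + 1)
    (sub_add_cancel p 1) rfl _).2 ⟨(cX K M (p - 1)).symm w, ?_⟩
  rw [← cX_symm_d, hw]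
  rfl

/-- the comparison of the cohomology of `(B ⊗_A K) ⊗_B M` and of `K ⊗_A M` -/
noncomputable def tE : (KM (bcK (B := B) K) M).homology p ≃+
    (KM K (rsM (A := A) M)).homology p where
  toFun := (exists_tF K M p).choose
  invFun := (exists_tB K M p).choose
  left_inv c := by
    obtain ⟨z, rfl⟩ := cls_surjective (KM (bcK (B := B) K) M) p (p + 1) rfl c
    rw [(exists_tF K M p).choose_spec, (exists_tB K M p).choose_spec]
    congr 1
    apply Subtype.ext
    exact (cX K M p).symm_apply_apply z.1
  right_inv c := by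
    obtain ⟨z, rfl⟩ := cls_surjective (KM K (rsM (A := A) M)) p (p + 1) rfl c
    rw [(exists_tB K M p).choose_spec, (exists_tF K M p).choose_spec]
    congr 1
    apply Subtype.ext
    exact (cX K M p).apply_symm_apply z.1
  map_add' := map_add (exists_tF K M p).choose

theorem tE_cls (z : Zs (KM (bcK (B := B) K) M) p (p + 1)) :
    tE K M p (cls (KM (bcK (B := B) K) M) p (p + 1) rfl z) =
      cls (KM K (rsM (A := A) M)) p (p + 1) rfl (cZ K M p z) :=
  (exists_tF K M p).choose_spec z

variable {M} in
theorem tE_natural {M'' : ModuleCat.{u} B} (g : M ⟶ M'')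
    (c : (KM (bcK (B := B) K) M).homology p) :
    tE K M'' p (((CohIII.TFun (bcK (B := B) K) p).map g).hom c) =
      ((CohIII.TFun K p).map ((ModuleCat.restrictScalars (algebraMap A B)).map g)).hom
        (tE K M p c) := by
  obtain ⟨z, rfl⟩ := cls_surjective (KM (bcK (B := B) K) M) p (p + 1) rfl c
  rw [tE_cls]
  refine (congrArg (tE K M'' p) (map_cls (CohIII.tensorMap (bcK (B := B) K) g) p (p + 1) rfl
    z)).trans ?_
  rw [tE_cls]
  refine Eq.trans ?_ (map_cls (CohIII.tensorMap K
    ((ModuleCat.restrictScalars (algebraMap A B)).map g)) p (p + 1) rfl (cZ K M p z)).symm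
  congr 1
  apply Subtype.ext
  exact cX_nat K M g p z.1

/-- **base change of the complex versus restriction of scalars of the module**, for the
functors `T^p` -/
noncomputable def tbc :
    CohIII.TFun (bcK (B := B) K) p ⋙ forget₂ (ModuleCat.{u} B) AddCommGrpCat.{u} ≅
      ModuleCat.restrictScalars (algebraMap A B) ⋙ CohIII.TFun K p ⋙
        forget₂ (ModuleCat.{u} A) AddCommGrpCat.{u} :=
  NatIso.ofComponents (fun M => (tE K M p).toAddCommGrpIso) (fun {M M''} g => by
    apply ConcreteCategory.hom_ext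
    intro c
    exact tE_natural K p g c)

end Homology

end Groth.Agent.Helper7.GenBC
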