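import Mathlib
import Groth.Prelude.Def_ega3
import Groth.Agent.Lib.Helper4.ExchAlg1
import Groth.Agent.Lib.Helper7.GenBC.TBc

set_option linter.style.haveILetI false
set_option linter.unusedVariables false
set_option linter.unusedSectionVars false
set_option autoImplicit false
set_option backward.isDefEq.respectTransparency.types false
set_option backward.isDefEq.respectTransparency false
set_option synthInstance.maxHeartbeats 400000
set_option maxHeartbeats 1600000

universe u

/-! helper7: the local exchange criterion without Noetherian hypotheses: generation of T^p at a field point gives an element g such that T^p of the base changes of a finite free complex preserves surjections after inverting g -/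

open CategoryTheory CategoryTheory.Limits TensorProduct MonoidalCategory
open Groth.Agent.Lib.Helper4.HomEl1
open Groth.Agent.Lib.Helper4.ExchAlg1

namespace Groth.Agent.Helper7.GenBC

section GenAt

variable {B : Type u} [CommRing B]

/-- the value of a functor at a module `N` is generated by the images of its value at `U` under a
map `π : U ⟶ N` followed by the endomorphisms of `N` in a given set -/
def GenAt (G : ModuleCat.{u} B ⥤ AddCommGrpCat.{u}) {U N : ModuleCat.{u} B} (π : U ⟶ N)
    (Λ : Set (N ⟶ N)) : Prop :=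
  AddSubgroup.closure
    {x : G.obj N | ∃ l ∈ Λ, ∃ t : G.obj U, x = (G.map l).hom ((G.map π).hom t)} = ⊤

theorem GenAt.of_iso {G G' : ModuleCat.{u} B ⥤ AddCommGrpCat.{u}} (e : G ≅ G')
    {U N : ModuleCat.{u} B} (π : U ⟶ N) (Λ : Set (N ⟶ N)) (h : GenAt G π Λ) :
    GenAt G' π Λ := by
  unfold GenAt at h ⊢
  rw [eq_top_iff]
  intro y _
  have hx : (e.inv.app N).hom y ∈ AddSubgroup.closure
      {x : G.obj N | ∃ l ∈ Λ, ∃ t : G.obj U, x = (G.map l).hom ((G.map π).hom t)} := by
    rw [h]
    exact AddSubgroup.mem_top _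
  have hy : y = (e.hom.app N).hom ((e.inv.app N).hom y) :=
    (ConcreteCategory.congr_hom (e.inv_hom_id_app N) y).symm
  rw [hy]
  refine AddSubgroup.closure_induction
    (p := fun x _ => (e.hom.app N).hom x ∈ AddSubgroup.closure
      {x : G'.obj N | ∃ l ∈ Λ, ∃ t : G'.obj U, x = (G'.map l).hom ((G'.map π).hom t)})
    ?_ ?_ ?_ ?_ hx
  · rintro x ⟨l, hl, t, rfl⟩
    apply AddSubgroup.subset_closure
    refine ⟨l, hl, (e.hom.app U).hom t, ?_⟩
    have h1 : (e.hom.app N).hom ((G.map l).hom ((G.map π).hom t)) =
        (G'.map l).hom ((e.hom.app N).hom ((G.map π).hom t)) :=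
      ConcreteCategory.congr_hom (e.hom.naturality l) ((G.map π).hom t)
    have h2 : (e.hom.app N).hom ((G.map π).hom t) = (G'.map π).hom ((e.hom.app U).hom t) :=
      ConcreteCategory.congr_hom (e.hom.naturality π) t
    exact h1.trans (congrArg (G'.map l).hom h2)
  · rw [map_zero]
    exact zero_mem _
  · intro x y _ _ hx hy
    rw [map_add]
    exact add_mem hx hy
  · intro x _ hx
    rw [map_neg]
    exact neg_mem hx

end GenAt

section X2

variable {A : Type u} [CommRing A] (L : CochainComplex (ModuleCat.{u} A) ℤ) (o p q : ℤ)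
  (hop : o + 1 = p) (hpq : p + 1 = q)

include hop hpq in
/-- if `T^p(N)` is generated by the image of `T^p(A)` and endomorphisms of `N`, then
`B^q ⊗ N → L^q ⊗ N` is injective -/
theorem injective_of_genAt {N : ModuleCat.{u} A} (π : ModuleCat.of A A ⟶ N) (Λ : Set (N ⟶ N))
    (h : GenAt (CohIII.TFun L p ⋙ forget₂ (ModuleCat.{u} A) AddCommGrpCat.{u}) π Λ) :
    Function.Injective ((Bq L p q).subtype.rTensor N) := by
  obtain ⟨S, hS⟩ := exists_addHom_of_surjective (cls (KM L N) p q hpq).toAddMonoidHom
    (cls_surjective (KM L N) p q hpq) (AddMonoidHom.id (Bq L p q ⊗[A] N))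
    (((sig L p q).rTensor N).toAddMonoidHom.comp (Zs (KM L N) p q).subtype.toAddMonoidHom)
    (fun z hz => by
      obtain ⟨w, hw⟩ := (cls_eq_zero_iff (KM L N) o p q hop hpq z).1 hz
      change (sig L p q).rTensor N z.1 = 0
      rw [← hw]
      change (sig L p q).rTensor N ((L.d o p).hom.rTensor N w) = 0
      rw [← LinearMap.comp_apply, ← LinearMap.rTensor_comp, sig_comp_d L o p q,
        LinearMap.rTensor_zero, LinearMap.zero_apply])
  have hS' : ∀ z : Zs (KM L N) p q,
      S (cls (KM L N) p q hpq z) = (sig L p q).rTensor N z.1 := hS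
  have c1 : ∀ {N₁ N₂ : ModuleCat.{u} A} (g : N₁ ⟶ N₂) (x : L.X p ⊗[A] N₁),
      (sig L p q).rTensor N₂ (g.hom.lTensor (L.X p) x) =
        g.hom.lTensor (Bq L p q) ((sig L p q).rTensor N₁ x) := by
    intro N₁ N₂ g x
    rw [← LinearMap.comp_apply, LinearMap.rTensor_comp_lTensor, ← LinearMap.lTensor_comp_rTensor,
      LinearMap.comp_apply]
  have hall : ∀ x : (KM L N).homology p, S x = 0 := by
    intro x
    unfold GenAt at h
    have hx : x ∈ AddSubgroup.closure
        {x : (CohIII.TFun L p ⋙ forget₂ (ModuleCat.{u} A) AddCommGrpCat.{u}).obj N |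
          ∃ l ∈ Λ, ∃ t : (CohIII.TFun L p ⋙ forget₂ (ModuleCat.{u} A) AddCommGrpCat.{u}).obj
            (ModuleCat.of A A),
            x = ((CohIII.TFun L p ⋙ forget₂ (ModuleCat.{u} A) AddCommGrpCat.{u}).map l).hom
              (((CohIII.TFun L p ⋙ forget₂ (ModuleCat.{u} A) AddCommGrpCat.{u}).map π).hom t)} := by
      rw [h]
      exact AddSubgroup.mem_top _
    refine AddSubgroup.closure_induction (p := fun x _ => S x = 0) ?_ (map_zero S)
      (fun x y _ _ hx hy => by rw [map_add, hx, hy, add_zero])
      (fun x _ hx => by rw [map_neg, hx, neg_zero]) hx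
    rintro x ⟨l, hl, t, rfl⟩
    obtain ⟨y, rfl⟩ := cls_surjective (KM L (ModuleCat.of A A)) p q hpq t
    have e1 : ((CohIII.TFun L p).map π).hom (cls (KM L (ModuleCat.of A A)) p q hpq y) =
        cls (KM L N) p q hpq ⟨((CohIII.tensorMap L π).f p).hom y.1,
          map_mem (CohIII.tensorMap L π) p q y⟩ := map_cls (CohIII.tensorMap L π) p q hpq y
    have e2 := map_cls (CohIII.tensorMap L l) p q hpq
      ⟨((CohIII.tensorMap L π).f p).hom y.1, map_mem (CohIII.tensorMap L π) p q y⟩
    change S (((CohIII.TFun L p).map l).hom (((CohIII.TFun L p).map π).hom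
      (cls (KM L (ModuleCat.of A A)) p q hpq y))) = 0
    rw [e1]
    refine (congrArg S e2).trans ?_
    rw [hS']
    change (sig L p q).rTensor N (l.hom.lTensor (L.X p) (π.hom.lTensor (L.X p) y.1)) = 0
    have h5 : (sig L p q).rTensor (ModuleCat.of A A) y.1 = 0 := by
      apply Module.Flat.rTensor_preserves_injective_linearMap (M := A) (Bq L p q).subtype
        Subtype.val_injective
      rw [map_zero, ← LinearMap.comp_apply, ← LinearMap.rTensor_comp, subtype_comp_sig]
      exact y.2
    rw [c1, c1, h5, map_zero, map_zero]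
  rw [injective_iff_map_eq_zero]
  intro x hx
  obtain ⟨y'', rfl⟩ := LinearMap.rTensor_surjective N (sig_surjective L p q) x
  have hy'' : y'' ∈ Zs (KM L N) p q := by
    change (L.d p q).hom.rTensor N y'' = 0
    rw [← subtype_comp_sig, LinearMap.rTensor_comp, LinearMap.comp_apply]
    exact hx
  have h6 := hS' ⟨y'', hy''⟩
  rw [hall] at h6
  exact h6.symm

end X2

section Retract

variable {A : Type u} [CommRing A] {k : Type u} [Field k] [Algebra A k]

/-- injectivity after tensoring with a field extension of the residue field descends to the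
residue field -/
theorem injective_rTensor_residueField {Mm Nn : Type u} [AddCommGroup Mm] [Module A Mm]
    [AddCommGroup Nn] [Module A Nn] (f : Mm →ₗ[A] Nn)
    (h : Function.Injective (f.rTensor k)) :
    haveI : (RingHom.ker (algebraMap A k)).IsPrime := RingHom.ker_isPrime _
    Function.Injective (f.rTensor (RingHom.ker (algebraMap A k)).ResidueField) := by
  haveI hP : (RingHom.ker (algebraMap A k)).IsPrime := RingHom.ker_isPrime _
  let ι : (RingHom.ker (algebraMap A k)).ResidueField →+* k :=
    Ideal.ResidueField.lift (RingHom.ker (algebraMap A k)) (algebraMap A k) le_rfl (fun a ha => by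
      change IsUnit (algebraMap A k a)
      exact IsUnit.mk0 _ (fun h0 => ha (RingHom.mem_ker.2 h0)))
  have hι : ∀ a : A, ι (algebraMap A (RingHom.ker (algebraMap A k)).ResidueField a) =
      algebraMap A k a := fun a => Ideal.ResidueField.lift_algebraMap _ _ _ _ a
  let ιL : (RingHom.ker (algebraMap A k)).ResidueField →ₗ[A] k :=
    { toFun := ι
      map_add' := map_add ι
      map_smul' := fun a x => by
        change ι (a • x) = a • ι x
        rw [Algebra.smul_def, map_mul, hι, Algebra.smul_def] }
  letI : Algebra (RingHom.ker (algebraMap A k)).ResidueField k := ι.toAlgebra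
  obtain ⟨ρ₀, hρ₀⟩ := LinearMap.exists_leftInverse_of_injective
    (Algebra.linearMap (RingHom.ker (algebraMap A k)).ResidueField k)
    (LinearMap.ker_eq_bot.2 (by exact ι.injective))
  let ρ : k →ₗ[A] (RingHom.ker (algebraMap A k)).ResidueField :=
    { toFun := ρ₀
      map_add' := map_add ρ₀
      map_smul' := fun a x => by
        change ρ₀ (a • x) = a • ρ₀ x
        have h1 : a • x =
            (algebraMap A (RingHom.ker (algebraMap A k)).ResidueField a) • x := by
          change _ = ι (algebraMap A (RingHom.ker (algebraMap A k)).ResidueField a) * x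
          rw [hι, Algebra.smul_def]
        rw [h1, map_smul, smul_eq_mul, Algebra.smul_def] }
  have hρι : ρ ∘ₗ ιL = LinearMap.id := by
    apply LinearMap.ext
    intro x
    exact LinearMap.congr_fun hρ₀ x
  intro x y hxy
  have e : ∀ z, f.rTensor k (ιL.lTensor Mm z) =
      ιL.lTensor Nn (f.rTensor (RingHom.ker (algebraMap A k)).ResidueField z) := fun z => by
    rw [← LinearMap.comp_apply, ← LinearMap.comp_apply, LinearMap.rTensor_comp_lTensor,
      LinearMap.lTensor_comp_rTensor]
  have h1 : ιL.lTensor Mm x = ιL.lTensor Mm y := by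
    apply h
    rw [e, e, hxy]
  have h2 := congrArg (ρ.lTensor Mm) h1
  rw [← LinearMap.comp_apply, ← LinearMap.comp_apply, ← LinearMap.lTensor_comp, hρι,
    LinearMap.lTensor_id] at h2
  exact h2

/-- **freeness of a cokernel at the kernel of a map to a field**, from injectivity after tensoring
with the field -/
theorem mem_freeLocus_of_injective {Mm Nn Pp : Type u} [AddCommGroup Mm] [Module A Mm]
    [AddCommGroup Nn] [Module A Nn] [AddCommGroup Pp] [Module A Pp]
    [Module.Finite A Mm] [Module.Finite A Nn] [Module.Free A Nn]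
    (f : Mm →ₗ[A] Nn) (g : Nn →ₗ[A] Pp) (hg : Function.Surjective g) (hfg : Function.Exact f g)
    (h : Function.Injective (f.rTensor k)) :
    (⟨RingHom.ker (algebraMap A k), RingHom.ker_isPrime _⟩ : PrimeSpectrum A) ∈
      Module.freeLocus A Pp := by
  haveI hP : (RingHom.ker (algebraMap A k)).IsPrime := RingHom.ker_isPrime _
  have h1 := injective_rTensor_residueField f h
  have h2 : Function.Injective ((f.baseChange (Localization.AtPrime
      (RingHom.ker (algebraMap A k)))).rTensor (RingHom.ker (algebraMap A k)).ResidueField) := by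
    intro x y hxy
    have h3 := congrArg (cE (B := Localization.AtPrime (RingHom.ker (algebraMap A k))) Nn
      (RingHom.ker (algebraMap A k)).ResidueField) hxy
    rw [cE_d, cE_d] at h3
    exact (cE (B := Localization.AtPrime (RingHom.ker (algebraMap A k))) Mm
      (RingHom.ker (algebraMap A k)).ResidueField).injective (h1 h3)
  rw [Module.mem_freeLocus_iff_tensor _ (Localization.AtPrime (RingHom.ker (algebraMap A k)))]
  have hex : Function.Exact
      (f.baseChange (Localization.AtPrime (RingHom.ker (algebraMap A k))))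
      (g.baseChange (Localization.AtPrime (RingHom.ker (algebraMap A k)))) := by
    rw [LinearMap.baseChange_eq_ltensor, LinearMap.baseChange_eq_ltensor]
    exact lTensor_exact _ hfg hg
  have hsurj : Function.Surjective
      (g.baseChange (Localization.AtPrime (RingHom.ker (algebraMap A k)))) := by
    rw [LinearMap.baseChange_eq_ltensor]
    exact LinearMap.lTensor_surjective _ hg
  exact Module.free_of_lTensor_residueField_injective
    (f.baseChange (Localization.AtPrime (RingHom.ker (algebraMap A k))))
    (g.baseChange (Localization.AtPrime (RingHom.ker (algebraMap A k)))) hsurj hex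
    ((LinearMap.lTensor_inj_iff_rTensor_inj _ _).2 h2)

end Retract

section Proj

/-- a finitely presented module free at a point becomes projective over every algebra in which
a suitable element not vanishing at the point is invertible -/
theorem exists_unit_projective {A : Type u} [CommRing A] (W : Type u) [AddCommGroup W]
    [Module A W] [Module.FinitePresentation A W] (P : PrimeSpectrum A)
    (hP : P ∈ Module.freeLocus A W) :
    ∃ g : A, g ∉ P.asIdeal ∧ ∀ (B : Type u) [CommRing B] [Algebra A B],
      IsUnit (algebraMap A B g) → Module.Projective B (B ⊗[A] W) := by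
  obtain ⟨_, ⟨g, rfl⟩, hPg, hsub⟩ :=
    PrimeSpectrum.isTopologicalBasis_basic_opens.exists_subset_of_mem_open hP
      Module.isOpen_freeLocus
  refine ⟨g, hPg, fun B _ _ hu => ?_⟩
  rw [← Module.freeLocus_eq_univ_iff, Set.eq_univ_iff_forall]
  intro P'
  apply Module.comap_freeLocus_le
  change PrimeSpectrum.comap (algebraMap A B) P' ∈ Module.freeLocus A W
  apply hsub
  change g ∉ (PrimeSpectrum.comap (algebraMap A B) P').asIdeal
  intro hg
  exact P'.isPrime.ne_top (Ideal.eq_top_of_isUnit_mem _ hg hu)

end Proj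

section W

variable {A B : Type u} [CommRing A] [CommRing B] [Algebra A B]
  (K : CochainComplex (ModuleCat.{u} A) ℤ) (p q : ℤ)

/-- the cokernel of a differential commutes with base change -/
noncomputable def wEquiv :
    ((bcK (B := B) K).X q ⧸ Bq (bcK (B := B) K) p q) ≃ₗ[B] B ⊗[A] (K.X q ⧸ Bq K p q) :=
  Function.Exact.linearEquivOfSurjective (f := (K.d p q).hom.baseChange B)
    (g := (Bq K p q).mkQ.baseChange B)
    (by
      rw [LinearMap.baseChange_eq_ltensor, LinearMap.baseChange_eq_ltensor]
      exact lTensor_exact B (LinearMap.exact_map_mkQ_range (K.d p q).hom)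
        (Submodule.mkQ_surjective _))
    (by
      rw [LinearMap.baseChange_eq_ltensor]
      exact LinearMap.lTensor_surjective B (Submodule.mkQ_surjective _))

end W

section Main

variable {A₁ A : Type u} [CommRing A₁] [CommRing A] [Algebra A₁ A]
  (K : CochainComplex (ModuleCat.{u} A₁) ℤ) (p : ℤ)
  [Module.Finite A₁ (K.X p)] [Module.Finite A₁ (K.X (p + 1))] [Module.Free A₁ (K.X (p + 1))]
  {k : Type u} [Field k] [Algebra A k]

/-- **the local exchange criterion without Noetherian hypotheses**: for a complex `K` with finite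
free terms in degrees `p`, `p + 1` over a ring `A₁`, an `A₁`-algebra `A` and a map from `A` to a
field `k`, if the cohomology `T^p(k)` of the base change of `K` to `A` is generated by the image of
`T^p(A)` and endomorphisms of `k`, then there is an element `g` of `A` not vanishing in `k` such
that the functor `T^p` of the base change of `K` to any `A`-algebra in which `g` is invertible
preserves surjections -/
theorem exists_unit_presSurj_of_genAt (Λ : Set (ModuleCat.of A k ⟶ ModuleCat.of A k))
    (h : GenAt (CohIII.TFun (bcK (B := A) K) p ⋙ forget₂ (ModuleCat.{u} A) AddCommGrpCat.{u})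
      (ModuleCat.ofHom (Algebra.linearMap A k)) Λ) :
    ∃ g : A, algebraMap A k g ≠ 0 ∧
      ∀ (B : Type u) [CommRing B] [Algebra A B] [Algebra A₁ B] [IsScalarTower A₁ A B],
        IsUnit (algebraMap A B g) → PresSurj (bcK (B := B) K) p := by
  haveI : Module.Finite A ((bcK (B := A) K).X p) :=
    show Module.Finite A (A ⊗[A₁] K.X p) from inferInstance
  haveI : Module.Finite A ((bcK (B := A) K).X (p + 1)) :=
    show Module.Finite A (A ⊗[A₁] K.X (p + 1)) from inferInstance
  haveI : Module.Free A ((bcK (B := A) K).X (p + 1)) :=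
    show Module.Free A (A ⊗[A₁] K.X (p + 1)) from inferInstance
  have h1 := injective_of_genAt (bcK (B := A) K) (p - 1) p (p + 1) (sub_add_cancel p 1) rfl _ Λ h
  have hfree := mem_freeLocus_of_injective (k := k) (Bq (bcK (B := A) K) p (p + 1)).subtype
    (Bq (bcK (B := A) K) p (p + 1)).mkQ (Submodule.mkQ_surjective _)
    (LinearMap.exact_subtype_mkQ _) h1
  have hfg : (LinearMap.ker (Bq (bcK (B := A) K) p (p + 1)).mkQ).FG := by
    rw [Submodule.ker_mkQ]
    change (LinearMap.range ((bcK (B := A) K).d p (p + 1)).hom).FG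
    rw [LinearMap.range_eq_map]
    exact Module.Finite.fg_top.map _
  haveI : Module.FinitePresentation A
      ((bcK (B := A) K).X (p + 1) ⧸ Bq (bcK (B := A) K) p (p + 1)) :=
    Module.finitePresentation_of_free_of_surjective (Bq (bcK (B := A) K) p (p + 1)).mkQ
      (Submodule.mkQ_surjective _) hfg
  obtain ⟨g, hg, hproj⟩ := exists_unit_projective
    ((bcK (B := A) K).X (p + 1) ⧸ Bq (bcK (B := A) K) p (p + 1)) _ hfree
  refine ⟨g, fun h0 => hg (RingHom.mem_ker.2 h0), fun B _ _ _ _ hu => ?_⟩
  haveI hp := hproj B hu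
  let e1 : ((bcK (B := A) K).X (p + 1) ⧸ Bq (bcK (B := A) K) p (p + 1)) ≃ₗ[A]
      A ⊗[A₁] (K.X (p + 1) ⧸ Bq K p (p + 1)) := wEquiv (B := A) K p (p + 1)
  let e2 : B ⊗[A] ((bcK (B := A) K).X (p + 1) ⧸ Bq (bcK (B := A) K) p (p + 1)) ≃ₗ[B]
      B ⊗[A] (A ⊗[A₁] (K.X (p + 1) ⧸ Bq K p (p + 1))) :=
    AlgebraTensorModule.congr (LinearEquiv.refl B B) e1
  let e3 : B ⊗[A] (A ⊗[A₁] (K.X (p + 1) ⧸ Bq K p (p + 1))) ≃ₗ[B]
      B ⊗[A₁] (K.X (p + 1) ⧸ Bq K p (p + 1)) :=
    AlgebraTensorModule.cancelBaseChange A₁ A B B (K.X (p + 1) ⧸ Bq K p (p + 1))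
  let e4 : ((bcK (B := B) K).X (p + 1) ⧸ Bq (bcK (B := B) K) p (p + 1)) ≃ₗ[B]
      B ⊗[A₁] (K.X (p + 1) ⧸ Bq K p (p + 1)) := wEquiv (B := B) K p (p + 1)
  have hflat : Module.Flat B ((bcK (B := B) K).X (p + 1) ⧸ Bq (bcK (B := B) K) p (p + 1)) :=
    Module.Flat.of_linearEquiv (e4 ≪≫ₗ e3.symm ≪≫ₗ e2.symm)
  haveI : Module.Flat B ((bcK (B := B) K).X (p + 1)) :=
    show Module.Flat B (B ⊗[A₁] K.X (p + 1)) from inferInstance
  exact (presSurj_iff_flat (bcK (B := B) K) (p - 1) p (p + 1) (sub_add_cancel p 1) rfl).2 hflat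

end Main

end Groth.Agent.Helper7.GenBC
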