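import Mathlib
import Groth.Prelude.Def_CohCmp
import Groth.Agent.Lib.Helper7.GenBC.Core
import Groth.Agent.Lib.Helper7.GenBC.FlatW
import Groth.Agent.Lib.Helper7.GenBC.LocAlg

set_option linter.style.haveILetI false
set_option linter.unusedVariables false
set_option linter.unusedSectionVars false
set_option autoImplicit false
set_option backward.isDefEq.respectTransparency.types false
set_option backward.isDefEq.respectTransparency false
set_option synthInstance.maxHeartbeats 400000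
set_option maxHeartbeats 1600000

universe u

/-! helper7: from schemes to Cech functors: if the pullback map on cohomology along a base change over A to B generates over B, then the value at B of the functor T^p of the Cech complex is generated by the image of its value at A -/

open CategoryTheory CategoryTheory.Limits Opposite TopologicalSpace AlgebraicGeometry
open TensorProduct
open AlgebraicGeometry.Scheme.Modules
open Groth.Agent.Helper1
open Groth.Agent.Lib.Helper4.BaseChgRing1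
open Groth.Agent.Lib.Helper4.TenSec2
open Groth.Agent.Lib.Helper4.LocCech1
open Groth.Agent.Lib.Helper4.CechTen1
open Groth.Agent.Lib.Helper4.CechTen2
open Groth.Agent.Lib.Helper4.CechTen3
open Groth.Agent.Lib.Helper4.BCSec1
open Groth.Agent.Lib.Helper4.BCSec2
open Groth.Agent.Lib.Helper4.HomEl1
open Groth.Agent.Lib.Helper4.ExchAlg1
open Groth.Agent.Lead.FBC

namespace Groth.Agent.Helper7.GenBC

attribute [local instance] secMod

section Facts

variable {A B : Type u} [CommRing A] [CommRing B] (φ : A →+* B)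
variable {X X' : Scheme.{u}} [X.Over (Spec (CommRingCat.of A))] [X'.Over (Spec (CommRingCat.of B))]
variable (r : X' ⟶ X) (G : X.Modules) {ι : Type u} (U : ι → X.Opens)

theorem cC_surjective [Finite ι] [G.IsQuasicoherent]
    (haff : ∀ (n : ℕ) (a : Fin (n + 1) → ι), IsAffineOpen (TCx.W U a)) (hcov : iSup U = ⊤)
    (p : ℕ) : Function.Surjective (cC (A := A) G U hcov p) := fun x => by
  obtain ⟨z, hz, rfl⟩ := cc_surjective G U hcov haff p x
  exact ⟨⟨z, LinearMap.mem_ker.2 ((DdA_apply A G U p z).trans hz)⟩, rfl⟩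

variable (N : X'.Modules)

theorem cD_eq_zero_iff_cc [IsAffineHom r] [N.IsQuasicoherent] (hcov : iSup U = ⊤) (p : ℕ)
    (w : LinearMap.ker (DdA B N (Up r U) p)) :
    cD r U N hcov p w = 0 ↔
      cc ((Scheme.Modules.pushforward r).obj N) U hcov p (rhoInv r U N p w.1)
        (rhoInv_mem r U N hcov p w) = 0 := by
  have hpe := Groth.Agent.Helper3.EdgeMod.pushEdge_bijective_of_isAffineHom r N p
  rw [cD_apply]
  constructor
  · intro h
    exact hpe.1 (h.trans (map_zero _).symm)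
  · intro h
    rw [h, map_zero]

theorem cD_eq_zero_iff_zero [Finite ι] [IsAffineHom r] [N.IsQuasicoherent]
    [((Scheme.Modules.pushforward r).obj N).IsQuasicoherent]
    (haff : ∀ (n : ℕ) (a : Fin (n + 1) → ι), IsAffineOpen (TCx.W U a)) (hcov : iSup U = ⊤)
    (w : LinearMap.ker (DdA B N (Up r U) 0)) :
    cD r U N hcov 0 w = 0 ↔ w.1 = 0 := by
  rw [cD_eq_zero_iff_cc, cc_eq_zero_iff_zero _ U hcov haff]
  constructor
  · intro h
    have h1 := congrArg (rhoFwd r U N 0) h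
    rwa [rhoFwd_rhoInv, rhoFwd_zero] at h1
  · intro h
    rw [h]
    exact rhoInv_zero r U N 0

theorem cD_eq_zero_iff_succ [Finite ι] [IsAffineHom r] [N.IsQuasicoherent]
    [((Scheme.Modules.pushforward r).obj N).IsQuasicoherent]
    (haff : ∀ (n : ℕ) (a : Fin (n + 1) → ι), IsAffineOpen (TCx.W U a)) (hcov : iSup U = ⊤)
    (q : ℕ) (w : LinearMap.ker (DdA B N (Up r U) (q + 1))) :
    cD r U N hcov (q + 1) w = 0 ↔ ∃ y, DdA B N (Up r U) q y = w.1 := by
  rw [cD_eq_zero_iff_cc, cc_eq_zero_iff_succ _ U hcov haff q]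
  constructor
  · rintro ⟨y0, hy0⟩
    refine ⟨rhoFwd r U N q y0, ?_⟩
    rw [DdA_apply, rhoFwd_Dd, hy0, rhoFwd_rhoInv]
  · rintro ⟨y', hy'⟩
    refine ⟨rhoInv r U N q y', ?_⟩
    rw [rhoInv_Dd, ← DdA_apply B, hy']

theorem cD_surjective [Finite ι] [IsAffineHom r] [N.IsQuasicoherent]
    [((Scheme.Modules.pushforward r).obj N).IsQuasicoherent]
    (haff : ∀ (n : ℕ) (a : Fin (n + 1) → ι), IsAffineOpen (TCx.W U a)) (hcov : iSup U = ⊤)
    (p : ℕ) : Function.Surjective (cD (B := B) r U N hcov p) := fun x => by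
  have hpe := Groth.Agent.Helper3.EdgeMod.pushEdge_bijective_of_isAffineHom r N p
  obtain ⟨y', rfl⟩ := hpe.2 x
  obtain ⟨y, hy, rfl⟩ := cc_surjective _ U hcov haff p y'
  have hw : rhoFwd r U N p y ∈ LinearMap.ker (DdA B N (Up r U) p) := by
    rw [LinearMap.mem_ker, DdA_apply, rhoFwd_Dd, hy, rhoFwd_zero]
  refine ⟨⟨rhoFwd r U N p y, hw⟩, ?_⟩
  rw [cD_apply]
  congr 1
  exact cc_congr U _ hcov p (rhoInv_rhoFwd r U N p y) _ _

theorem uCo_mem_ker (p : ℕ) (z : LinearMap.ker (DdA A G U p)) :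
    uCo r G U p z.1 ∈ LinearMap.ker (DdA B (Fp r G) (Up r U) p) := by
  rw [LinearMap.mem_ker, DdA_apply, ← uCo_Dd, ← DdA_apply A, LinearMap.mem_ker.1 z.2]
  funext a
  exact map_zero (uAdd r G (Wp_eq r U a).le)

theorem pullMod_cC (hcov : iSup U = ⊤) (p : ℕ) (z : LinearMap.ker (DdA A G U p)) :
    CohPull.pullMod r G p (cC (A := A) G U hcov p z) =
      cD (B := B) r U (Fp r G) hcov p ⟨uCo r G U p z.1, uCo_mem_ker r G U p z⟩ := by
  rw [pullMod_eq_pushEdge, cD_apply, cC_apply]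
  congr 1
  refine (cc_nat U hcov ((SheafOfModules.toSheaf X.ringCatSheaf).map
    ((pullbackPushforwardAdjunction r).unit.app G)) p z.1
    ((DdA_apply A G U p z.1).symm.trans (LinearMap.mem_ker.1 z.2))).trans ?_
  refine cc_congr U _ hcov p ?_ _ _
  rw [rhoInv_uCo]

end Facts

section Sgm

variable {A B : Type u} [CommRing A] [CommRing B] (φ : A →+* B)
variable {X X' : Scheme.{u}} [X.Over (Spec (CommRingCat.of A))] [X'.Over (Spec (CommRingCat.of B))]
variable (r : X' ⟶ X) (G : X.Modules) {ι : Type u} (U : ι → X.Opens)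
variable (hw : r ≫ (X ↘ Spec (CommRingCat.of A)) =
      (X' ↘ Spec (CommRingCat.of B)) ≫ Spec.map (CommRingCat.ofHom φ))

theorem exN_d (n : ℕ) (x : (CZ A G U).X (n : ℤ)) :
    (exN A G U (n + 1)).toLinearEquiv (((CZ A G U).d (n : ℤ) ((n + 1 : ℕ) : ℤ)).hom x) =
      DdA A G U n ((exN A G U n).toLinearEquiv x) := by
  have h2 := congrArg (fun m => m ≫ (exN A G U (n + 1)).hom) (CZ_d A G U n)
  simp only [Category.assoc, Iso.inv_hom_id, Category.comp_id] at h2
  exact ConcreteCategory.congr_hom h2 x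

/-- the comparison of `C^n ⊗_A B` with the cochains of the pulled back module -/
noncomputable def sgm (n : ℕ) :
    letI := φ.toAlgebra
    (CZ A G U).X (n : ℤ) ⊗[A] B →+ Co (Fp r G) (Up r U) n :=
  letI := φ.toAlgebra
  (tens (semiLin_uCo φ r G U hw n)).comp
    (((exN A G U n).toLinearEquiv.rTensor B).trans
      (TensorProduct.comm A (Co G U n) B)).toLinearMap.toAddMonoidHom

theorem sgm_tmul (n : ℕ) (x : (CZ A G U).X (n : ℤ)) (c : B) :
    letI := φ.toAlgebra
    sgm φ r G U hw n (x ⊗ₜ[A] c) = c • uCo r G U n ((exN A G U n).toLinearEquiv x) := rfl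

theorem sgm_bijective [Finite ι] [G.IsQuasicoherent]
    (hsq : IsPullback r (X' ↘ Spec (CommRingCat.of B)) (X ↘ Spec (CommRingCat.of A))
      (Spec.map (CommRingCat.ofHom φ)))
    (haff : ∀ (n : ℕ) (a : Fin (n + 1) → ι), IsAffineOpen (TCx.W U a)) (n : ℕ) :
    letI := φ.toAlgebra
    Function.Bijective (sgm φ r G U hsq.w n) := by
  letI := φ.toAlgebra
  exact (tens_uCo_bijective φ r G U hsq haff n).comp (LinearEquiv.bijective _)

theorem sgm_d (n : ℕ) :
    letI := φ.toAlgebra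
    ∀ x : (CZ A G U).X (n : ℤ) ⊗[A] B,
    sgm φ r G U hw (n + 1) (((CZ A G U).d (n : ℤ) ((n + 1 : ℕ) : ℤ)).hom.rTensor B x) =
      DdA B (Fp r G) (Up r U) n (sgm φ r G U hw n x) := by
  letI := φ.toAlgebra
  intro x
  induction x using TensorProduct.induction_on with
  | zero => rw [map_zero, map_zero, map_zero, map_zero]
  | add x y hx hy => rw [map_add, map_add, hx, hy, map_add, map_add]
  | tmul x c =>
    rw [LinearMap.rTensor_tmul, sgm_tmul, sgm_tmul, exN_d,
      (DdA B (Fp r G) (Up r U) n).map_smul, DdA_apply, DdA_apply, uCo_Dd]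

theorem sgm_mul (n : ℕ) (c' : B) :
    letI := φ.toAlgebra
    ∀ x : (CZ A G U).X (n : ℤ) ⊗[A] B,
    sgm φ r G U hw n ((LinearMap.mulLeft A c').lTensor ((CZ A G U).X (n : ℤ)) x) =
      c' • sgm φ r G U hw n x := by
  letI := φ.toAlgebra
  intro x
  induction x using TensorProduct.induction_on with
  | zero => rw [map_zero, map_zero, smul_zero]
  | add x y hx hy => rw [map_add, map_add, hx, hy, map_add, smul_add]
  | tmul x c =>
    rw [LinearMap.lTensor_tmul, sgm_tmul, sgm_tmul, LinearMap.mulLeft_apply, mul_smul]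

/-- a cocycle of the pulled back module with vanishing class is the image of a coboundary of
`C ⊗_A B` -/
theorem exists_bdry [Finite ι] [G.IsQuasicoherent]
    (hsq : IsPullback r (X' ↘ Spec (CommRingCat.of B)) (X ↘ Spec (CommRingCat.of A))
      (Spec.map (CommRingCat.ofHom φ)))
    (haff : ∀ (n : ℕ) (a : Fin (n + 1) → ι), IsAffineOpen (TCx.W U a)) (hcov : iSup U = ⊤)
    (p : ℕ) (w : LinearMap.ker (DdA B (Fp r G) (Up r U) p))
    (h : cD (B := B) r U (Fp r G) hcov p w = 0) :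
    letI := φ.toAlgebra
    ∃ (o : ℤ) (hop : o + 1 = (p : ℤ)) (v : (CZ A G U).X o ⊗[A] B),
      sgm φ r G U hsq.w p (((CZ A G U).d o (p : ℤ)).hom.rTensor B v) = w.1 := by
  letI := φ.toAlgebra
  haveI : IsAffineHom r := isAffineHom_of_sq φ r hsq
  haveI : (Fp r G).IsQuasicoherent := Groth.Agent.Lead.PB.isQuasicoherent_pullback _ _
  haveI : ((Scheme.Modules.pushforward r).obj (Fp r G)).IsQuasicoherent :=
    Groth.Agent.Helper1.PushQc.isQuasicoherent_pushforward r (Fp r G)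
  cases p with
  | zero =>
    have h0 := (cD_eq_zero_iff_zero r U (Fp r G) haff hcov w).1 h
    refine ⟨-1, by norm_num, 0, ?_⟩
    rw [map_zero, map_zero]
    exact h0.symm
  | succ k =>
    obtain ⟨y', hy'⟩ := (cD_eq_zero_iff_succ r U (Fp r G) haff hcov k w).1 h
    obtain ⟨v, rfl⟩ := (sgm_bijective φ r G U hsq haff k).2 y'
    refine ⟨(k : ℤ), by push_cast; ring, v, ?_⟩
    rw [← hy']
    exact sgm_d φ r G U hsq.w k v

end Sgm

section Gen

variable {A B : Type u} [CommRing A] [CommRing B] (φ : A →+* B)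
variable {X X' : Scheme.{u}} [X.Over (Spec (CommRingCat.of A))] [X'.Over (Spec (CommRingCat.of B))]
variable (r : X' ⟶ X) (G : X.Modules) {ι : Type u} (U : ι → X.Opens)

/-- **from the schemes to the Čech functors**: if the pullback map on cohomology in degree `p`
along the base change `X' → X` over `A → B` generates `H^p(X', r^*G)` over `B`, then the value at
`B` of the functor `T^p` of the Čech complex is generated by the image of its value at `A` and
the multiplications by elements of `B` -/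
theorem genAt_CZ_of_span [Finite ι] [G.IsQuasicoherent]
    (hsq : IsPullback r (X' ↘ Spec (CommRingCat.of B)) (X ↘ Spec (CommRingCat.of A))
      (Spec.map (CommRingCat.ofHom φ)))
    (haff : ∀ (n : ℕ) (a : Fin (n + 1) → ι), IsAffineOpen (TCx.W U a)) (hcov : iSup U = ⊤)
    (p : ℕ) (hspan : Submodule.span B (Set.range (CohPull.pullMod r G p)) = ⊤) :
    letI := φ.toAlgebra
    GenAt (CohIII.TFun (CZ A G U) (p : ℤ) ⋙ forget₂ (ModuleCat.{u} A) AddCommGrpCat.{u})
      (ModuleCat.ofHom (Algebra.linearMap A B))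
      (Set.range fun c : B => ModuleCat.ofHom (LinearMap.mulLeft A c)) := by
  letI := φ.toAlgebra
  haveI : IsAffineHom r := isAffineHom_of_sq φ r hsq
  haveI : (Fp r G).IsQuasicoherent := Groth.Agent.Lead.PB.isQuasicoherent_pullback _ _
  haveI : ((Scheme.Modules.pushforward r).obj (Fp r G)).IsQuasicoherent :=
    Groth.Agent.Helper1.PushQc.isQuasicoherent_pushforward r (Fp r G)
  have hpq : (p : ℤ) + 1 = ((p + 1 : ℕ) : ℤ) := by push_cast; ring
  let N : ModuleCat.{u} A := ModuleCat.of A B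
  let π : ModuleCat.of A A ⟶ N := ModuleCat.ofHom (Algebra.linearMap A B)
  let lam : B → (N ⟶ N) := fun c => ModuleCat.ofHom (LinearMap.mulLeft A c)
  let S : Set ((KM (CZ A G U) N).homology (p : ℤ)) :=
    {x | ∃ l ∈ Set.range lam, ∃ t : (KM (CZ A G U) (ModuleCat.of A A)).homology (p : ℤ),
      x = ((CohIII.TFun (CZ A G U) (p : ℤ)).map l).hom
        (((CohIII.TFun (CZ A G U) (p : ℤ)).map π).hom t)}
  change AddSubgroup.closure S = ⊤
  have claim1 : ∀ (zA : LinearMap.ker (DdA A G U p)) (c : B),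
      ∃ ζ : Zs (KM (CZ A G U) N) (p : ℤ) ((p + 1 : ℕ) : ℤ),
        sgm φ r G U hsq.w p ζ.1 = c • uCo r G U p zA.1 ∧
        cls (KM (CZ A G U) N) (p : ℤ) ((p + 1 : ℕ) : ℤ) hpq ζ ∈ AddSubgroup.closure S := by
    intro zA c
    let x : (CZ A G U).X (p : ℤ) := (exN A G U p).toLinearEquiv.symm zA.1
    have hx : ((CZ A G U).d (p : ℤ) ((p + 1 : ℕ) : ℤ)).hom x = 0 := by
      apply (exN A G U (p + 1)).toLinearEquiv.injective
      rw [exN_d, LinearEquiv.apply_symm_apply, LinearMap.mem_ker.1 zA.2, map_zero]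
    have hξ : (x ⊗ₜ[A] (1 : A) : (CZ A G U).X (p : ℤ) ⊗[A] A) ∈
        Zs (KM (CZ A G U) (ModuleCat.of A A)) (p : ℤ) ((p + 1 : ℕ) : ℤ) := by
      change ((CZ A G U).d (p : ℤ) ((p + 1 : ℕ) : ℤ)).hom.rTensor A (x ⊗ₜ[A] (1 : A)) = 0
      rw [LinearMap.rTensor_tmul, hx, TensorProduct.zero_tmul]
    have hζ : (x ⊗ₜ[A] c : (CZ A G U).X (p : ℤ) ⊗[A] B) ∈
        Zs (KM (CZ A G U) N) (p : ℤ) ((p + 1 : ℕ) : ℤ) := by
      change ((CZ A G U).d (p : ℤ) ((p + 1 : ℕ) : ℤ)).hom.rTensor B (x ⊗ₜ[A] c) = 0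
      rw [LinearMap.rTensor_tmul, hx, TensorProduct.zero_tmul]
    refine ⟨⟨x ⊗ₜ[A] c, hζ⟩, ?_, ?_⟩
    · change sgm φ r G U hsq.w p (x ⊗ₜ[A] c) = _
      rw [sgm_tmul, LinearEquiv.apply_symm_apply]
    · apply AddSubgroup.subset_closure
      refine ⟨lam c, ⟨c, rfl⟩, cls (KM (CZ A G U) (ModuleCat.of A A)) (p : ℤ) ((p + 1 : ℕ) : ℤ)
        hpq ⟨_, hξ⟩, ?_⟩
      have e1 := map_cls (CohIII.tensorMap (CZ A G U) π) (p : ℤ) ((p + 1 : ℕ) : ℤ) hpq ⟨_, hξ⟩
      have e2 := map_cls (CohIII.tensorMap (CZ A G U) (lam c)) (p : ℤ) ((p + 1 : ℕ) : ℤ) hpq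
        ⟨((CohIII.tensorMap (CZ A G U) π).f (p : ℤ)).hom (x ⊗ₜ[A] (1 : A)),
          map_mem (CohIII.tensorMap (CZ A G U) π) (p : ℤ) ((p + 1 : ℕ) : ℤ) ⟨_, hξ⟩⟩
      refine Eq.symm (((congrArg ((CohIII.TFun (CZ A G U) (p : ℤ)).map (lam c)).hom e1).trans
        e2).trans ?_)
      congr 1
      apply Subtype.ext
      change (LinearMap.mulLeft A c).lTensor _ ((Algebra.linearMap A B).lTensor _
        (x ⊗ₜ[A] (1 : A))) = x ⊗ₜ[A] c
      rw [LinearMap.lTensor_tmul, LinearMap.lTensor_tmul, Algebra.linearMap_apply, map_one,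
        LinearMap.mulLeft_apply, mul_one]
  let T : Submodule B (LinearMap.ker (DdA B (Fp r G) (Up r U) p)) :=
    Submodule.span B (Set.range fun zA : LinearMap.ker (DdA A G U p) =>
      (⟨uCo r G U p zA.1, uCo_mem_ker r G U p zA⟩ :
        LinearMap.ker (DdA B (Fp r G) (Up r U) p)))
  have part1 : ∀ h : Coh.HH X' (Fp r G) p,
      ∃ t ∈ T, cD (B := B) r U (Fp r G) hcov p t = h := by
    intro h
    have hh : h ∈ Submodule.span B (Set.range (CohPull.pullMod r G p)) := by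
      rw [hspan]
      exact Submodule.mem_top
    refine Submodule.span_induction
      (p := fun h _ => ∃ t ∈ T, cD (B := B) r U (Fp r G) hcov p t = h) ?_ ?_ ?_ ?_ hh
    · rintro _ ⟨x, rfl⟩
      obtain ⟨zA, rfl⟩ := cC_surjective (A := A) G U haff hcov p x
      exact ⟨_, Submodule.subset_span ⟨zA, rfl⟩, (pullMod_cC r G U hcov p zA).symm⟩
    · exact ⟨0, zero_mem _, map_zero _⟩
    · rintro a b _ _ ⟨ta, hta, rfl⟩ ⟨tb, htb, rfl⟩
      exact ⟨ta + tb, add_mem hta htb, map_add _ _ _⟩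
    · rintro c a _ ⟨ta, hta, rfl⟩
      exact ⟨c • ta, Submodule.smul_mem _ c hta,
        (cD (B := B) r U (Fp r G) hcov p).map_smul c ta⟩
  have part3 : ∀ t ∈ T, ∃ ζ : Zs (KM (CZ A G U) N) (p : ℤ) ((p + 1 : ℕ) : ℤ),
      sgm φ r G U hsq.w p ζ.1 = t.1 ∧
        cls (KM (CZ A G U) N) (p : ℤ) ((p + 1 : ℕ) : ℤ) hpq ζ ∈ AddSubgroup.closure S := by
    intro t ht
    refine Submodule.closure_induction
      (p := fun t _ => ∃ ζ : Zs (KM (CZ A G U) N) (p : ℤ) ((p + 1 : ℕ) : ℤ),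
        sgm φ r G U hsq.w p ζ.1 = t.1 ∧
          cls (KM (CZ A G U) N) (p : ℤ) ((p + 1 : ℕ) : ℤ) hpq ζ ∈ AddSubgroup.closure S)
      ?_ ?_ ?_ ht
    · refine ⟨0, ?_, ?_⟩
      · exact map_zero _
      · rw [map_zero]
        exact zero_mem _
    · rintro a b _ _ ⟨ζa, ha, ha'⟩ ⟨ζb, hb, hb'⟩
      refine ⟨ζa + ζb, ?_, ?_⟩
      · change sgm φ r G U hsq.w p (ζa.1 + ζb.1) = a.1 + b.1
        rw [map_add, ha, hb]
      · rw [map_add]
        exact add_mem ha' hb'
    · rintro c _ ⟨zA, rfl⟩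
      exact claim1 zA c
  rw [eq_top_iff]
  intro y _
  obtain ⟨z, rfl⟩ := cls_surjective (KM (CZ A G U) N) (p : ℤ) ((p + 1 : ℕ) : ℤ) hpq y
  have hwker : sgm φ r G U hsq.w p z.1 ∈ LinearMap.ker (DdA B (Fp r G) (Up r U) p) := by
    rw [LinearMap.mem_ker, ← sgm_d]
    have h0 : ((CZ A G U).d (p : ℤ) ((p + 1 : ℕ) : ℤ)).hom.rTensor B z.1 = 0 := z.2
    rw [h0, map_zero]
  obtain ⟨t, ht, hct⟩ := part1 (cD (B := B) r U (Fp r G) hcov p ⟨_, hwker⟩)
  obtain ⟨ζ, hζ1, hζ2⟩ := part3 t ht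
  have hdiff : cD (B := B) r U (Fp r G) hcov p (⟨_, hwker⟩ - t) = 0 := by
    rw [map_sub, hct, sub_self]
  obtain ⟨o, hop, v, hv⟩ := exists_bdry φ r G U hsq haff hcov p _ hdiff
  suffices hcls : cls (KM (CZ A G U) N) (p : ℤ) ((p + 1 : ℕ) : ℤ) hpq z =
      cls (KM (CZ A G U) N) (p : ℤ) ((p + 1 : ℕ) : ℤ) hpq ζ by
    rw [hcls]
    exact hζ2
  rw [← sub_eq_zero, ← map_sub]
  have h1 : sgm φ r G U hsq.w p (((CZ A G U).d o (p : ℤ)).hom.rTensor B v) =
      sgm φ r G U hsq.w p (z.1 - ζ.1) := by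
    rw [hv, map_sub, hζ1]
    rfl
  have h2 := (sgm_bijective φ r G U hsq haff p).1 h1
  exact (cls_eq_zero_iff (KM (CZ A G U) N) o (p : ℤ) ((p + 1 : ℕ) : ℤ) hop hpq (z - ζ)).2
    ⟨v, h2⟩

end Gen

end Groth.Agent.Helper7.GenBC
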