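import Mathlib
import Groth.Prelude.Def_CohCmp
import Groth.Agent.Lib.Helper3.ResLE4
import Groth.Agent.Lib.Helper3.DeltaEff
import Groth.Agent.Lib.Lead.BCU3
import Groth.Agent.Lib.Helper7.GenBC.Route

set_option linter.style.haveILetI false
set_option linter.unusedVariables false
set_option linter.unusedSectionVars false
set_option autoImplicit false
set_option backward.isDefEq.respectTransparency.types false
set_option backward.isDefEq.respectTransparency false
set_option synthInstance.maxHeartbeats 400000
set_option maxHeartbeats 1600000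

universe u

/-! helper7: the pullback on cohomology (abelian sheaves and modules) is compatible with composition of morphisms -/

open CategoryTheory CategoryTheory.Limits Opposite TopologicalSpace AlgebraicGeometry
open CategoryTheory.Abelian
open AlgebraicGeometry.Scheme.Modules
open Groth.Agent.Helper3

namespace Groth.Agent.Helper7.GenBC

section Top

variable {T₁ T₂ T₃ : TopCat.{u}} (k : T₃ ⟶ T₂) (r : T₂ ⟶ T₁)

/-- the composite of the units of the two inverse image adjunctions -/
noncomputable def uu (M : CohTop.Ab T₁) :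
    M ⟶ (CohTop.push (k ≫ r)).obj ((CohPull.inv k).obj ((CohPull.inv r).obj M)) :=
  (CohPull.invPushAdj r).unit.app M ≫
    (CohTop.push r).map ((CohPull.invPushAdj k).unit.app ((CohPull.inv r).obj M))

/-- the comparison of the inverse image along a composite with the composite of the inverse
images -/
noncomputable def cc3 (M : CohTop.Ab T₁) :
    (CohPull.inv (k ≫ r)).obj M ⟶ (CohPull.inv k).obj ((CohPull.inv r).obj M) :=
  ((CohPull.invPushAdj (k ≫ r)).homEquiv _ _).symm (uu k r M)

theorem uu_naturality {M M' : CohTop.Ab T₁} (f : M ⟶ M') :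
    f ≫ uu k r M' = uu k r M ≫
      (CohTop.push (k ≫ r)).map ((CohPull.inv k).map ((CohPull.inv r).map f)) := by
  have h1 : f ≫ (CohPull.invPushAdj r).unit.app M' =
      (CohPull.invPushAdj r).unit.app M ≫ (CohTop.push r).map ((CohPull.inv r).map f) :=
    (CohPull.invPushAdj r).unit.naturality f
  have h2 : (CohPull.inv r).map f ≫ (CohPull.invPushAdj k).unit.app ((CohPull.inv r).obj M') =
      (CohPull.invPushAdj k).unit.app ((CohPull.inv r).obj M) ≫
        (CohTop.push k).map ((CohPull.inv k).map ((CohPull.inv r).map f)) :=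
    (CohPull.invPushAdj k).unit.naturality ((CohPull.inv r).map f)
  unfold uu
  calc f ≫ (CohPull.invPushAdj r).unit.app M' ≫
        (CohTop.push r).map ((CohPull.invPushAdj k).unit.app ((CohPull.inv r).obj M'))
      = (f ≫ (CohPull.invPushAdj r).unit.app M') ≫
        (CohTop.push r).map ((CohPull.invPushAdj k).unit.app ((CohPull.inv r).obj M')) :=
        (Category.assoc _ _ _).symm
    _ = ((CohPull.invPushAdj r).unit.app M ≫ (CohTop.push r).map ((CohPull.inv r).map f)) ≫
        (CohTop.push r).map ((CohPull.invPushAdj k).unit.app ((CohPull.inv r).obj M')) := by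
        rw [h1]
    _ = (CohPull.invPushAdj r).unit.app M ≫ (CohTop.push r).map ((CohPull.inv r).map f ≫
        (CohPull.invPushAdj k).unit.app ((CohPull.inv r).obj M')) := by
        rw [Category.assoc, CategoryTheory.Functor.map_comp]
    _ = (CohPull.invPushAdj r).unit.app M ≫ (CohTop.push r).map
        ((CohPull.invPushAdj k).unit.app ((CohPull.inv r).obj M) ≫
          (CohTop.push k).map ((CohPull.inv k).map ((CohPull.inv r).map f))) := by
        rw [h2]
    _ = _ := by
        rw [CategoryTheory.Functor.map_comp, ← Category.assoc]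
        rfl

theorem cc3_naturality {M M' : CohTop.Ab T₁} (f : M ⟶ M') :
    (CohPull.inv (k ≫ r)).map f ≫ cc3 k r M' =
      cc3 k r M ≫ (CohPull.inv k).map ((CohPull.inv r).map f) := by
  unfold cc3
  rw [← Adjunction.homEquiv_naturality_left_symm, uu_naturality,
    Adjunction.homEquiv_naturality_right_symm]

theorem unit_cc3 (M : CohTop.Ab T₁) :
    (CohPull.invPushAdj (k ≫ r)).unit.app M ≫ (CohTop.push (k ≫ r)).map (cc3 k r M) =
      uu k r M := by
  unfold cc3
  exact (Adjunction.homEquiv_unit (CohPull.invPushAdj (k ≫ r)) _ _ _).symm.trans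
    (Equiv.apply_symm_apply _ _)

theorem pullAb_comp_zero (M : CohTop.Ab T₁) (x : Sheaf.H M 0) :
    CohPull.pullAb k ((CohPull.inv r).obj M) 0 (CohPull.pullAb r M 0 x) =
      Sheaf.H.map (cc3 k r M) 0 (CohPull.pullAb (k ≫ r) M 0 x) := by
  apply (Sheaf.H.equiv₀ ((CohPull.inv k).obj ((CohPull.inv r).obj M)) isTerminalTop).injective
  rw [CohPull.equiv₀_pullAb, CohPull.equiv₀_pullAb, ← Sheaf.H.equiv₀_naturality,
    CohPull.equiv₀_pullAb]
  have h := congrArg (fun φ => φ.hom.app (op ⊤)) (unit_cc3 k r M)
  have h2 := congrArg (fun φ => φ (Sheaf.H.equiv₀ M isTerminalTop x)) h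
  exact h2.symm

theorem pullVia_id {T T' : TopCat.{u}} (f : T' ⟶ T) (M : CohTop.Ab T) (p : ℕ) (x : Sheaf.H M p) :
    ResLE.pullVia f (𝟙 ((CohPull.inv f).obj M)) p x = CohPull.pullAb f M p x := by
  change Sheaf.H.map (𝟙 _) p (CohPull.pullAb f M p x) = _
  rw [Sheaf.H.map_id_apply]

/-- **the pullback on cohomology of abelian sheaves is compatible with composition** -/
theorem pullAb_comp (p : ℕ) : ∀ (M : CohTop.Ab T₁) (x : Sheaf.H M p),
    CohPull.pullAb k ((CohPull.inv r).obj M) p (CohPull.pullAb r M p x) =
      Sheaf.H.map (cc3 k r M) p (CohPull.pullAb (k ≫ r) M p x) := by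
  induction p with
  | zero => exact pullAb_comp_zero k r
  | succ q ih =>
    intro M x
    let S := DeltaEff.sc (Injective.ι M)
    have hS : S.ShortExact := DeltaEff.sc_shortExact (Injective.ι M)
    haveI : Injective S.X₂ := inferInstanceAs (Injective (Injective.under M))
    have hx2 : Ext.comp (show Sheaf.H S.X₁ (q + 1) from x) (Ext.mk₀ S.f) (add_zero (q + 1)) = 0 :=
      Ext.eq_zero_of_injective _
    obtain ⟨x', hx'⟩ := Ext.covariant_sequence_exact₁ _ hS _ hx2 (n₀ := q) rfl
    have hx'' : x'.comp hS.extClass rfl = x := hx'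
    subst hx''
    have hS1 : (S.map (CohPull.inv r)).ShortExact := hS.map_of_exact _
    have hS2 : ((S.map (CohPull.inv r)).map (CohPull.inv k)).ShortExact := hS1.map_of_exact _
    have e1 : CohPull.pullAb r S.X₁ (q + 1) (x'.comp hS.extClass rfl) =
        (CohPull.pullAb r S.X₃ q x').comp hS1.extClass rfl := by
      have h := ResLE.pullVia_delta r hS hS1 (𝟙 _) q x'
      refine (pullVia_id r S.X₁ (q + 1) _).symm.trans (h.trans ?_)
      exact congrArg (fun t => t.comp hS1.extClass rfl) (pullVia_id r S.X₃ q x')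
    have e2 : CohPull.pullAb k ((CohPull.inv r).obj S.X₁) (q + 1)
        ((CohPull.pullAb r S.X₃ q x').comp hS1.extClass rfl) =
        (CohPull.pullAb k ((CohPull.inv r).obj S.X₃) q (CohPull.pullAb r S.X₃ q x')).comp
          hS2.extClass rfl := by
      have h := ResLE.pullVia_delta k hS1 hS2 (𝟙 _) q (CohPull.pullAb r S.X₃ q x')
      refine (pullVia_id k ((CohPull.inv r).obj S.X₁) (q + 1) _).symm.trans (h.trans ?_)
      exact congrArg (fun t => t.comp hS2.extClass rfl)
        (pullVia_id k ((CohPull.inv r).obj S.X₃) q _)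
    let τ : S.map (CohPull.inv (k ≫ r)) ⟶ (S.map (CohPull.inv r)).map (CohPull.inv k) :=
      { τ₁ := cc3 k r S.X₁
        τ₂ := cc3 k r S.X₂
        τ₃ := cc3 k r S.X₃
        comm₁₂ := (cc3_naturality k r S.f).symm
        comm₂₃ := (cc3_naturality k r S.g).symm }
    have e3 : Sheaf.H.map (cc3 k r S.X₁) (q + 1)
        (CohPull.pullAb (k ≫ r) S.X₁ (q + 1) (x'.comp hS.extClass rfl)) =
        (Sheaf.H.map (cc3 k r S.X₃) q (CohPull.pullAb (k ≫ r) S.X₃ q x')).comp
          hS2.extClass rfl :=
      ResLE.pullVia_delta (k ≫ r) hS hS2 τ q x'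
    calc CohPull.pullAb k ((CohPull.inv r).obj S.X₁) (q + 1)
          (CohPull.pullAb r S.X₁ (q + 1) (x'.comp hS.extClass rfl))
        = CohPull.pullAb k ((CohPull.inv r).obj S.X₁) (q + 1)
          ((CohPull.pullAb r S.X₃ q x').comp hS1.extClass rfl) := by rw [e1]
      _ = (CohPull.pullAb k ((CohPull.inv r).obj S.X₃) q (CohPull.pullAb r S.X₃ q x')).comp
          hS2.extClass rfl := e2
      _ = (Sheaf.H.map (cc3 k r S.X₃) q (CohPull.pullAb (k ≫ r) S.X₃ q x')).comp
          hS2.extClass rfl := by rw [ih]
      _ = _ := e3.symm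

end Top

section Sch

variable {Z₁ Z₂ Z₃ : Scheme.{u}} (k : Z₃ ⟶ Z₂) (r : Z₂ ⟶ Z₁) (G : Z₁.Modules)

theorem homEquiv_theta {X Y : Scheme.{u}} (g : X ⟶ Y) (M : Y.Modules) :
    ((CohPull.invPushAdj g.base).homEquiv _ _) (CohPull.theta g M) =
      (SheafOfModules.toSheaf Y.ringCatSheaf).map ((pullbackPushforwardAdjunction g).unit.app M) :=
  Equiv.apply_symm_apply _ _

/-- the comparison morphisms `g⁻¹M ⟶ g^*M` are compatible with composition -/
theorem theta_comp :
    cc3 k.base r.base (Coh.toAb G) ≫ (CohPull.inv k.base).map (CohPull.theta r G) ≫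
        CohPull.theta k ((Scheme.Modules.pullback r).obj G) =
      CohPull.theta (k ≫ r) G ≫
        (SheafOfModules.toSheaf Z₃.ringCatSheaf).map ((pullbackComp k r).inv.app G) := by
  apply ((CohPull.invPushAdj (k ≫ r).base).homEquiv _ _).injective
  have hL : ((CohPull.invPushAdj (k ≫ r).base).homEquiv _ _)
      (cc3 k.base r.base (Coh.toAb G) ≫ (CohPull.inv k.base).map (CohPull.theta r G) ≫
        CohPull.theta k ((Scheme.Modules.pullback r).obj G)) =
      (SheafOfModules.toSheaf Z₁.ringCatSheaf).map ((pullbackPushforwardAdjunction r).unit.app G) ≫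
        (CohTop.push r.base).map ((SheafOfModules.toSheaf Z₂.ringCatSheaf).map
          ((pullbackPushforwardAdjunction k).unit.app ((Scheme.Modules.pullback r).obj G))) := by
    have h1 : ((CohPull.invPushAdj (k.base ≫ r.base)).homEquiv _ _)
        (cc3 k.base r.base (Coh.toAb G)) = uu k.base r.base (Coh.toAb G) :=
      Equiv.apply_symm_apply _ _
    have h2 : (CohPull.invPushAdj k.base).unit.app _ ≫ (CohTop.push k.base).map
        ((CohPull.inv k.base).map (CohPull.theta r G) ≫
          CohPull.theta k ((Scheme.Modules.pullback r).obj G)) =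
        CohPull.theta r G ≫ (SheafOfModules.toSheaf Z₂.ringCatSheaf).map
          ((pullbackPushforwardAdjunction k).unit.app ((Scheme.Modules.pullback r).obj G)) := by
      exact (Adjunction.homEquiv_unit (CohPull.invPushAdj k.base) _ _ _).symm.trans
        ((Adjunction.homEquiv_naturality_left (CohPull.invPushAdj k.base) (CohPull.theta r G)
          (CohPull.theta k ((Scheme.Modules.pullback r).obj G))).trans
          (congrArg (fun t => CohPull.theta r G ≫ t) (homEquiv_theta k _)))
    have h3 : (CohPull.invPushAdj r.base).unit.app _ ≫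
        (CohTop.push r.base).map (CohPull.theta r G) =
        (SheafOfModules.toSheaf Z₁.ringCatSheaf).map
          ((pullbackPushforwardAdjunction r).unit.app G) := by
      exact (Adjunction.homEquiv_unit (CohPull.invPushAdj r.base) _ _ _).symm.trans (homEquiv_theta r G)
    refine (Adjunction.homEquiv_naturality_right _ _ _).trans ?_
    refine (congrArg (fun t => t ≫ _) h1).trans ?_
    unfold uu
    change ((CohPull.invPushAdj r.base).unit.app _ ≫ (CohTop.push r.base).map
        ((CohPull.invPushAdj k.base).unit.app _)) ≫ (CohTop.push r.base).map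
        ((CohTop.push k.base).map ((CohPull.inv k.base).map (CohPull.theta r G) ≫
          CohPull.theta k ((Scheme.Modules.pullback r).obj G))) = _
    rw [Category.assoc, ← CategoryTheory.Functor.map_comp, h2, CategoryTheory.Functor.map_comp,
      ← Category.assoc, h3]
  have hR : ((CohPull.invPushAdj (k ≫ r).base).homEquiv _ _)
      (CohPull.theta (k ≫ r) G ≫
        (SheafOfModules.toSheaf Z₃.ringCatSheaf).map ((pullbackComp k r).inv.app G)) =
      (SheafOfModules.toSheaf Z₁.ringCatSheaf).map
          ((pullbackPushforwardAdjunction (k ≫ r)).unit.app G) ≫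
        (CohTop.push (k ≫ r).base).map
          ((SheafOfModules.toSheaf Z₃.ringCatSheaf).map ((pullbackComp k r).inv.app G)) := by
    exact (Adjunction.homEquiv_naturality_right _ _ _).trans
      (congrArg (fun t => t ≫ (CohTop.push (k ≫ r).base).map
        ((SheafOfModules.toSheaf Z₃.ringCatSheaf).map ((pullbackComp k r).inv.app G)))
        (homEquiv_theta (k ≫ r) G))
  refine hL.trans (Eq.trans ?_ hR.symm)
  apply Sheaf.hom_ext
  apply NatTrans.ext
  funext O
  apply ConcreteCategory.hom_ext
  intro m
  exact Groth.Agent.Lead.BCU.unit_comp_apply k r G O.unop m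

/-- **the pullback on cohomology of modules is compatible with composition** -/
theorem pullMod_comp (p : ℕ) (x : Coh.HH Z₁ G p) :
    CohPull.pullMod k ((Scheme.Modules.pullback r).obj G) p (CohPull.pullMod r G p x) =
      CohPull.mapH ((pullbackComp k r).inv.app G) p (CohPull.pullMod (k ≫ r) G p x) := by
  change Sheaf.H.map (CohPull.theta k _) p (CohPull.pullAb k.base _ p
      (Sheaf.H.map (CohPull.theta r G) p (CohPull.pullAb r.base _ p x))) =
    Sheaf.H.map ((SheafOfModules.toSheaf Z₃.ringCatSheaf).map ((pullbackComp k r).inv.app G)) p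
      (Sheaf.H.map (CohPull.theta (k ≫ r) G) p (CohPull.pullAb (k ≫ r).base _ p x))
  rw [EdgeAb.pullAb_map, pullAb_comp k.base r.base p _ x]
  rw [← Sheaf.H.map_comp_apply, ← Sheaf.H.map_comp_apply, ← Sheaf.H.map_comp_apply]
  have h := theta_comp k r G
  exact congrArg (fun t => Sheaf.H.map t p (CohPull.pullAb (k ≫ r).base _ p x))
    ((Category.assoc _ _ _).trans h)

end Sch

end Groth.Agent.Helper7.GenBC
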