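import Mathlib
import Groth.Prelude.Def_CohCmp
import Groth.Agent.Lib.Helper3.LocInj
import Groth.Agent.Lib.Helper5.RpushCl.RpushClassic
import Groth.Agent.Lib.Helper1.DimOneAff2
import Groth.Agent.Lib.Lead.FBC3
import Groth.Agent.S0453

set_option linter.style.haveILetI false
set_option linter.unusedVariables false
set_option linter.unusedSectionVars false
set_option autoImplicit false
set_option backward.isDefEq.respectTransparency.types false
-- (no respectTransparency override)
set_option synthInstance.maxHeartbeats 400000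
set_option maxHeartbeats 1600000

universe u

/-! helper7: the comparison of sections of higher direct images over an affine open with cohomology of the preimage is bijective for quasi coherent modules (dimension shifting with injective embeddings) -/

open CategoryTheory CategoryTheory.Limits Opposite TopologicalSpace AlgebraicGeometry
open CategoryTheory.Abelian
open AlgebraicGeometry.Scheme.Modules
open Groth.Agent.Helper3 Groth.Agent.Helper3.SectBij Groth.Agent.Helper1

namespace Groth.Agent.Helper7.GenBC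

open Groth.Agent.Lead.BCU (res res_res app_res)

section On

variable {Y : Scheme.{u}} (V : Y.Opens)

/-- all higher cohomology groups over the open `V` vanish -/
def HAcycOn (M : Y.Modules) : Prop := HAcyc (M.restrict V.ι)

theorem hAcycOn_of_iso {M N : Y.Modules} (e : M ≅ N) (h : HAcycOn V M) : HAcycOn V N :=
  hAcyc_of_iso ((restrictFunctor V.ι).mapIso e) h

theorem hAcycOn_of_isZero {M : Y.Modules} (h : IsZero M) : HAcycOn V M :=
  hAcyc_of_isZero (Functor.map_isZero (restrictFunctor V.ι) h)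

theorem hAcycOn_mid {M₁ M₂ M₃ : Y.Modules} (a : M₁ ⟶ M₂) (b : M₂ ⟶ M₃) (w : a ≫ b = 0)
    (hS : (ShortComplex.mk a b w).ShortExact) (h1 : HAcycOn V M₁) (h3 : HAcycOn V M₃) :
    HAcycOn V M₂ :=
  hAcyc_mid (S := (ShortComplex.mk a b w).map (restrictFunctor V.ι))
    (hS.map_of_exact (restrictFunctor V.ι)) h1 h3

theorem hAcycOn_right {M₁ M₂ M₃ : Y.Modules} (a : M₁ ⟶ M₂) (b : M₂ ⟶ M₃) (w : a ≫ b = 0)
    (hS : (ShortComplex.mk a b w).ShortExact) (h1 : HAcycOn V M₁) (h2 : HAcycOn V M₂) :
    HAcycOn V M₃ :=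
  hAcyc_right (S := (ShortComplex.mk a b w).map (restrictFunctor V.ι))
    (hS.map_of_exact (restrictFunctor V.ι)) h1 h2

/-- surjectivity on sections over `V` from the vanishing of `H^1` over `V` of the kernel -/
theorem app_surjective_of_H1On {M₁ M₂ M₃ : Y.Modules} (a : M₁ ⟶ M₂) (b : M₂ ⟶ M₃)
    (w : a ≫ b = 0) (hS : (ShortComplex.mk a b w).ShortExact)
    (h1 : Subsingleton (Coh.HHon Y M₁ V 1)) : Function.Surjective (b.app V) := by
  have hs := H1Surj.app_top_surjective_of_H1
    (S := (ShortComplex.mk a b w).map (restrictFunctor V.ι))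
    (hS.map_of_exact (restrictFunctor V.ι)) h1
  intro t
  obtain ⟨s', hs'⟩ := hs (res M₃ (le_of_eq V.ι_image_top) t)
  refine ⟨res M₂ (le_of_eq V.ι_image_top.symm) (show Γ(M₂, V.ι ''ᵁ ⊤) from s'), ?_⟩
  have h2 : b.app (V.ι ''ᵁ ⊤) (show Γ(M₂, V.ι ''ᵁ ⊤) from s') =
      res M₃ (le_of_eq V.ι_image_top) t := hs'
  rw [app_res, h2, res_res]
  exact Groth.Agent.Lead.FBC.res_self' M₃ _ t

end On

variable {X Y : Scheme.{u}} (f : X ⟶ Y) [HasInjectiveResolutions X.Modules]
  {Δ : RDer.DerivedLES (pushforward f)} (E : CohCmp.SectCmp f Δ) (V : Y.Opens)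

/-- modules all of whose higher direct images have no higher cohomology over `V` -/
def AcycOn (G : X.Modules) : Prop := ∀ p : ℕ, HAcycOn V ((Coh.Rpush f p).obj G)

theorem isFlasque_restrict_push (I : X.Modules) [Injective I] :
    TopCat.Sheaf.IsFlasque (Coh.toAb (((pushforward f).obj I).restrict V.ι)) where
  epi {U W} i := by
    rw [AddCommGrpCat.epi_iff_surjective]
    have h : W.unop ≤ U.unop := leOfHom i.unop
    have h' : f ⁻¹ᵁ (V.ι ''ᵁ W.unop) ≤ f ⁻¹ᵁ (V.ι ''ᵁ U.unop) := by
      apply f.preimage_mono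
      rintro _ ⟨x, hx, rfl⟩
      exact ⟨x, h hx, rfl⟩
    exact Groth.Agent.Lib.Helper5.MV.surjective_res_of_injective I h'

theorem acycOn_of_injective (I : X.Modules) [Injective I] : AcycOn f V I := by
  intro p
  cases p with
  | zero =>
    refine hAcycOn_of_iso V (((pushforward f).rightDerivedZeroIsoSelf).app I).symm ?_
    intro k
    haveI := isFlasque_restrict_push f V I
    exact Groth.Agent.S0453.result _ k
  | succ p => exact hAcycOn_of_isZero V (Functor.isZero_rightDerived_obj_injective_succ _ p I)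

section ses

variable (S : ShortComplex X.Modules) (hS : S.ShortExact) [Injective S.X₂]

variable {S} in
include hS in
theorem hAcycOn_kernel_delta (h₁ : AcycOn f V S.X₁) :
    HAcycOn V (kernel (Δ.δ S hS 0 1 rfl)) := by
  have hT := SectBij.ses₂_shortExact f S hS (Δ := Δ)
  have h1 : HAcycOn V (kernel ((Coh.Rpush f 0).map S.g)) :=
    hAcycOn_of_iso V (SectBij.kerIso f S hS (Δ := Δ)) (h₁ 0)
  have h2 : HAcycOn V ((Coh.Rpush f 0).obj S.X₂) := acycOn_of_injective f V S.X₂ 0
  exact hAcycOn_right V _ _ _ hT h1 h2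

variable {S} in
include hS in
theorem acycOn_X₃ (Δ : RDer.DerivedLES (pushforward f)) (h₁ : AcycOn f V S.X₁) :
    AcycOn f V S.X₃ := by
  intro p
  cases p with
  | zero =>
    have hT := SectBij.ses₁_shortExact f S hS (Δ := Δ)
    have h1 : HAcycOn V (kernel (Δ.δ S hS 0 1 rfl)) := hAcycOn_kernel_delta f V hS (Δ := Δ) h₁
    have h3 : HAcycOn V ((Coh.Rpush f 1).obj S.X₁) := h₁ 1
    exact hAcycOn_mid V _ _ _ hT h1 h3
  | succ p =>
    haveI := SectBij.isIso_delta f S hS p (Δ := Δ)
    exact hAcycOn_of_iso V (asIso (Δ.δ S hS (p + 1) (p + 1 + 1) rfl)).symm (h₁ (p + 1 + 1))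

variable {S} in
include hS in
theorem delta_app_surjective (h₁ : AcycOn f V S.X₁) (q : ℕ) :
    Function.Surjective ((Δ.δ S hS q (q + 1) rfl).app V) := by
  cases q with
  | zero =>
    exact app_surjective_of_H1On V _ _ _ (SectBij.ses₁_shortExact f S hS (Δ := Δ))
      (hAcycOn_kernel_delta f V hS (Δ := Δ) h₁ 0)
  | succ q =>
    haveI := SectBij.isIso_delta f S hS q (Δ := Δ)
    intro t
    refine ⟨(inv (Δ.δ S hS (q + 1) (q + 1 + 1) rfl)).app V t, ?_⟩
    change ((inv (Δ.δ S hS (q + 1) (q + 1 + 1) rfl)).app V ≫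
      (Δ.δ S hS (q + 1) (q + 1 + 1) rfl).app V) t = t
    rw [← Hom.comp_app, IsIso.inv_hom_id, Hom.id_app]
    rfl

variable {S} in
include hS in
theorem delta_app_ker (h₁ : AcycOn f V S.X₁) (q : ℕ)
    (t : ((Coh.Rpush f q).obj S.X₃).presheaf.obj (op V))
    (ht : (Δ.δ S hS q (q + 1) rfl).app V t = 0) :
    ∃ t₂, ((Coh.Rpush f q).map S.g).app V t₂ = t := by
  cases q with
  | zero =>
    obtain ⟨k, hk⟩ := exists_kernel_section (Δ.δ S hS 0 1 rfl) V t ht
    have hT := SectBij.ses₂_shortExact f S hS (Δ := Δ)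
    have hsurj := app_surjective_of_H1On V _ _ _ hT
      (hAcycOn_of_iso V (SectBij.kerIso f S hS (Δ := Δ)) (h₁ 0) 0)
    obtain ⟨t₂, ht₂⟩ := hsurj k
    refine ⟨t₂, ?_⟩
    have h1 : kernel.lift (Δ.δ S hS 0 1 rfl) ((Coh.Rpush f 0).map S.g) (Δ.comp_δ S hS 0 1 rfl) ≫
        kernel.ι (Δ.δ S hS 0 1 rfl) = (Coh.Rpush f 0).map S.g := kernel.lift_ι _ _ _
    rw [← h1, Hom.comp_app]
    change (kernel.ι (Δ.δ S hS 0 1 rfl)).app V (_) = t
    rw [← hk]
    exact congrArg _ ht₂
  | succ q =>
    haveI := SectBij.isIso_delta f S hS q (Δ := Δ)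
    refine ⟨0, ?_⟩
    rw [map_zero]
    have h2 : ((Δ.δ S hS (q + 1) (q + 1 + 1) rfl).app V ≫
      (inv (Δ.δ S hS (q + 1) (q + 1 + 1) rfl)).app V) t = t := by
      rw [← Hom.comp_app, IsIso.hom_inv_id, Hom.id_app]
      rfl
    rw [← h2]
    change 0 = (inv (Δ.δ S hS (q + 1) (q + 1 + 1) rfl)).app V
      ((Δ.δ S hS (q + 1) (q + 1 + 1) rfl).app V t)
    rw [ht, map_zero]

end ses

/-- **the comparison over `V` is bijective on modules all of whose higher direct images are
acyclic over `V`** -/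
theorem eps_bijective_of_acycOn (q : ℕ) :
    ∀ G : X.Modules, AcycOn f V G → Function.Bijective (E.ε V G q) := by
  haveI := GSS.enoughInjectives_of_hasInjectiveResolutions X.Modules
  induction q with
  | zero =>
    intro G _
    have h1 : ∀ s, E.ε V G 0 (CohPull.sectH0 G (f ⁻¹ᵁ V) s) =
        ((pushforward f).toRightDerivedZero.app G).app V s := E.zero V G
    have h2 : Function.Bijective (((pushforward f).toRightDerivedZero.app G).app V) :=
      ⟨LocInj.toRDZ_app_injective f G V, LocInj.toRDZ_app_surjective f G V⟩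
    have h3 : (E.ε V G 0 : _ → _) = (((pushforward f).toRightDerivedZero.app G).app V) ∘
        (CohPull.sectH0 G (f ⁻¹ᵁ V)).symm := by
      funext x
      obtain ⟨s, rfl⟩ := (CohPull.sectH0 G (f ⁻¹ᵁ V)).surjective x
      rw [h1]
      exact congrArg _ ((CohPull.sectH0 G (f ⁻¹ᵁ V)).symm_apply_apply s).symm
    rw [h3]
    exact h2.comp (CohPull.sectH0 G (f ⁻¹ᵁ V)).symm.bijective
  | succ q ih =>
    intro G hG
    let S := DeltaEff.sc (Injective.ι G)
    have hS : S.ShortExact := DeltaEff.sc_shortExact (Injective.ι G)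
    haveI : Injective S.X₂ := inferInstanceAs (Injective (Injective.under G))
    have hG' : AcycOn f V S.X₁ := hG
    have hL : Subsingleton (Coh.HHon X S.X₂ (f ⁻¹ᵁ V) (q + 1)) := by
      haveI : Injective (S.X₂.restrict (f ⁻¹ᵁ V).ι) :=
        Groth.Agent.S11327.result X (f ⁻¹ᵁ V) S.X₂ inferInstance
      exact EdgeMod.subsingleton_H_of_injective (S.X₂.restrict (f ⁻¹ᵁ V).ι) q
    exact eps_succ_bijective f E V S hS q hL (ih S.X₂ (acycOn_of_injective f V S.X₂)).2
      (ih S.X₃ (acycOn_X₃ f V hS Δ hG')) (delta_app_surjective f V hS hG' q)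
      (delta_app_ker f V hS hG' q)

/-- **the comparison over an affine open of the base is bijective on quasi-coherent modules** -/
theorem eps_bijective_of_isAffineOpen [QuasiCompact f] [QuasiSeparated f] (hV : IsAffineOpen V)
    (F : X.Modules) [F.IsQuasicoherent] (q : ℕ) : Function.Bijective (E.ε V F q) := by
  refine eps_bijective_of_acycOn f E V q F ?_
  intro p k
  haveI := Groth.Agent.Lib.Helper5.RpushClassic.isQuasicoherent_rpush f F p
  haveI : IsAffine (↑V : Scheme.{u}) := hV
  haveI : (((Coh.Rpush f p).obj F).restrict V.ι).IsQuasicoherent := inferInstance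
  exact DimOneAff.subsingleton_HH_of_isAffine (↑V : Scheme.{u}) _ k

end Groth.Agent.Helper7.GenBC
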