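import Mathlib
import Groth.Prelude.Def_CohCmp
import Groth.Prelude.Def_Canon
import Groth.Agent.Lib.Helper3.LocInj
import Groth.Agent.Lib.Helper4.ExtEndo
import Groth.Agent.Lib.Helper7.BC0.Bridge

set_option linter.style.haveILetI false
set_option linter.unusedVariables false
set_option linter.unusedSectionVars false
set_option autoImplicit false
set_option backward.isDefEq.respectTransparency.types false
set_option backward.isDefEq.respectTransparency false
set_option synthInstance.maxHeartbeats 400000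
set_option maxHeartbeats 1600000

universe u

/-! helper7: the comparison of higher direct images with cohomology of preimages is compatible with restriction and with multiplication by functions of the base -/

open CategoryTheory CategoryTheory.Limits Opposite TopologicalSpace AlgebraicGeometry
open CategoryTheory.Abelian
open AlgebraicGeometry.Scheme.Modules
open Groth.Agent.Helper3

namespace Groth.Agent.Helper7.GenBC

open Groth.Agent.Lead.BCU (res res_res app_res)

section Top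

variable {X : Scheme.{u}}

/-- restriction of a function on `U` to the top open of the open subscheme -/
noncomputable def topFn (U : X.Opens) : Γ(X, U) →+* Coh.Γtop (↑U : Scheme.{u}) :=
  (X.presheaf.map (homOfLE (le_of_eq U.ι_image_top)).op).hom

theorem resTop_top (Z : Scheme.{u}) (r : Coh.Γtop Z) : Coh.resTop Z (op ⊤) r = r := by
  have h : (homOfLE (le_top : (⊤ : Z.Opens) ≤ ⊤)).op = 𝟙 _ := Subsingleton.elim _ _
  change (Z.ringCatSheaf.obj.map (homOfLE le_top).op).hom r = r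
  rw [h, CategoryTheory.Functor.map_id]
  rfl

/-- multiplication on the degree-zero classes of sections -/
theorem smul_sectH0 (F : X.Modules) (U : X.Opens) (b : Γ(X, U)) (s : Γ(F, U)) :
    Sheaf.H.map (Coh.smulAb (F.restrict U.ι) (topFn U b)) 0 (CohPull.sectH0 F U s) =
      CohPull.sectH0 F U (b • s) := by
  rw [ResLE.sectH0_eq, ResLE.sectH0_eq]
  refine (Sheaf.H.equiv₀_symm_naturality
    (Limits.isTerminalTop : Limits.IsTerminal (⊤ : U.toScheme.Opens))
    (Coh.smulAb (F.restrict U.ι) (topFn U b)) (ResLE.tr F U s)).trans ?_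
  congr 1
  have h1 : ResLE.tr F U (b • s) = (show Γ(F, U.ι ''ᵁ ⊤) from
      ((X.presheaf.map (homOfLE (le_of_eq U.ι_image_top)).op).hom b : Γ(X, U.ι ''ᵁ ⊤)) •
        (show Γ(F, U.ι ''ᵁ ⊤) from ResLE.tr F U s)) :=
    Groth.Agent.Lead.FBC.res_smul' F (le_of_eq U.ι_image_top) b s
  rw [h1, Coh.smulAb_app, resTop_top]
  refine (Groth.Agent.Helper7.BC0.restrict_smul U.ι F ⊤ (topFn U b) (ResLE.tr F U s)).trans ?_
  rw [Scheme.Opens.ι_appIso]
  rfl

end Top

variable {X Y : Scheme.{u}} (f : X ⟶ Y) [HasInjectiveResolutions X.Modules]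
  {Δ : RDer.DerivedLES (pushforward f)} (E : CohCmp.SectCmp f Δ)

/-- **the comparison maps commute with restriction to smaller opens of the base** -/
theorem eps_res (p : ℕ) : ∀ (F : X.Modules) {V W : Y.Opens} (hWV : W ≤ V)
    (x : Coh.HHon X F (f ⁻¹ᵁ V) p),
    res ((Coh.Rpush f p).obj F) hWV (E.ε V F p x) =
      E.ε W F p (CohPull.resLE F (f.preimage_mono hWV) p x) := by
  haveI := GSS.enoughInjectives_of_hasInjectiveResolutions X.Modules
  induction p with
  | zero =>
    intro F V W hWV x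
    obtain ⟨s, rfl⟩ := (CohPull.sectH0 F (f ⁻¹ᵁ V)).surjective x
    rw [E.zero V F s, ResLE.resLE_sectH0, E.zero W F]
    exact (app_res ((pushforward f).toRightDerivedZero.app F) hWV s).symm
  | succ q ih =>
    intro F V W hWV x
    let S := DeltaEff.sc (Injective.ι F)
    have hS : S.ShortExact := DeltaEff.sc_shortExact (Injective.ι F)
    haveI : Injective S.X₂ := inferInstanceAs (Injective (Injective.under F))
    have hA := EdgeLS.shortExact_toAbOn (f ⁻¹ᵁ V) hS
    have hA' := EdgeLS.shortExact_toAbOn (f ⁻¹ᵁ W) hS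
    have hL : Subsingleton (Coh.HHon X S.X₂ (f ⁻¹ᵁ V) (q + 1)) := by
      haveI : Injective (S.X₂.restrict (f ⁻¹ᵁ V).ι) :=
        Groth.Agent.S11327.result X (f ⁻¹ᵁ V) S.X₂ inferInstance
      exact EdgeMod.subsingleton_H_of_injective (S.X₂.restrict (f ⁻¹ᵁ V).ι) q
    have hx2 : Ext.comp (show Coh.HHon X S.X₁ (f ⁻¹ᵁ V) (q + 1) from x)
        (Ext.mk₀ (S.map (CohCmp.toAbOn X (f ⁻¹ᵁ V))).f) (add_zero (q + 1)) = 0 :=
      Subsingleton.elim (h := hL) _ _
    obtain ⟨x', hx'⟩ := Ext.covariant_sequence_exact₁ _ hA _ hx2 (n₀ := q) rfl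
    have hx'' : CohCmp.extδ hA q x' = x := hx'
    have hd := E.delta V S hS hA q x'
    have hd' := E.delta W S hS hA' q (CohPull.resLE S.X₃ (f.preimage_mono hWV) q x')
    have h5 := ResLE.resLE_extδ (f.preimage_mono hWV) S hA hA' q x'
    rw [hx''] at h5 hd
    have e2 := app_res (Δ.δ S hS q (q + 1) rfl) hWV (E.ε V S.X₃ q x')
    have e3 := ih S.X₃ hWV x'
    change res ((Coh.Rpush f (q + 1)).obj S.X₁) hWV (E.ε V S.X₁ (q + 1) x) =
      E.ε W S.X₁ (q + 1) (CohPull.resLE S.X₁ (f.preimage_mono hWV) (q + 1) x)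
    rw [hd, ← e2, e3, h5, hd']

/-- the ring map from functions on `V` to global functions of the open subscheme `f⁻¹ V` -/
noncomputable def rho (V : Y.Opens) : Γ(Y, V) →+* Coh.Γtop (↑(f ⁻¹ᵁ V) : Scheme.{u}) :=
  (topFn (f ⁻¹ᵁ V)).comp (f.app V).hom

/-- **the comparison maps are linear over the functions on the open of the base** -/
theorem eps_smul (p : ℕ) : ∀ (F : X.Modules) (V : Y.Opens) (a : Γ(Y, V))
    (x : Coh.HHon X F (f ⁻¹ᵁ V) p),
    E.ε V F p (Sheaf.H.map (Coh.smulAb (F.restrict (f ⁻¹ᵁ V).ι) (rho f V a)) p x) =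
      a • (show Γ((Coh.Rpush f p).obj F, V) from E.ε V F p x) := by
  haveI := GSS.enoughInjectives_of_hasInjectiveResolutions X.Modules
  induction p with
  | zero =>
    intro F V a x
    obtain ⟨s, rfl⟩ := (CohPull.sectH0 F (f ⁻¹ᵁ V)).surjective x
    have hA : Sheaf.H.map (Coh.smulAb (F.restrict (f ⁻¹ᵁ V).ι) (rho f V a)) 0
        (CohPull.sectH0 F (f ⁻¹ᵁ V) s) =
        CohPull.sectH0 F (f ⁻¹ᵁ V) (((f.app V).hom a : Γ(X, f ⁻¹ᵁ V)) • s) :=
      smul_sectH0 F (f ⁻¹ᵁ V) ((f.app V).hom a) s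
    rw [hA, E.zero V F, E.zero V F]
    exact Scheme.Modules.Hom.app_smul ((pushforward f).toRightDerivedZero.app F) a
      (show Γ((pushforward f).obj F, V) from s)
  | succ q ih =>
    intro F V a x
    let S := DeltaEff.sc (Injective.ι F)
    have hS : S.ShortExact := DeltaEff.sc_shortExact (Injective.ι F)
    haveI : Injective S.X₂ := inferInstanceAs (Injective (Injective.under F))
    have hA := EdgeLS.shortExact_toAbOn (f ⁻¹ᵁ V) hS
    have hL : Subsingleton (Coh.HHon X S.X₂ (f ⁻¹ᵁ V) (q + 1)) := by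
      haveI : Injective (S.X₂.restrict (f ⁻¹ᵁ V).ι) :=
        Groth.Agent.S11327.result X (f ⁻¹ᵁ V) S.X₂ inferInstance
      exact EdgeMod.subsingleton_H_of_injective (S.X₂.restrict (f ⁻¹ᵁ V).ι) q
    have hx2 : Ext.comp (show Coh.HHon X S.X₁ (f ⁻¹ᵁ V) (q + 1) from x)
        (Ext.mk₀ (S.map (CohCmp.toAbOn X (f ⁻¹ᵁ V))).f) (add_zero (q + 1)) = 0 :=
      Subsingleton.elim (h := hL) _ _
    obtain ⟨x', hx'⟩ := Ext.covariant_sequence_exact₁ _ hA _ hx2 (n₀ := q) rfl
    have hx'' : CohCmp.extδ hA q x' = x := hx'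
    let φ : S.map (CohCmp.toAbOn X (f ⁻¹ᵁ V)) ⟶ S.map (CohCmp.toAbOn X (f ⁻¹ᵁ V)) :=
      { τ₁ := Coh.smulAb (S.X₁.restrict (f ⁻¹ᵁ V).ι) (rho f V a)
        τ₂ := Coh.smulAb (S.X₂.restrict (f ⁻¹ᵁ V).ι) (rho f V a)
        τ₃ := Coh.smulAb (S.X₃.restrict (f ⁻¹ᵁ V).ι) (rho f V a)
        comm₁₂ := (Canon.toSheaf_map_comp_smulAb
          ((restrictFunctor (f ⁻¹ᵁ V).ι).map S.f) (rho f V a)).symm
        comm₂₃ := (Canon.toSheaf_map_comp_smulAb
          ((restrictFunctor (f ⁻¹ᵁ V).ι).map S.g) (rho f V a)).symm }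
    have hend : CohCmp.extδ hA q
        (Sheaf.H.map (Coh.smulAb (S.X₃.restrict (f ⁻¹ᵁ V).ι) (rho f V a)) q x') =
        Sheaf.H.map (Coh.smulAb (S.X₁.restrict (f ⁻¹ᵁ V).ι) (rho f V a)) (q + 1)
          (CohCmp.extδ hA q x') :=
      Groth.Agent.Lib.Helper4.ExtEndo.extClass_endo hA φ x'
    have hd := E.delta V S hS hA q x'
    have hd' := E.delta V S hS hA q
      (Sheaf.H.map (Coh.smulAb (S.X₃.restrict (f ⁻¹ᵁ V).ι) (rho f V a)) q x')
    have e3 := ih S.X₃ V a x'
    have e4 := Scheme.Modules.Hom.app_smul (Δ.δ S hS q (q + 1) rfl) a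
      (show Γ((Coh.Rpush f q).obj S.X₃, V) from E.ε V S.X₃ q x')
    rw [hx''] at hend hd
    change E.ε V S.X₁ (q + 1)
      (Sheaf.H.map (Coh.smulAb (S.X₁.restrict (f ⁻¹ᵁ V).ι) (rho f V a)) (q + 1) x) =
      a • (show Γ((Coh.Rpush f (q + 1)).obj S.X₁, V) from E.ε V S.X₁ (q + 1) x)
    rw [← hend, hd', e3, hd]
    exact e4

end Groth.Agent.Helper7.GenBC
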