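import Mathlib
import Groth.Agent.Lib.Lead.BCU4

set_option linter.style.haveILetI false
set_option linter.unusedVariables false
set_option linter.unusedSectionVars false
set_option autoImplicit false
set_option backward.isDefEq.respectTransparency.types false
set_option backward.isDefEq.respectTransparency false
set_option synthInstance.maxHeartbeats 400000
set_option maxHeartbeats 1600000

universe u

/-! helper7: a morphism of quasi coherent modules which is a base change on sections over affine opens has an isomorphism as adjoint transpose -/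

open CategoryTheory AlgebraicGeometry TopologicalSpace TensorProduct
open Scheme.Modules
open Groth.Agent.Lead.BCU

namespace Groth.Agent.Helper7.GenBC

section Alg

variable {A A' : Type u} [CommRing A] [CommRing A'] (φ : A →+* A')
  {M N₁ N₂ : Type u} [AddCommGroup M] [Module A M] [AddCommGroup N₁] [Module A' N₁]
  [AddCommGroup N₂] [Module A' N₂]

/-- two base changes of the same module along the same ring map are identified by any semilinear
map compatible with them -/
theorem bijective_of_isBC_of_isBC {l₁ : M → N₁} {l₂ : M → N₂} (h₁ : IsBC φ l₁) (h₂ : IsBC φ l₂)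
    (υ : N₁ →+ N₂) (hυ : ∀ (r : A') (n : N₁), υ (r • n) = r • υ n)
    (hl : ∀ m, υ (l₁ m) = l₂ m) : Function.Bijective υ := by
  letI := φ.toAlgebra
  letI : Module A N₁ := Module.compHom N₁ φ
  letI : Module A N₂ := Module.compHom N₂ φ
  haveI : IsScalarTower A A' N₁ := ⟨fun a a' n => by
    change (φ a * a') • n = φ a • a' • n
    exact mul_smul _ _ _⟩
  haveI : IsScalarTower A A' N₂ := ⟨fun a a' n => by
    change (φ a * a') • n = φ a • a' • n
    exact mul_smul _ _ _⟩
  obtain ⟨l₁', hl₁, hb₁⟩ := h₁
  obtain ⟨l₂', hl₂, hb₂⟩ := h₂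
  let υL : N₁ →ₗ[A'] N₂ := { toFun := υ, map_add' := map_add υ, map_smul' := hυ }
  have hcomp : υL.comp hb₁.equiv.toLinearMap = hb₂.equiv.toLinearMap := by
    apply TensorProduct.AlgebraTensorModule.curry_injective
    ext m
    change υ (hb₁.equiv ((1 : A') ⊗ₜ[A] m)) = hb₂.equiv ((1 : A') ⊗ₜ[A] m)
    rw [IsBaseChange.equiv_tmul, IsBaseChange.equiv_tmul, one_smul, one_smul, hl₁, hl₂, hl]
  have h3 : (υ : N₁ → N₂) = hb₂.equiv ∘ hb₁.equiv.symm := by
    funext n
    obtain ⟨t, rfl⟩ := hb₁.equiv.surjective n
    have := LinearMap.congr_fun hcomp t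
    rw [Function.comp_apply, LinearEquiv.symm_apply_apply]
    exact this
  rw [h3]
  exact hb₂.equiv.bijective.comp hb₁.equiv.symm.bijective

end Alg

section Transpose

variable {S S' : Scheme.{u}} (g : S' ⟶ S) (M : S.Modules) (N : S'.Modules)
  (φ : M ⟶ (pushforward g).obj N)

/-- the transpose of a morphism `M ⟶ g_* N` -/
noncomputable abbrev transp : (pullback g).obj M ⟶ N :=
  ((pullbackPushforwardAdjunction g).homEquiv _ _).symm φ

theorem transp_unitRes {V : S.Opens} {V' : S'.Opens} (e : V' ≤ g ⁻¹ᵁ V) (m : Γ(M, V)) :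
    (transp g M N φ).app V' (unitRes g M e m) =
      res N e (show Γ(N, g ⁻¹ᵁ V) from φ.app V m) := by
  have e1 : (pullbackPushforwardAdjunction g).unit.app M ≫
      (pushforward g).map (transp g M N φ) = φ := by
    have h0 := (pullbackPushforwardAdjunction g).homEquiv_unit (f := transp g M N φ)
    rw [← h0]
    exact Equiv.apply_symm_apply _ _
  have e2 := congrArg (fun ψ => Hom.app ψ V) e1
  have e3 := congrArg (fun ψ => ψ m) e2
  have e4 := app_res (transp g M N φ) e
    (((pullbackPushforwardAdjunction g).unit.app M).app V m)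
  unfold unitRes
  refine e4.trans ?_
  exact congrArg (res N e) e3

/-- **transpose criterion**: the transpose `g^* M ⟶ N` of `φ : M ⟶ g_* N` is an isomorphism as soon
as, near every point, the maps `Γ(M, V) → Γ(N, V')` induced by `φ` and restriction exhibit the
sections of `N` over small affine opens as base changes of the sections of `M` -/
theorem isIso_transp_of_isBC [M.IsQuasicoherent]
    (hloc : ∀ x : S', ∃ V : S.Opens, IsAffineOpen V ∧ g x ∈ V ∧
      ∀ (V' : S'.Opens) (e : V' ≤ g ⁻¹ᵁ V), IsAffineOpen V' →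
        IsBC (g.appLE V V' e).hom
          (fun m : Γ(M, V) => res N e (show Γ(N, g ⁻¹ᵁ V) from φ.app V m))) :
    IsIso (transp g M N φ) := by
  apply isIso_of_bijective_nhds
  intro U x hx
  obtain ⟨V, hV, hxV, hbc⟩ := hloc x
  obtain ⟨_, ⟨V', hV', rfl⟩, hxV', hle⟩ :=
    S'.isBasis_affineOpens.exists_subset_of_mem_open
      (show x ∈ (U ⊓ g ⁻¹ᵁ V : S'.Opens) from ⟨hx, hxV⟩) (U ⊓ g ⁻¹ᵁ V).2
  have e : V' ≤ g ⁻¹ᵁ V := fun y hy => (hle hy).2
  refine ⟨V', fun y hy => (hle hy).1, hxV', ?_⟩
  have h1 := isBC_unitRes g M hV hV' e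
  have h2 := hbc V' e hV'
  exact bijective_of_isBC_of_isBC (g.appLE V V' e).hom h1 h2
    ((transp g M N φ).app V').hom
    (fun r n => Hom.app_smul (transp g M N φ) r n)
    (fun m => transp_unitRes g M N φ e m)

end Transpose

end Groth.Agent.Helper7.GenBC
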