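import Mathlib
import Groth.Prelude.Def_CohCmp
import Groth.Agent.Lib.Helper7.GenBC.EpsRes
import Groth.Agent.Lib.Helper7.GenBC.EpsBij
import Groth.Agent.Lib.Helper7.GenBC.Transpose
import Groth.Agent.Lib.Helper7.GenBC.Comp
import Groth.Agent.Lib.Helper7.GenBC.Core
import Groth.Agent.Lib.Helper7.GenBC.FlatW
import Groth.Agent.Lib.Helper7.BC0.Main
import Groth.Agent.Lib.Helper3.FlatTen3

set_option linter.style.haveILetI false
set_option linter.unusedVariables false
set_option linter.unusedSectionVars false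
set_option autoImplicit false
set_option backward.isDefEq.respectTransparency.types false
set_option backward.isDefEq.respectTransparency false
set_option synthInstance.maxHeartbeats 400000
set_option maxHeartbeats 1600000

universe u

/-! helper7: cohomology and base change in degree p: the base change map of a cartesian square is an isomorphism when the fibre cohomology in degree p+1 vanishes (proper, finitely presented, flat) -/

open CategoryTheory CategoryTheory.Limits Opposite TopologicalSpace AlgebraicGeometry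
open AlgebraicGeometry.Scheme.Modules
open Groth.Agent.Helper1
open Groth.Agent.Helper1.RpushLoc
open Groth.Agent.Helper3
open Groth.Agent.Lib.Helper4.BaseChgRing1
open Groth.Agent.Lib.Helper4.TenSec2
open Groth.Agent.Lib.Helper4.LocCech1
open Groth.Agent.Lib.Helper4.CechTen1
open Groth.Agent.Lead.BCU

namespace Groth.Agent.Helper7.GenBC

section Lam

variable {X X' : Scheme.{u}} (g' : X' ⟶ X) (U : X.Opens) (U'' U''' : X'.Opens)
  (h₂ : U'' ≤ g' ⁻¹ᵁ U) (h₃ : U''' ≤ U'') (F : X.Modules)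

/-- the comparison of the pullback of `F|_U` along the composite restricted morphism with the
restriction of the pullback of `F` -/
noncomputable def psiIso :
    (Scheme.Modules.pullback (ResLE.jj h₃ ≫ g'.resLE U U'' h₂)).obj (F.restrict U.ι) ≅
      ((Scheme.Modules.pullback g').obj F).restrict U'''.ι :=
  ((pullbackComp (ResLE.jj h₃) (g'.resLE U U'' h₂)).symm.app (F.restrict U.ι)) ≪≫
    (Scheme.Modules.pullback (ResLE.jj h₃)).mapIso (CohPull.pullOnIso g' U U'' h₂ F) ≪≫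
    CohPull.pullOnIso (𝟙 X') U'' U''' (ResLE.le_id_preimage h₃)
      ((Scheme.Modules.pullback g').obj F) ≪≫
    (restrictFunctor U'''.ι).mapIso ((pullbackId X').app ((Scheme.Modules.pullback g').obj F))

theorem mapH_mapH {Z : Scheme.{u}} {A B C : Z.Modules} (a : A ⟶ B) (b : B ⟶ C) (p : ℕ)
    (y : Coh.HH Z A p) :
    CohPull.mapH b p (CohPull.mapH a p y) = CohPull.mapH (a ≫ b) p y := by
  change Sheaf.H.map _ p (Sheaf.H.map _ p y) = Sheaf.H.map _ p y
  rw [← Sheaf.H.map_comp_apply, ← CategoryTheory.Functor.map_comp]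

set_option maxRecDepth 8000 in
/-- restriction after the pullback over opens is a pullback along the composite -/
theorem resLE_pullOn (p : ℕ) (x : Coh.HHon X F U p) :
    CohPull.resLE ((Scheme.Modules.pullback g').obj F) h₃ p (CohPull.pullOn g' U U'' h₂ F p x) =
      CohPull.mapH (psiIso g' U U'' U''' h₂ h₃ F).hom p
        (CohPull.pullMod (ResLE.jj h₃ ≫ g'.resLE U U'' h₂) (F.restrict U.ι) p x) := by
  have e0 : ∀ y : Coh.HHon X' ((Scheme.Modules.pullback g').obj F) U'' p,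
      CohPull.resLE ((Scheme.Modules.pullback g').obj F) h₃ p y =
      CohPull.mapH ((restrictFunctor U'''.ι).map
          ((pullbackId X').hom.app ((Scheme.Modules.pullback g').obj F))) p
        (CohPull.mapH (CohPull.pullOnIso (𝟙 X') U'' U''' (ResLE.le_id_preimage h₃)
            ((Scheme.Modules.pullback g').obj F)).hom p
          (CohPull.pullMod (ResLE.jj h₃) (((Scheme.Modules.pullback g').obj F).restrict U''.ι) p
            y)) := fun y => rfl
  have e00 : CohPull.pullOn g' U U'' h₂ F p x =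
      CohPull.mapH (CohPull.pullOnIso g' U U'' h₂ F).hom p
        (CohPull.pullMod (g'.resLE U U'' h₂) (F.restrict U.ι) p x) := rfl
  rw [e0, e00, pullMod_mapH, pullMod_comp, mapH_mapH, mapH_mapH]
  refine (mapH_mapH _ _ p _).trans ?_
  rfl

theorem jj_comp_resLE :
    ResLE.jj h₃ ≫ g'.resLE U U'' h₂ = g'.resLE U U''' (h₃.trans h₂) := by
  rw [← cancel_mono U.ι]
  simp

end Lam

section Sq

variable {X S X' S' : Scheme.{u}} {f : X ⟶ S} {g : S' ⟶ S} {f' : X' ⟶ S'} {g' : X' ⟶ X}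

/-- the cartesian square of the restricted morphisms over affine opens of the bases -/
theorem isPullback_resLE (h : IsPullback g' f' f g) {V : S.Opens} {V' : S'.Opens}
    (hV : IsAffineOpen V) (hV' : IsAffineOpen V') (e : V' ≤ g ⁻¹ᵁ V)
    (hle : f' ⁻¹ᵁ V' ≤ g' ⁻¹ᵁ (f ⁻¹ᵁ V)) :
    IsPullback (g'.resLE (f ⁻¹ᵁ V) (f' ⁻¹ᵁ V') hle) (strMap f' hV') (strMap f hV)
      (Spec.map (CommRingCat.ofHom (g.appLE V V' e).hom)) := by
  have h1 := Groth.Agent.Lib.Helper4.ChartSq1.isPullback_chart f' hV'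
  have h2 := Groth.Agent.Lib.Helper4.ChartSq1.isPullback_chart f hV
  have h3 := h1.paste_horiz h
  have e1 : g'.resLE (f ⁻¹ᵁ V) (f' ⁻¹ᵁ V') hle ≫ (f ⁻¹ᵁ V).ι = (f' ⁻¹ᵁ V').ι ≫ g' :=
    Scheme.Hom.resLE_comp_ι g' hle
  have e2 : Spec.map (CommRingCat.ofHom (g.appLE V V' e).hom) ≫ hV.fromSpec =
      hV'.fromSpec ≫ g := hV.SpecMap_appLE_fromSpec g hV' e
  refine IsPullback.of_right (h₁₂ := (f ⁻¹ᵁ V).ι) (h₂₂ := hV.fromSpec) ?_ ?_ h2
  · rw [e1, e2]
    exact h3
  · rw [← cancel_mono hV.fromSpec]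
    calc (g'.resLE (f ⁻¹ᵁ V) (f' ⁻¹ᵁ V') hle ≫ strMap f hV) ≫ hV.fromSpec
        = g'.resLE (f ⁻¹ᵁ V) (f' ⁻¹ᵁ V') hle ≫ (f ⁻¹ᵁ V).ι ≫ f := by
          rw [Category.assoc, ← h2.w]
      _ = ((f' ⁻¹ᵁ V').ι ≫ g') ≫ f := by rw [← Category.assoc, e1]
      _ = (f' ⁻¹ᵁ V').ι ≫ f' ≫ g := by rw [Category.assoc, h.w]
      _ = strMap f' hV' ≫ hV'.fromSpec ≫ g := by rw [← Category.assoc, h1.w, Category.assoc]
      _ = (strMap f' hV' ≫ Spec.map (CommRingCat.ofHom (g.appLE V V' e).hom)) ≫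
          hV.fromSpec := by rw [Category.assoc, e2]

end Sq

section Lin

variable {X Y : Scheme.{u}} (f : X ⟶ Y) [HasInjectiveResolutions X.Modules]
  {Δ : RDer.DerivedLES (pushforward f)} (E : CohCmp.SectCmp f Δ)
  {V : Y.Opens} (hV : IsAffineOpen V)
  [ov : (↑(f ⁻¹ᵁ V) : Scheme.{u}).Over (Spec (CommRingCat.of Γ(Y, V)))]
  (hov : ((↑(f ⁻¹ᵁ V) : Scheme.{u}) ↘ Spec (CommRingCat.of Γ(Y, V))) = strMap f hV)

include hov in
theorem toGlobal_eq_rho (a : Γ(Y, V)) :
    Coh.toGlobal ((↑(f ⁻¹ᵁ V) : Scheme.{u}) ↘ Spec (CommRingCat.of Γ(Y, V))) a = rho f V a := by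
  rw [← resTop_top _ (Coh.toGlobal _ a), Groth.Agent.Lib.Helper4.CechTen3.resTop_toGlobal]
  exact Groth.Agent.Helper7.BC0.key_smul f hV hov ⊤ a

include hov in
theorem eps_smul' (F : X.Modules) (p : ℕ) (a : Γ(Y, V)) (x : Coh.HHon X F (f ⁻¹ᵁ V) p) :
    E.ε V F p (a • x) = a • (show Γ((Coh.Rpush f p).obj F, V) from E.ε V F p x) := by
  have h := eps_smul f E p F V a x
  rw [← toGlobal_eq_rho f hV hov a] at h
  exact h

include hov in
/-- the comparison over an affine open, as a linear equivalence over the coordinate ring -/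
noncomputable def epsLin [QuasiCompact f] [QuasiSeparated f] (F : X.Modules) [F.IsQuasicoherent]
    (p : ℕ) : Coh.HHon X F (f ⁻¹ᵁ V) p ≃ₗ[Γ(Y, V)] Γ((Coh.Rpush f p).obj F, V) :=
  LinearEquiv.ofBijective
    { toFun := E.ε V F p
      map_add' := map_add _
      map_smul' := fun a x => eps_smul' f E hV hov F p a x }
    (eps_bijective_of_isAffineOpen f E V hV F p)

include hov in
theorem epsLin_apply [QuasiCompact f] [QuasiSeparated f] (F : X.Modules) [F.IsQuasicoherent]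
    (p : ℕ) (x : Coh.HHon X F (f ⁻¹ᵁ V) p) : epsLin f E hV hov F p x = E.ε V F p x := rfl

end Lin

section Local

variable {X S X' S' : Scheme.{u}} (f : X ⟶ S) (g : S' ⟶ S) (f' : X' ⟶ S') (g' : X' ⟶ X)
  (h : IsPullback g' f' f g) [QuasiCompact f] [QuasiSeparated f] [QuasiCompact f']
  [QuasiSeparated f'] [HasInjectiveResolutions X.Modules] [HasInjectiveResolutions X'.Modules]
  {Δ : RDer.DerivedLES (pushforward f)} {Δ' : RDer.DerivedLES (pushforward f')}
  (E : CohCmp.SectCmp f Δ) (E' : CohCmp.SectCmp f' Δ') (B : CohCmp.GenBC f g f' g' h.w E E')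
  (F : X.Modules) [F.IsQuasicoherent] (p : ℕ)

attribute [local instance] secMod

/-- **the local base change statement**: over an affine open `V` of the base such that the Čech
complex of a finite affine cover of `f⁻¹ V` has flat terms and flat cokernel in degree `p`, the
sections of the base change map over every affine open `V'` over `V` exhibit the sections of the
higher direct image upstairs as the base change of those downstairs -/
theorem isBC_local {V : S.Opens} (hV : IsAffineOpen V)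
    [ov : (↑(f ⁻¹ᵁ V) : Scheme.{u}).Over (Spec (CommRingCat.of Γ(S, V)))]
    (hov : ((↑(f ⁻¹ᵁ V) : Scheme.{u}) ↘ Spec (CommRingCat.of Γ(S, V))) = strMap f hV)
    {V' : S'.Opens} (hV' : IsAffineOpen V') (e : V' ≤ g ⁻¹ᵁ V)
    {ι₀ : Type u} [Finite ι₀] (U₀ : ι₀ → (↑(f ⁻¹ᵁ V) : Scheme.{u}).Opens)
    (hcov : iSup U₀ = ⊤) (haff : ∀ (n : ℕ) (a : Fin (n + 1) → ι₀), IsAffineOpen (TCx.W U₀ a))
    (hfl : ∀ n, Module.Flat Γ(S, V) (Co (F.restrict (f ⁻¹ᵁ V).ι) U₀ n))
    (hW : Module.Flat Γ(S, V) (Co (F.restrict (f ⁻¹ᵁ V).ι) U₀ (p + 1) ⧸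
      LinearMap.range (DdA Γ(S, V) (F.restrict (f ⁻¹ᵁ V).ι) U₀ p))) :
    IsBC (g.appLE V V' e).hom (fun m : Γ((Coh.Rpush f p).obj F, V) =>
      res ((Coh.Rpush f' p).obj ((Scheme.Modules.pullback g').obj F)) e
        (show Γ((Coh.Rpush f' p).obj ((Scheme.Modules.pullback g').obj F), g ⁻¹ᵁ V) from
          (B.φ p F).app V m)) := by
  letI ov' : (↑(f' ⁻¹ᵁ V') : Scheme.{u}).Over (Spec (CommRingCat.of Γ(S', V'))) :=
    ⟨strMap f' hV'⟩
  have h₂ : f' ⁻¹ᵁ (g ⁻¹ᵁ V) ≤ g' ⁻¹ᵁ (f ⁻¹ᵁ V) := CohCmp.sqLE f g f' g' h.w V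
  have h₃ : f' ⁻¹ᵁ V' ≤ f' ⁻¹ᵁ (g ⁻¹ᵁ V) := f'.preimage_mono e
  have hsq := isPullback_resLE h hV hV' e (h₃.trans h₂)
  rw [← hov] at hsq
  have hbc := isBC_pullMod (g.appLE V V' e).hom
    (g'.resLE (f ⁻¹ᵁ V) (f' ⁻¹ᵁ V') (h₃.trans h₂)) (F.restrict (f ⁻¹ᵁ V).ι) U₀ hsq haff hcov p
    hfl hW
  rw [← jj_comp_resLE g' (f ⁻¹ᵁ V) (f' ⁻¹ᵁ (g ⁻¹ᵁ V)) (f' ⁻¹ᵁ V') h₂ h₃] at hbc
  haveI : ((Scheme.Modules.pullback g').obj F).IsQuasicoherent :=
    Groth.Agent.Lead.PB.isQuasicoherent_pullback _ _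
  let μ := epsLin f E hV hov F p
  let ν₀ := epsLin f' E' hV' rfl ((Scheme.Modules.pullback g').obj F) p
  let ψ := psiIso g' (f ⁻¹ᵁ V) (f' ⁻¹ᵁ (g ⁻¹ᵁ V)) (f' ⁻¹ᵁ V') h₂ h₃ F
  let ν := (Groth.Agent.Helper3.FlatTen.HHcongr Γ(S', V') ψ p).trans ν₀
  refine IsBC.of_equiv μ.symm ν.symm ?_ hbc
  intro m
  rw [LinearEquiv.symm_apply_eq]
  obtain ⟨x, rfl⟩ := μ.surjective m
  rw [LinearEquiv.symm_apply_apply]
  change res ((Coh.Rpush f' p).obj ((Scheme.Modules.pullback g').obj F)) e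
      (show Γ((Coh.Rpush f' p).obj ((Scheme.Modules.pullback g').obj F), g ⁻¹ᵁ V) from
        (B.φ p F).app V (E.ε V F p x)) =
    E'.ε V' ((Scheme.Modules.pullback g').obj F) p (CohPull.mapH ψ.hom p
      (CohPull.pullMod (ResLE.jj h₃ ≫ g'.resLE (f ⁻¹ᵁ V) (f' ⁻¹ᵁ (g ⁻¹ᵁ V)) h₂)
        (F.restrict (f ⁻¹ᵁ V).ι) p x))
  rw [B.compat V F p x, eps_res f' E' p ((Scheme.Modules.pullback g').obj F) e, resLE_pullOn]

end Local

section Global

variable {X S : Scheme.{u}} (f : X ⟶ S) [IsProper f] [LocallyOfFinitePresentation f]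
  [HasInjectiveResolutions X.Modules]
  (F : X.Modules) [F.IsQuasicoherent] (hfp : CohB1.IsFP F) (hfl : FlatMod.IsFlatOver f F)
  {Δ : RDer.DerivedLES (pushforward f)} (E : CohCmp.SectCmp f Δ)

attribute [local instance] secMod

include hfp hfl in
/-- **cohomology and base change in degree `p`**: the base change map in degree `p` of a
cartesian square is an isomorphism as soon as the cohomology in degree `p + 1` of the fibres over
the image of the base change vanishes -/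
theorem isIso_bc_of_fibre_vanishing {X' S' : Scheme.{u}} (g' : X' ⟶ X) (f' : X' ⟶ S')
    (g : S' ⟶ S) (h : IsPullback g' f' f g) [HasInjectiveResolutions X'.Modules]
    {Δ' : RDer.DerivedLES (pushforward f')} (E' : CohCmp.SectCmp f' Δ')
    (B : CohCmp.GenBC f g f' g' h.w E E') (p : ℕ)
    (hv : ∀ z : S', Subsingleton (CohIII.fiberH f F (g z) (p + 1))) :
    IsIso (B.bc p F) := by
  haveI : IsProper f' := MorphismProperty.of_isPullback (P := @IsProper) h inferInstance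
  haveI : ((Coh.Rpush f p).obj F).IsQuasicoherent :=
    Groth.Agent.Lib.Helper5.RpushClassic.isQuasicoherent_rpush f F p
  change IsIso (transp g ((Coh.Rpush f p).obj F)
    ((Coh.Rpush f' p).obj ((Scheme.Modules.pullback g').obj F)) (B.φ p F))
  apply isIso_transp_of_isBC
  intro z
  obtain ⟨_, ⟨V₁, hV₁, rfl⟩, hyV₁, -⟩ :=
    S.isBasis_affineOpens.exists_subset_of_mem_open (Set.mem_univ (g z)) isOpen_univ
  have hsq := Groth.Agent.Lib.Helper4.ChartSq1.isPullback_chart f hV₁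
  haveI : IsProper (strMap f hV₁) :=
    MorphismProperty.of_isPullback (P := @IsProper) hsq inferInstance
  haveI : LocallyOfFinitePresentation (strMap f hV₁) :=
    MorphismProperty.of_isPullback (P := @LocallyOfFinitePresentation) hsq inferInstance
  have hF' : CohB1.IsFP ((Scheme.Modules.pullback (f ⁻¹ᵁ V₁).ι).obj F) :=
    Groth.Agent.Lead.LimZ.isFP_pullback _ F hfp
  haveI : ((Scheme.Modules.pullback (f ⁻¹ᵁ V₁).ι).obj F).IsQuasicoherent :=
    (Groth.Agent.Helper7.ConsMod.isCoh_of_isFP _ hF').1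
  have hfl' : FlatMod.IsFlatOver (strMap f hV₁)
      ((Scheme.Modules.pullback (f ⁻¹ᵁ V₁).ι).obj F) := fun z =>
    Groth.Agent.Lead.FB.flat_baseChange hsq F z (hfl _)
  have hr : g z ∈ Set.range hV₁.fromSpec := by
    rw [hV₁.range_fromSpec]
    exact hyV₁
  obtain ⟨y₁, hy₁⟩ := hr
  have h1' : Subsingleton (CohIII.fiberH (strMap f hV₁)
      ((Scheme.Modules.pullback (f ⁻¹ᵁ V₁).ι).obj F) y₁ (p + 1)) :=
    (Groth.Agent.Helper7.CohBC.subsingleton_fiberH_baseChange f hV₁.fromSpec (f ⁻¹ᵁ V₁).ι _ hsq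
      F y₁ (p + 1)).2 (by rw [hy₁]; exact hv z)
  obtain ⟨g₀, hg₀, hflat⟩ := exists_unit_flatW_deg Γ(S, V₁) (strMap f hV₁) _ hF' hfl' p y₁ h1'
  have hW : IsAffineOpen (S.basicOpen g₀) := hV₁.basicOpen g₀
  have hleW : S.basicOpen g₀ ≤ V₁ := S.basicOpen_le g₀
  refine ⟨S.basicOpen g₀, hW, ?_, fun V' e hV' => ?_⟩
  · have h4 : y₁ ∈ hV₁.fromSpec ⁻¹ᵁ S.basicOpen g₀ := by
      rw [hV₁.fromSpec_preimage_basicOpen]
      exact hg₀
    rw [← hy₁]
    exact h4
  · have hs := isPullback_strMap f hV₁ hW hleW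
    have hu : IsUnit ((S.presheaf.map (homOfLE hleW).op).hom g₀) :=
      S.toRingedSpace.isUnit_res_basicOpen g₀
    letI : (↑(f ⁻¹ᵁ S.basicOpen g₀) : Scheme.{u}).Over
        (Spec (CommRingCat.of Γ(S, S.basicOpen g₀))) := ⟨strMap f hW⟩
    let e₀ : (Scheme.Modules.pullback (X.homOfLE (f.preimage_mono hleW))).obj
        ((Scheme.Modules.pullback (f ⁻¹ᵁ V₁).ι).obj F) ≅ F.restrict (f ⁻¹ᵁ S.basicOpen g₀).ι :=
      (Groth.Agent.Helper7.ConsMod.pullbackFacIso (X.homOfLE_ι (f.preimage_mono hleW)) F).symm ≪≫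
        (Scheme.Modules.restrictFunctorIsoPullback _).symm.app F
    obtain ⟨ι₀, hfin, U', hcovU, haffU, hflW⟩ := hflat Γ(S, S.basicOpen g₀)
      (S.presheaf.map (homOfLE hleW).op).hom hu _ (strMap f hW)
      (X.homOfLE (f.preimage_mono hleW)) hs (F.restrict (f ⁻¹ᵁ S.basicOpen g₀).ι) e₀
    haveI := hfin
    haveI : (F.restrict (f ⁻¹ᵁ S.basicOpen g₀).ι).IsQuasicoherent := inferInstance
    have hflr : FlatMod.IsFlatOver (strMap f hW) (F.restrict (f ⁻¹ᵁ S.basicOpen g₀).ι) :=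
      Groth.Agent.Lib.Helper4.ChartSq1.isFlatOver_restrict f hW F hfl
    exact isBC_local f g f' g' h E E' B F p hW rfl hV' e U' hcovU haffU
      (fun n => Groth.Agent.Helper7.BC0.flat_Co Γ(S, S.basicOpen g₀)
        (F.restrict (f ⁻¹ᵁ S.basicOpen g₀).ι) U' hflr haffU n) hflW

end Global

end Groth.Agent.Helper7.GenBC
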