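import Mathlib
import Groth.Prelude.Def_CohCmp
import Groth.Agent.Lib.Helper7.GenBC.EpiCech
import Groth.Agent.Lib.Helper7.GenBC.FlatW
import Groth.Agent.Lib.Helper7.GenBC.KT
import Groth.Agent.Lib.Helper7.Betti.Main
import Groth.Agent.Lib.Helper3.FlatTen3

set_option linter.style.haveILetI false
set_option linter.unusedVariables false
set_option linter.unusedSectionVars false
set_option autoImplicit false
set_option backward.isDefEq.respectTransparency.types false
set_option backward.isDefEq.respectTransparency false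
set_option synthInstance.maxHeartbeats 400000
set_option maxHeartbeats 1600000

universe u

/-! helper7: flatness of the Cech cokernel in degree p near a point of an affine base where the pullback map to the fibre generates the cohomology of the fibre in degree p (proper, finitely presented, flat), via a Noetherian model and its finite free complex -/

open CategoryTheory CategoryTheory.Limits AlgebraicGeometry Opposite TopologicalSpace Topology
open MonoidalCategory
open Groth.Agent.Helper1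
open Groth.Agent.Lib.Helper4.LocCech1
open Groth.Agent.Lib.Helper4.BaseChgRing1
open Groth.Agent.Lib.Helper4.TenSec2
open Groth.Agent.Lib.Helper4.CechTen1
open Groth.Agent.Lib.Helper4.CechTen2
open Groth.Agent.Lib.Helper4.CechTen3
open Groth.Agent.Lib.Helper4.BCSec1
open Groth.Agent.Lib.Helper4.BCSec2
open Groth.Agent.Lib.Helper4.MumCx1
open Groth.Agent.Lib.Helper4.MumCx2
open Groth.Agent.Lib.Helper4.MumBC1
open Groth.Agent.Lib.Helper4.MumBC2
open Groth.Agent.Lib.Helper4.ExchAlg1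
open Groth.Agent.Lib.Helper4.ExchAlg2
open Groth.Agent.Helper7.BC0

namespace Groth.Agent.Helper7.GenBC

attribute [local instance] Groth.Agent.Lib.Helper4.TenSec2.secMod

section Span

variable {B : Type u} [CommRing B] {X X' : Scheme.{u}} [X'.Over (Spec (CommRingCat.of B))]
  (r : X' ⟶ X)

/-- generation by the pullback map only depends on the isomorphism class of the module -/
theorem span_pullMod_of_iso {F G : X.Modules} (e : G ≅ F) (p : ℕ)
    (h : Submodule.span B (Set.range (CohPull.pullMod r F p)) = ⊤) :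
    Submodule.span B (Set.range (CohPull.pullMod r G p)) = ⊤ := by
  let L := Groth.Agent.Helper3.FlatTen.HHcongr B ((Scheme.Modules.pullback r).mapIso e) p
  rw [eq_top_iff]
  intro y _
  have hy : L y ∈ Submodule.span B (Set.range (CohPull.pullMod r F p)) := by
    rw [h]
    exact Submodule.mem_top
  have key : ∀ h' ∈ Submodule.span B (Set.range (CohPull.pullMod r F p)),
      L.symm h' ∈ Submodule.span B (Set.range (CohPull.pullMod r G p)) := by
    intro h' hh'
    refine Submodule.span_induction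
      (p := fun h' _ => L.symm h' ∈ Submodule.span B (Set.range (CohPull.pullMod r G p)))
      ?_ ?_ ?_ ?_ hh'
    · rintro _ ⟨x, rfl⟩
      apply Submodule.subset_span
      refine ⟨CohPull.mapH e.inv p x, ?_⟩
      rw [LinearEquiv.eq_symm_apply]
      change CohPull.mapH ((Scheme.Modules.pullback r).map e.hom) p
        (CohPull.pullMod r G p (CohPull.mapH e.inv p x)) = _
      rw [← pullMod_mapH, mapH_mapH, e.inv_hom_id]
      congr 1
      change Sheaf.H.map ((SheafOfModules.toSheaf X.ringCatSheaf).map (𝟙 F)) p x = x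
      rw [CategoryTheory.Functor.map_id]
      exact Sheaf.H.map_id_apply x
    · rw [map_zero]
      exact zero_mem _
    · intro a b _ _ ha hb
      rw [map_add]
      exact add_mem ha hb
    · intro c a _ ha
      rw [L.symm.map_smul]
      exact Submodule.smul_mem _ c ha
  have h2 := key _ hy
  rwa [LinearEquiv.symm_apply_apply] at h2

end Span

section Point

/-- **flatness of the Čech cokernel near a point where the pullback to the fibre generates** -/
theorem exists_unit_flatW_of_span (A : Type u) [CommRing A] {X : Scheme.{u}}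
    (f : X ⟶ Spec (CommRingCat.of A)) [IsProper f] [LocallyOfFinitePresentation f]
    (F : X.Modules) [F.IsQuasicoherent] (hF : CohB1.IsFP F) (hfl : FlatMod.IsFlatOver f F)
    (p : ℕ) {k : Type u} [CommRing k] (hk : IsField k) (φ : A →+* k) {Xk : Scheme.{u}}
    (fk : Xk ⟶ Spec (CommRingCat.of k)) (rk : Xk ⟶ X)
    (hsqk : IsPullback rk fk f (Spec.map (CommRingCat.ofHom φ)))
    (hspan : letI : Xk.Over (Spec (CommRingCat.of k)) := ⟨fk⟩
      Submodule.span k (Set.range (CohPull.pullMod rk F p)) = ⊤) :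
    ∃ g : A, φ g ≠ 0 ∧ ∀ (B : Type u) [CommRing B] (ψ : A →+* B), IsUnit (ψ g) →
      ∀ (X' : Scheme.{u}) (f' : X' ⟶ Spec (CommRingCat.of B)) (r : X' ⟶ X),
        IsPullback r f' f (Spec.map (CommRingCat.ofHom ψ)) →
        ∀ (G : X'.Modules), ((Scheme.Modules.pullback r).obj F ≅ G) →
        letI : X'.Over (Spec (CommRingCat.of B)) := ⟨f'⟩
        ∃ (ι : Type u) (_ : Finite ι) (U : ι → X'.Opens), iSup U = ⊤ ∧
          (∀ (n : ℕ) (a : Fin (n + 1) → ι), IsAffineOpen (TCx.W U a)) ∧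
          Module.Flat B (Co G U (p + 1) ⧸ LinearMap.range (DdA B G U p)) := by
  obtain ⟨j, X₀, f₀, F₀, q, hprop, hcoh, hflat, hpb, ⟨e⟩⟩ :=
    Groth.Agent.Helper7.Betti.exists_model_proper_flat A f F hF hfl
  haveI := hprop
  haveI : F₀.IsQuasicoherent := hcoh.1
  haveI : Algebra.FiniteType ℤ ↥j.unop.1 := (Subalgebra.fg_iff_finiteType _).mp j.unop.2
  haveI : IsNoetherianRing ↥j.unop.1 := Algebra.FiniteType.isNoetherianRing ℤ _
  obtain ⟨f₀', hf₀'⟩ : ∃ f₀' : X₀ ⟶ Spec (CommRingCat.of ↥j.unop.1), f₀' = f₀ := ⟨f₀, rfl⟩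
  haveI hprop' : IsProper f₀' := by rw [hf₀']; exact hprop
  have hflat' : FlatMod.IsFlatOver f₀' F₀ := by rw [hf₀']; exact hflat
  have hpb' : IsPullback q f f₀' (Spec.map (CommRingCat.ofHom (algebraMap ↥j.unop.1 A))) := by
    rw [hf₀']; exact hpb
  letI : X₀.Over (Spec (CommRingCat.of ↥j.unop.1)) := ⟨f₀'⟩
  letI : X.Over (Spec (CommRingCat.of A)) := ⟨f⟩
  letI : Xk.Over (Spec (CommRingCat.of k)) := ⟨fk⟩
  haveI : IsProper (X₀ ↘ Spec (CommRingCat.of ↥j.unop.1)) := hprop'
  obtain ⟨D⟩ := nonempty_mdata ↥j.unop.1 X₀ F₀ hcoh hflat'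
  haveI := D.fin
  haveI : IsAffineHom q := isAffineHom_of_sq (algebraMap ↥j.unop.1 A) q hpb'
  have haffA := isAffineOpen_Wp q D.U D.haff
  have hcovA := iSup_Up q D.U D.hcov
  haveI : (Fp q F₀).IsQuasicoherent := Groth.Agent.Lead.PB.isQuasicoherent_pullback _ _
  have hspan' : Submodule.span k (Set.range (CohPull.pullMod rk (Fp q F₀) p)) = ⊤ :=
    span_pullMod_of_iso rk e p hspan
  letI := φ.toAlgebra
  letI := hk.toField
  have hgenCZ := genAt_CZ_of_span φ rk (Fp q F₀) (Up q D.U) hsqk haffA hcovA p hspan'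
  let ΘA : CohIII.TFun (bcK (B := A) D.K) (p : ℤ) ⋙
        forget₂ (ModuleCat.{u} A) AddCommGrpCat.{u} ≅
      CohIII.TFun (CZ A (Fp q F₀) (Up q D.U)) (p : ℤ) ⋙
        forget₂ (ModuleCat.{u} A) AddCommGrpCat.{u} :=
    tbc D.K (p : ℤ) ≪≫
      Functor.isoWhiskerLeft (ModuleCat.restrictScalars (algebraMap ↥j.unop.1 A))
        (Functor.isoWhiskerRight (D.eK (p : ℤ))
          (forget₂ (ModuleCat.{u} ↥j.unop.1) AddCommGrpCat.{u})) ≪≫
      bcCech (algebraMap ↥j.unop.1 A) q F₀ D.U hpb' D.haff p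
  have hgenK := GenAt.of_iso ΘA.symm _ _ hgenCZ
  haveI : Module.Finite ↥j.unop.1 (D.K.X (p : ℤ)) := (D.hff _).1
  haveI : Module.Finite ↥j.unop.1 (D.K.X ((p : ℤ) + 1)) := (D.hff _).1
  haveI : Module.Free ↥j.unop.1 (D.K.X ((p : ℤ) + 1)) := (D.hff _).2
  obtain ⟨g, hg, hPS⟩ := exists_unit_presSurj_of_genAt (A₁ := ↥j.unop.1) (A := A) D.K (p : ℤ)
    (k := k) _ hgenK
  refine ⟨g, hg, fun B _ ψ hu X' f' r hsq G eG => ?_⟩
  letI : X'.Over (Spec (CommRingCat.of B)) := ⟨f'⟩
  letI algAB : Algebra A B := ψ.toAlgebra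
  letI algA₁B : Algebra ↥j.unop.1 B := (ψ.comp (algebraMap ↥j.unop.1 A)).toAlgebra
  haveI : IsScalarTower ↥j.unop.1 A B := IsScalarTower.of_algebraMap_eq (fun x => rfl)
  have hPSB := hPS B hu
  have hsqχ : IsPullback (r ≫ q) f' f₀'
      (Spec.map (CommRingCat.ofHom (ψ.comp (algebraMap ↥j.unop.1 A)))) := by
    have h1 := hsq.paste_horiz hpb'
    rwa [← Spec.map_comp, ← CommRingCat.ofHom_comp] at h1
  haveI : IsAffineHom (r ≫ q) :=
    isAffineHom_of_sq (ψ.comp (algebraMap ↥j.unop.1 A)) (r ≫ q) hsqχ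
  have haffB := isAffineOpen_Wp (r ≫ q) D.U D.haff
  have hcovB := iSup_Up (r ≫ q) D.U D.hcov
  haveI : (Fp (r ≫ q) F₀).IsQuasicoherent := Groth.Agent.Lead.PB.isQuasicoherent_pullback _ _
  have hflB : FlatMod.IsFlatOver (X' ↘ Spec (CommRingCat.of B)) (Fp (r ≫ q) F₀) := fun z =>
    Groth.Agent.Lead.FB.flat_baseChange hsqχ F₀ z (hflat' _)
  let ΘB : CohIII.TFun (bcK (B := B) D.K) (p : ℤ) ⋙
        forget₂ (ModuleCat.{u} B) AddCommGrpCat.{u} ≅
      CohIII.TFun (CZ B (Fp (r ≫ q) F₀) (Up (r ≫ q) D.U)) (p : ℤ) ⋙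
        forget₂ (ModuleCat.{u} B) AddCommGrpCat.{u} :=
    tbc D.K (p : ℤ) ≪≫
      Functor.isoWhiskerLeft (ModuleCat.restrictScalars (algebraMap ↥j.unop.1 B))
        (Functor.isoWhiskerRight (D.eK (p : ℤ))
          (forget₂ (ModuleCat.{u} ↥j.unop.1) AddCommGrpCat.{u})) ≪≫
      bcCech (ψ.comp (algebraMap ↥j.unop.1 A)) (r ≫ q) F₀ D.U hsqχ D.haff p
  have hPSCZ : PresSurj (CZ B (Fp (r ≫ q) F₀) (Up (r ≫ q) D.U)) (p : ℤ) := by
    intro M M'' g₀ hg₀
    have h1 := (map_surjective_iff (bcK (B := B) D.K) (p : ℤ) ΘB g₀).2 (hPSB M M'' g₀ hg₀)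
    intro y
    obtain ⟨x, hx⟩ := h1 y
    exact ⟨x, hx⟩
  have hW := flatW_of_presSurj_deg B (Fp (r ≫ q) F₀) (Up (r ≫ q) D.U) p hflB haffB hPSCZ
  let e' : Fp (r ≫ q) F₀ ≅ G :=
    (Scheme.Modules.pullbackComp r q).symm.app F₀ ≪≫ (Scheme.Modules.pullback r).mapIso e ≪≫ eG
  exact ⟨D.ι, D.fin, Up (r ≫ q) D.U, hcovB, haffB,
    flatW_of_iso_deg B (Up (r ≫ q) D.U) e' p hW⟩

end Point

end Groth.Agent.Helper7.GenBC
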