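import Mathlib
import Groth.Prelude.Def_CohCmp
import Groth.Agent.Lib.Helper7.GenBC.KT
import Groth.Agent.Lib.Helper7.GenBC.EpiFlat
import Groth.Agent.Lib.Helper5.Euler.OnePoint

set_option linter.style.haveILetI false
set_option linter.unusedVariables false
set_option linter.unusedSectionVars false
set_option autoImplicit false
set_option backward.isDefEq.respectTransparency.types false
set_option backward.isDefEq.respectTransparency false
set_option synthInstance.maxHeartbeats 400000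
set_option maxHeartbeats 1600000

universe u

/-! helper7: from an epimorphic fibre base change map to flat Cech cokernels near the point, and cohomology and base change from flat cokernels -/

open CategoryTheory CategoryTheory.Limits Opposite TopologicalSpace AlgebraicGeometry
open AlgebraicGeometry.Scheme.Modules
open Groth.Agent.Helper1
open Groth.Agent.Helper1.RpushLoc
open Groth.Agent.Helper3
open Groth.Agent.Lib.Helper4.BaseChgRing1
open Groth.Agent.Lib.Helper4.TenSec2
open Groth.Agent.Lib.Helper4.LocCech1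
open Groth.Agent.Lib.Helper4.CechTen1
open Groth.Agent.Lead.BCU

namespace Groth.Agent.Helper7.GenBC

section Alg

variable {A A' : Type u} [CommRing A] [CommRing A'] (φ : A →+* A')
  {M N : Type u} [AddCommGroup M] [Module A M] [AddCommGroup N] [Module A' N]

/-- the image of a base change generates -/
theorem span_of_isBC {l : M → N} (h : IsBC φ l) : Submodule.span A' (Set.range l) = ⊤ := by
  letI := φ.toAlgebra
  letI : Module A N := Module.compHom N φ
  haveI : IsScalarTower A A' N := ⟨fun a a' n => by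
    change (φ a * a') • n = φ a • a' • n
    exact mul_smul _ _ _⟩
  obtain ⟨l', hl', hb⟩ := h
  rw [eq_top_iff]
  intro n _
  exact hb.inductionOn n (fun n => n ∈ Submodule.span A' (Set.range l)) (zero_mem _)
    (fun m => Submodule.subset_span ⟨m, (hl' m).symm⟩)
    (fun s n hn => Submodule.smul_mem _ s hn) (fun _ _ h1 h2 => add_mem h1 h2)

end Alg

section Local

variable {X S X' S' : Scheme.{u}} (f : X ⟶ S) (g : S' ⟶ S) (f' : X' ⟶ S') (g' : X' ⟶ X)
  (h : IsPullback g' f' f g) [QuasiCompact f] [QuasiSeparated f] [QuasiCompact f']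
  [QuasiSeparated f'] [HasInjectiveResolutions X.Modules] [HasInjectiveResolutions X'.Modules]
  {Δ : RDer.DerivedLES (pushforward f)} {Δ' : RDer.DerivedLES (pushforward f')}
  (E : CohCmp.SectCmp f Δ) (E' : CohCmp.SectCmp f' Δ') (B : CohCmp.GenBC f g f' g' h.w E E')
  (F : X.Modules) [F.IsQuasicoherent] (p : ℕ)

attribute [local instance] secMod

/-- the sections of the base change map over affine opens, through the comparison maps -/
theorem res_phi_eq {V : S.Opens} {V' : S'.Opens} (e : V' ≤ g ⁻¹ᵁ V)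
    (x : Coh.HHon X F (f ⁻¹ᵁ V) p) :
    res ((Coh.Rpush f' p).obj ((Scheme.Modules.pullback g').obj F)) e
        (show Γ((Coh.Rpush f' p).obj ((Scheme.Modules.pullback g').obj F), g ⁻¹ᵁ V) from
          (B.φ p F).app V (E.ε V F p x)) =
      E'.ε V' ((Scheme.Modules.pullback g').obj F) p
        (CohPull.mapH (psiIso g' (f ⁻¹ᵁ V) (f' ⁻¹ᵁ (g ⁻¹ᵁ V)) (f' ⁻¹ᵁ V')
            (CohCmp.sqLE f g f' g' h.w V) (f'.preimage_mono e) F).hom p
          (CohPull.pullMod (ResLE.jj (f'.preimage_mono e) ≫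
              g'.resLE (f ⁻¹ᵁ V) (f' ⁻¹ᵁ (g ⁻¹ᵁ V)) (CohCmp.sqLE f g f' g' h.w V))
            (F.restrict (f ⁻¹ᵁ V).ι) p x)) := by
  rw [B.compat V F p x, eps_res f' E' p ((Scheme.Modules.pullback g').obj F) e, resLE_pullOn]

set_option maxRecDepth 8000 in
/-- **from surjectivity of the sections of the base change map to generation of the cohomology of
the base changed scheme by the pullback map** -/
theorem span_pullMod_of_surjective {V : S.Opens} (hV : IsAffineOpen V)
    [ov : (↑(f ⁻¹ᵁ V) : Scheme.{u}).Over (Spec (CommRingCat.of Γ(S, V)))]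
    (hov : ((↑(f ⁻¹ᵁ V) : Scheme.{u}) ↘ Spec (CommRingCat.of Γ(S, V))) = strMap f hV)
    {V' : S'.Opens} (hV' : IsAffineOpen V') (e : V' ≤ g ⁻¹ᵁ V)
    [((Coh.Rpush f p).obj F).IsQuasicoherent]
    (hsurj : Function.Surjective ((transp g ((Coh.Rpush f p).obj F)
      ((Coh.Rpush f' p).obj ((Scheme.Modules.pullback g').obj F)) (B.φ p F)).app V').hom) :
    letI ov' : (↑(f' ⁻¹ᵁ V') : Scheme.{u}).Over (Spec (CommRingCat.of Γ(S', V'))) :=
      ⟨strMap f' hV'⟩
    Submodule.span Γ(S', V') (Set.range (CohPull.pullMod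
      (ResLE.jj (f'.preimage_mono e) ≫
        g'.resLE (f ⁻¹ᵁ V) (f' ⁻¹ᵁ (g ⁻¹ᵁ V)) (CohCmp.sqLE f g f' g' h.w V))
      (F.restrict (f ⁻¹ᵁ V).ι) p)) = ⊤ := by
  letI ov' : (↑(f' ⁻¹ᵁ V') : Scheme.{u}).Over (Spec (CommRingCat.of Γ(S', V'))) :=
    ⟨strMap f' hV'⟩
  have h₂ : f' ⁻¹ᵁ (g ⁻¹ᵁ V) ≤ g' ⁻¹ᵁ (f ⁻¹ᵁ V) := CohCmp.sqLE f g f' g' h.w V
  have h₃ : f' ⁻¹ᵁ V' ≤ f' ⁻¹ᵁ (g ⁻¹ᵁ V) := f'.preimage_mono e
  haveI : ((Scheme.Modules.pullback g').obj F).IsQuasicoherent :=
    Groth.Agent.Lead.PB.isQuasicoherent_pullback _ _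
  let μ := epsLin f E hV hov F p
  let ν₀ := epsLin f' E' hV' rfl ((Scheme.Modules.pullback g').obj F) p
  let ψ := psiIso g' (f ⁻¹ᵁ V) (f' ⁻¹ᵁ (g ⁻¹ᵁ V)) (f' ⁻¹ᵁ V') h₂ h₃ F
  let ν := (Groth.Agent.Helper3.FlatTen.HHcongr Γ(S', V') ψ p).trans ν₀
  have hspanU := span_of_isBC (g.appLE V V' e).hom
    (isBC_unitRes g ((Coh.Rpush f p).obj F) hV hV' e)
  have hspanN : Submodule.span Γ(S', V') (Set.range (fun m : Γ((Coh.Rpush f p).obj F, V) =>
      res ((Coh.Rpush f' p).obj ((Scheme.Modules.pullback g').obj F)) e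
        (show Γ((Coh.Rpush f' p).obj ((Scheme.Modules.pullback g').obj F), g ⁻¹ᵁ V) from
          (B.φ p F).app V m))) = ⊤ := by
    rw [eq_top_iff]
    intro n _
    obtain ⟨x, rfl⟩ := hsurj n
    have hx : x ∈ Submodule.span Γ(S', V')
        (Set.range (unitRes g ((Coh.Rpush f p).obj F) e)) := by
      rw [hspanU]
      exact Submodule.mem_top
    refine Submodule.span_induction
      (p := fun x _ => ((transp g ((Coh.Rpush f p).obj F)
        ((Coh.Rpush f' p).obj ((Scheme.Modules.pullback g').obj F)) (B.φ p F)).app V').hom x ∈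
        Submodule.span Γ(S', V') (Set.range (fun m : Γ((Coh.Rpush f p).obj F, V) =>
          res ((Coh.Rpush f' p).obj ((Scheme.Modules.pullback g').obj F)) e
            (show Γ((Coh.Rpush f' p).obj ((Scheme.Modules.pullback g').obj F), g ⁻¹ᵁ V) from
              (B.φ p F).app V m)))) ?_ ?_ ?_ ?_ hx
    · rintro _ ⟨m, rfl⟩
      apply Submodule.subset_span
      exact ⟨m, (transp_unitRes g _ _ (B.φ p F) e m).symm⟩
    · rw [map_zero]
      exact zero_mem _
    · intro a b _ _ ha hb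
      rw [map_add]
      exact add_mem ha hb
    · intro c a _ ha
      have h5 := Hom.app_smul (transp g ((Coh.Rpush f p).obj F)
        ((Coh.Rpush f' p).obj ((Scheme.Modules.pullback g').obj F)) (B.φ p F)) c a
      rw [h5]
      exact Submodule.smul_mem _ c ha
  rw [eq_top_iff]
  intro y _
  have hy : ν y ∈ Submodule.span Γ(S', V') (Set.range (fun m : Γ((Coh.Rpush f p).obj F, V) =>
      res ((Coh.Rpush f' p).obj ((Scheme.Modules.pullback g').obj F)) e
        (show Γ((Coh.Rpush f' p).obj ((Scheme.Modules.pullback g').obj F), g ⁻¹ᵁ V) from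
          (B.φ p F).app V m))) := by
    rw [hspanN]
    exact Submodule.mem_top
  have key : ν.symm (ν y) ∈ Submodule.span Γ(S', V') (Set.range (CohPull.pullMod
      (ResLE.jj h₃ ≫ g'.resLE (f ⁻¹ᵁ V) (f' ⁻¹ᵁ (g ⁻¹ᵁ V)) h₂)
      (F.restrict (f ⁻¹ᵁ V).ι) p)) := by
    refine Submodule.span_induction
      (p := fun n _ => ν.symm n ∈ Submodule.span Γ(S', V') (Set.range (CohPull.pullMod
        (ResLE.jj h₃ ≫ g'.resLE (f ⁻¹ᵁ V) (f' ⁻¹ᵁ (g ⁻¹ᵁ V)) h₂)
        (F.restrict (f ⁻¹ᵁ V).ι) p))) ?_ ?_ ?_ ?_ hy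
    · rintro _ ⟨m, rfl⟩
      obtain ⟨x, rfl⟩ := μ.surjective m
      apply Submodule.subset_span
      refine ⟨x, ?_⟩
      exact (LinearEquiv.eq_symm_apply ν).2 (res_phi_eq f g f' g' h E E' B F p e x).symm
    · rw [map_zero]
      exact zero_mem _
    · intro a b _ _ ha hb
      rw [map_add]
      exact add_mem ha hb
    · intro c a _ ha
      rw [ν.symm.map_smul]
      exact Submodule.smul_mem _ c ha
  rwa [LinearEquiv.symm_apply_apply] at key

end Local

section Near

variable {X S : Scheme.{u}} (f : X ⟶ S) (F : X.Modules) (p : ℕ)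

attribute [local instance] secMod

/-- flatness of the Čech cokernel in degree `p` over the locus where `g₀` is invertible, stably
under base change: the property produced by the local analysis, and consumed by the base change
theorem -/
def FlatWAt (V₁ : S.Opens) (hV₁ : IsAffineOpen V₁) (g₀ : Γ(S, V₁)) : Prop :=
  ∀ (B : Type u) [CommRing B] (ψ : Γ(S, V₁) →+* B), IsUnit (ψ g₀) →
    ∀ (X' : Scheme.{u}) (f' : X' ⟶ Spec (CommRingCat.of B)) (r : X' ⟶ ↑(f ⁻¹ᵁ V₁)),
      IsPullback r f' (strMap f hV₁) (Spec.map (CommRingCat.ofHom ψ)) →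
      ∀ (G : X'.Modules), ((Scheme.Modules.pullback r).obj
          ((Scheme.Modules.pullback (f ⁻¹ᵁ V₁).ι).obj F) ≅ G) →
      letI : X'.Over (Spec (CommRingCat.of B)) := ⟨f'⟩
      ∃ (ι : Type u) (_ : Finite ι) (U : ι → X'.Opens), iSup U = ⊤ ∧
        (∀ (n : ℕ) (a : Fin (n + 1) → ι), IsAffineOpen (TCx.W U a)) ∧
        Module.Flat B (Co G U (p + 1) ⧸ LinearMap.range (DdA B G U p))

end Near

section Global

variable {X S : Scheme.{u}} (f : X ⟶ S) [IsProper f] [LocallyOfFinitePresentation f]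
  [HasInjectiveResolutions X.Modules]
  (F : X.Modules) [F.IsQuasicoherent] (hfp : CohB1.IsFP F) (hfl : FlatMod.IsFlatOver f F)
  {Δ : RDer.DerivedLES (pushforward f)} (E : CohCmp.SectCmp f Δ)

attribute [local instance] secMod

include hfl in
/-- **cohomology and base change in degree `p`** from flatness of the Čech cokernels near the
image of the base change -/
theorem isIso_bc_of_flatWAt {X' S' : Scheme.{u}} (g' : X' ⟶ X) (f' : X' ⟶ S')
    (g : S' ⟶ S) (h : IsPullback g' f' f g) [HasInjectiveResolutions X'.Modules]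
    {Δ' : RDer.DerivedLES (pushforward f')} (E' : CohCmp.SectCmp f' Δ')
    (B : CohCmp.GenBC f g f' g' h.w E E') (p : ℕ)
    (hloc : ∀ z : S', ∃ (V₁ : S.Opens) (hV₁ : IsAffineOpen V₁) (g₀ : Γ(S, V₁)),
      g z ∈ S.basicOpen g₀ ∧ FlatWAt f F p V₁ hV₁ g₀) :
    IsIso (B.bc p F) := by
  haveI : IsProper f' := MorphismProperty.of_isPullback (P := @IsProper) h inferInstance
  haveI : ((Coh.Rpush f p).obj F).IsQuasicoherent :=
    Groth.Agent.Lib.Helper5.RpushClassic.isQuasicoherent_rpush f F p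
  change IsIso (transp g ((Coh.Rpush f p).obj F)
    ((Coh.Rpush f' p).obj ((Scheme.Modules.pullback g').obj F)) (B.φ p F))
  apply isIso_transp_of_isBC
  intro z
  obtain ⟨V₁, hV₁, g₀, hz, hflat⟩ := hloc z
  have hW : IsAffineOpen (S.basicOpen g₀) := hV₁.basicOpen g₀
  have hleW : S.basicOpen g₀ ≤ V₁ := S.basicOpen_le g₀
  refine ⟨S.basicOpen g₀, hW, hz, fun V' e hV' => ?_⟩
  have hs := isPullback_strMap f hV₁ hW hleW
  have hu : IsUnit ((S.presheaf.map (homOfLE hleW).op).hom g₀) :=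
    S.toRingedSpace.isUnit_res_basicOpen g₀
  letI : (↑(f ⁻¹ᵁ S.basicOpen g₀) : Scheme.{u}).Over
      (Spec (CommRingCat.of Γ(S, S.basicOpen g₀))) := ⟨strMap f hW⟩
  let e₀ : (Scheme.Modules.pullback (X.homOfLE (f.preimage_mono hleW))).obj
      ((Scheme.Modules.pullback (f ⁻¹ᵁ V₁).ι).obj F) ≅ F.restrict (f ⁻¹ᵁ S.basicOpen g₀).ι :=
    (Groth.Agent.Helper7.ConsMod.pullbackFacIso (X.homOfLE_ι (f.preimage_mono hleW)) F).symm ≪≫
      (Scheme.Modules.restrictFunctorIsoPullback _).symm.app F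
  obtain ⟨ι₀, hfin, U', hcovU, haffU, hflW⟩ := hflat Γ(S, S.basicOpen g₀)
    (S.presheaf.map (homOfLE hleW).op).hom hu _ (strMap f hW)
    (X.homOfLE (f.preimage_mono hleW)) hs (F.restrict (f ⁻¹ᵁ S.basicOpen g₀).ι) e₀
  haveI := hfin
  haveI : (F.restrict (f ⁻¹ᵁ S.basicOpen g₀).ι).IsQuasicoherent := inferInstance
  have hflr : FlatMod.IsFlatOver (strMap f hW) (F.restrict (f ⁻¹ᵁ S.basicOpen g₀).ι) :=
    Groth.Agent.Lib.Helper4.ChartSq1.isFlatOver_restrict f hW F hfl
  exact isBC_local f g f' g' h E E' B F p hW rfl hV' e U' hcovU haffU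
    (fun n => Groth.Agent.Helper7.BC0.flat_Co Γ(S, S.basicOpen g₀)
      (F.restrict (f ⁻¹ᵁ S.basicOpen g₀).ι) U' hflr haffU n) hflW

end Global

section Fibre

variable {X S : Scheme.{u}} (f : X ⟶ S) [IsProper f] [LocallyOfFinitePresentation f] (s : S)
  [HasInjectiveResolutions X.Modules] [HasInjectiveResolutions (f.fiber s).Modules]
  (F : X.Modules) [F.IsQuasicoherent] (hfp : CohB1.IsFP F) (hfl : FlatMod.IsFlatOver f F)
  {Δ : RDer.DerivedLES (pushforward f)}
  {Δs : RDer.DerivedLES (pushforward (f.fiberToSpecResidueField s))}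
  (E : CohCmp.SectCmp f Δ) (Es : CohCmp.SectCmp (f.fiberToSpecResidueField s) Δs)
  (Bs : CohCmp.GenBC f (S.fromSpecResidueField s) (f.fiberToSpecResidueField s) (f.fiberι s)
    (f.fiber_fac s) E Es)

attribute [local instance] secMod

include hfp hfl in
/-- **the exchange property near a point**: if the base change map of the fibre square at `s` in
degree `i` is an epimorphism, the Čech cokernels in degree `i` are flat near `s`, stably under
base change -/
theorem exists_flatWAt_of_epi (i : ℕ) (hepi : Epi (Bs.bc i F)) :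
    ∃ (V₁ : S.Opens) (hV₁ : IsAffineOpen V₁) (g₀ : Γ(S, V₁)),
      s ∈ S.basicOpen g₀ ∧ FlatWAt f F i V₁ hV₁ g₀ := by
  have h : IsPullback (f.fiberι s) (f.fiberToSpecResidueField s) f (S.fromSpecResidueField s) :=
    IsPullback.of_hasPullback f (S.fromSpecResidueField s)
  haveI : IsProper (f.fiberToSpecResidueField s) :=
    MorphismProperty.of_isPullback (P := @IsProper) h inferInstance
  haveI : ((Coh.Rpush f i).obj F).IsQuasicoherent :=
    Groth.Agent.Lib.Helper5.RpushClassic.isQuasicoherent_rpush f F i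
  obtain ⟨_, ⟨V₁, hV₁, rfl⟩, hsV₁, -⟩ :=
    S.isBasis_affineOpens.exists_subset_of_mem_open (Set.mem_univ s) isOpen_univ
  have hsq := Groth.Agent.Lib.Helper4.ChartSq1.isPullback_chart f hV₁
  haveI : IsProper (strMap f hV₁) :=
    MorphismProperty.of_isPullback (P := @IsProper) hsq inferInstance
  haveI : LocallyOfFinitePresentation (strMap f hV₁) :=
    MorphismProperty.of_isPullback (P := @LocallyOfFinitePresentation) hsq inferInstance
  have hF' : CohB1.IsFP ((Scheme.Modules.pullback (f ⁻¹ᵁ V₁).ι).obj F) :=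
    Groth.Agent.Lead.LimZ.isFP_pullback _ F hfp
  haveI : ((Scheme.Modules.pullback (f ⁻¹ᵁ V₁).ι).obj F).IsQuasicoherent :=
    (Groth.Agent.Helper7.ConsMod.isCoh_of_isFP _ hF').1
  have hfl' : FlatMod.IsFlatOver (strMap f hV₁)
      ((Scheme.Modules.pullback (f ⁻¹ᵁ V₁).ι).obj F) := fun z =>
    Groth.Agent.Lead.FB.flat_baseChange hsq F z (hfl _)
  haveI : Subsingleton ↥(Spec (S.residueField s)) :=
    show Subsingleton (PrimeSpectrum (S.residueField s)) from inferInstance
  haveI : Nonempty ↥(Spec (S.residueField s)) :=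
    show Nonempty (PrimeSpectrum (S.residueField s)) from inferInstance
  have hV' : IsAffineOpen (⊤ : (Spec (S.residueField s)).Opens) :=
    isAffineOpen_top (Spec (S.residueField s))
  have e : (⊤ : (Spec (S.residueField s)).Opens) ≤ (S.fromSpecResidueField s) ⁻¹ᵁ V₁ := by
    intro z _
    change S.fromSpecResidueField s z ∈ V₁
    rw [Scheme.fromSpecResidueField_apply]
    exact hsV₁
  haveI := hepi
  have hsurj : Function.Surjective ((transp (S.fromSpecResidueField s) ((Coh.Rpush f i).obj F)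
      ((Coh.Rpush (f.fiberToSpecResidueField s) i).obj
        ((Scheme.Modules.pullback (f.fiberι s)).obj F)) (Bs.φ i F)).app ⊤).hom := by
    have h1 := Groth.Agent.Lib.Helper5.OnePoint.surjective_of_epi (Spec (S.residueField s))
      (Bs.bc i F)
    intro n
    obtain ⟨x, hx⟩ := h1 n
    exact ⟨x, hx⟩
  letI ov : (↑(f ⁻¹ᵁ V₁) : Scheme.{u}).Over (Spec (CommRingCat.of Γ(S, V₁))) :=
    ⟨strMap f hV₁⟩
  have h₂ := CohCmp.sqLE f (S.fromSpecResidueField s) (f.fiberToSpecResidueField s)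
    (f.fiberι s) h.w V₁
  have h₃ := (f.fiberToSpecResidueField s).preimage_mono e
  letI ov' : (↑((f.fiberToSpecResidueField s) ⁻¹ᵁ ⊤) : Scheme.{u}).Over
      (Spec (CommRingCat.of Γ(Spec (S.residueField s), ⊤))) :=
    ⟨strMap (f.fiberToSpecResidueField s) hV'⟩
  have hspan := span_pullMod_of_surjective f (S.fromSpecResidueField s)
    (f.fiberToSpecResidueField s) (f.fiberι s) h E Es Bs F i hV₁ rfl hV' e hsurj
  rw [jj_comp_resLE (f.fiberι s) (f ⁻¹ᵁ V₁) _ _ h₂ h₃] at hspan
  have hk : IsField Γ(Spec (S.residueField s), ⊤) :=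
    MulEquiv.isField (Field.toIsField (S.residueField s))
      (Scheme.ΓSpecIso (S.residueField s)).commRingCatIsoToRingEquiv.toMulEquiv
  have hsqk := isPullback_resLE h hV₁ hV' e (h₃.trans h₂)
  have hspan2 := span_pullMod_of_iso
    ((f.fiberι s).resLE (f ⁻¹ᵁ V₁) ((f.fiberToSpecResidueField s) ⁻¹ᵁ ⊤) (h₃.trans h₂))
    ((Scheme.Modules.restrictFunctorIsoPullback (f ⁻¹ᵁ V₁).ι).symm.app F) i hspan
  obtain ⟨g₀, hg₀, hflat⟩ := exists_unit_flatW_of_span Γ(S, V₁) (strMap f hV₁)
    ((Scheme.Modules.pullback (f ⁻¹ᵁ V₁).ι).obj F) hF' hfl' i hk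
    ((S.fromSpecResidueField s).appLE V₁ ⊤ e).hom (strMap (f.fiberToSpecResidueField s) hV')
    ((f.fiberι s).resLE (f ⁻¹ᵁ V₁) ((f.fiberToSpecResidueField s) ⁻¹ᵁ ⊤) (h₃.trans h₂))
    hsqk hspan2
  refine ⟨V₁, hV₁, g₀, ?_, hflat⟩
  have hu : IsUnit (((S.fromSpecResidueField s).appLE V₁ ⊤ e).hom g₀) := by
    obtain ⟨b, hb⟩ := hk.mul_inv_cancel hg₀
    exact IsUnit.of_mul_eq_one b hb
  have h1 : (Spec (S.residueField s)).basicOpen (((S.fromSpecResidueField s).appLE V₁ ⊤ e).hom g₀)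
      = ⊤ := Scheme.basicOpen_of_isUnit _ hu
  rw [Scheme.basicOpen_appLE] at h1
  obtain ⟨pt⟩ := (inferInstance : Nonempty ↥(Spec (S.residueField s)))
  have h2 : pt ∈ (⊤ : (Spec (S.residueField s)).Opens) ⊓
      (S.fromSpecResidueField s) ⁻¹ᵁ (S.basicOpen g₀) := by
    rw [h1]
    trivial
  have h3 : S.fromSpecResidueField s pt ∈ S.basicOpen g₀ := h2.2
  rwa [Scheme.fromSpecResidueField_apply] at h3

end Fibre

end Groth.Agent.Helper7.GenBC
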