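import Mathlib
import Groth.Prelude.Def_CohCmp
import Groth.Agent.Lib.Helper7.GenBC.EpiFlat
import Groth.Agent.Lib.Helper7.CohBC.Proj
import Groth.Agent.Lib.Helper4.GrauertAlg1

set_option linter.style.haveILetI false
set_option linter.unusedVariables false
set_option linter.unusedSectionVars false
set_option autoImplicit false
set_option backward.isDefEq.respectTransparency.types false
set_option backward.isDefEq.respectTransparency false
set_option synthInstance.maxHeartbeats 400000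
set_option maxHeartbeats 1600000

universe u

/-! helper7: Noetherian models with finite free complexes for proper flat families over affine bases: comparison with Cech complexes of base changes, finite projectivity of cohomology from flat cokernels and conversely -/

open CategoryTheory CategoryTheory.Limits AlgebraicGeometry Opposite TopologicalSpace Topology
open MonoidalCategory TensorProduct
open Groth.Agent.Helper1
open Groth.Agent.Lib.Helper4.LocCech1
open Groth.Agent.Lib.Helper4.BaseChgRing1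
open Groth.Agent.Lib.Helper4.TenSec2
open Groth.Agent.Lib.Helper4.CechTen1
open Groth.Agent.Lib.Helper4.CechTen2
open Groth.Agent.Lib.Helper4.CechTen3
open Groth.Agent.Lib.Helper4.BCSec1
open Groth.Agent.Lib.Helper4.BCSec2
open Groth.Agent.Lib.Helper4.MumCx1
open Groth.Agent.Lib.Helper4.MumCx2
open Groth.Agent.Lib.Helper4.MumBC1
open Groth.Agent.Lib.Helper4.MumBC2
open Groth.Agent.Lib.Helper4.ExchAlg1
open Groth.Agent.Lib.Helper4.ExchAlg2
open Groth.Agent.Lib.Helper4.TruncAlg1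
open Groth.Agent.Helper7.BC0

namespace Groth.Agent.Helper7.GenBC

attribute [local instance] Groth.Agent.Lib.Helper4.TenSec2.secMod

section Alg

variable {B : Type u} [CommRing B]

/-- an additive natural isomorphism between two functors `T^p` is linear on every module -/
theorem exists_linearEquiv_of_natIso (P Q : CochainComplex (ModuleCat.{u} B) ℤ) (p : ℤ)
    (Θ : CohIII.TFun P p ⋙ forget₂ (ModuleCat.{u} B) AddCommGrpCat.{u} ≅
      CohIII.TFun Q p ⋙ forget₂ (ModuleCat.{u} B) AddCommGrpCat.{u}) (N : ModuleCat.{u} B) :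
    Nonempty ((CohIII.TFun P p).obj N ≃ₗ[B] (CohIII.TFun Q p).obj N) := by
  let e0 : (CohIII.TFun P p).obj N ≃+ (CohIII.TFun Q p).obj N :=
    (Θ.app N).addCommGroupIsoToAddEquiv
  have h_nat : ∀ (b : B) (x : (CohIII.TFun P p).obj N), e0 (b • x) = b • e0 x := by
    intro b x
    have h := ConcreteCategory.congr_hom (Θ.hom.naturality (b • 𝟙 N)) x
    have h' : e0 (((CohIII.TFun P p).map (b • 𝟙 N)).hom x) =
        ((CohIII.TFun Q p).map (b • 𝟙 N)).hom (e0 x) := h
    rw [Groth.Agent.Helper7.CohBC.TFun_map_smul, Groth.Agent.Helper7.CohBC.TFun_map_smul] at h'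
    exact h'
  exact ⟨{ e0 with map_smul' := h_nat }⟩

/-- the cokernels of the differentials of a complex with finite free terms are finitely
presented -/
theorem finitePresentation_Wq (L : CochainComplex (ModuleCat.{u} B) ℤ) (p q : ℤ)
    [Module.Finite B (L.X p)] [Module.Finite B (L.X q)] [Module.Free B (L.X q)] :
    Module.FinitePresentation B (Wq L p q) := by
  have hfg : (LinearMap.ker (Bq L p q).mkQ).FG := by
    rw [Submodule.ker_mkQ]
    change (LinearMap.range (L.d p q).hom).FG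
    rw [LinearMap.range_eq_map]
    exact Module.Finite.fg_top.map _
  exact Module.finitePresentation_of_free_of_surjective (Bq L p q).mkQ
    (Submodule.mkQ_surjective _) hfg

/-- if the cokernel in the next degree and the kernel of the induced differential are
projective, the cokernel is projective -/
theorem projective_Wq_of_projective_ker (L : CochainComplex (ModuleCat.{u} B) ℤ) (p q r : ℤ)
    [Module.Projective B (L.X r)] [Module.Projective B (Wq L q r)]
    [Module.Projective B (LinearMap.ker (dbar L p q r))] : Module.Projective B (Wq L p q) := by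
  obtain ⟨s2, hs2⟩ := Module.projective_lifting_property (mkW L q r) LinearMap.id
    (Submodule.mkQ_surjective _)
  have hex2 : Function.Exact (Bq L q r).subtype (mkW L q r) :=
    LinearMap.exact_subtype_mkQ (Bq L q r)
  let e2 := (hex2.splitSurjectiveEquiv (Submodule.subtype_injective _) ⟨s2, hs2⟩).1
  haveI hB : Module.Projective B (Bq L q r) :=
    Module.Projective.of_split (e2.symm.toLinearMap ∘ₗ LinearMap.inl B _ _)
      (LinearMap.fst B (Bq L q r) (Wq L q r) ∘ₗ e2.toLinearMap) (by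
        ext x
        simp)
  let σ : Wq L p q →ₗ[B] Bq L q r := LinearMap.codRestrict (Bq L q r) (dbar L p q r) (fun w => by
    rw [← range_dbar L p q r]
    exact ⟨w, rfl⟩)
  have hσ : Function.Surjective σ := by
    rintro ⟨b, hb⟩
    rw [← range_dbar L p q r] at hb
    obtain ⟨w, rfl⟩ := hb
    exact ⟨w, rfl⟩
  obtain ⟨s1, hs1⟩ := Module.projective_lifting_property σ LinearMap.id hσ
  have hex1 : Function.Exact (LinearMap.ker (dbar L p q r)).subtype σ := by
    intro w
    constructor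
    · intro h
      have h1 : dbar L p q r w = 0 := congrArg Subtype.val h
      exact ⟨⟨w, h1⟩, rfl⟩
    · rintro ⟨⟨w', hw'⟩, rfl⟩
      exact Subtype.ext hw'
  let e1 := (hex1.splitSurjectiveEquiv (Submodule.subtype_injective _) ⟨s1, hs1⟩).1
  exact Module.Projective.of_equiv e1.symm

end Alg

/-- a Noetherian model of a proper flat family over an affine base, together with a finite free
complex computing universally the cohomology of the model -/
structure NModel (A : Type u) [CommRing A] {X : Scheme.{u}} (f : X ⟶ Spec (CommRingCat.of A))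
    (F : X.Modules) : Type (u + 1) where
  /-- the Noetherian ring -/
  A₀ : Type u
  [cr : CommRing A₀]
  [noeth : IsNoetherianRing A₀]
  /-- the map to the base ring -/
  j : A₀ →+* A
  /-- the model scheme -/
  X₀ : Scheme.{u}
  [ov : X₀.Over (Spec (CommRingCat.of A₀))]
  [prop : IsProper (X₀ ↘ Spec (CommRingCat.of A₀))]
  /-- the model module -/
  F₀ : X₀.Modules
  hcoh : Coh.IsCoh F₀
  hflat : FlatMod.IsFlatOver (X₀ ↘ Spec (CommRingCat.of A₀)) F₀
  /-- the projection to the model -/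
  q : X ⟶ X₀
  hpb : IsPullback q f (X₀ ↘ Spec (CommRingCat.of A₀)) (Spec.map (CommRingCat.ofHom j))
  /-- the module is the pullback of the model module -/
  e : (Scheme.Modules.pullback q).obj F₀ ≅ F
  /-- the complex -/
  D : MData A₀ X₀ F₀

attribute [instance] NModel.cr NModel.noeth NModel.ov NModel.prop

/-- **existence of Noetherian models with complexes** -/
theorem nonempty_nmodel (A : Type u) [CommRing A] {X : Scheme.{u}}
    (f : X ⟶ Spec (CommRingCat.of A)) [IsProper f] [LocallyOfFinitePresentation f]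
    (F : X.Modules) [F.IsQuasicoherent] (hF : CohB1.IsFP F) (hfl : FlatMod.IsFlatOver f F) :
    Nonempty (NModel A f F) := by
  obtain ⟨j, X₀, f₀, F₀, q, hprop, hcoh, hflat, hpb, ⟨e⟩⟩ :=
    Groth.Agent.Helper7.Betti.exists_model_proper_flat A f F hF hfl
  haveI : Algebra.FiniteType ℤ ↥j.unop.1 := (Subalgebra.fg_iff_finiteType _).mp j.unop.2
  haveI : IsNoetherianRing ↥j.unop.1 := Algebra.FiniteType.isNoetherianRing ℤ _
  obtain ⟨f₀', hf₀'⟩ : ∃ f₀' : X₀ ⟶ Spec (CommRingCat.of ↥j.unop.1), f₀' = f₀ := ⟨f₀, rfl⟩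
  haveI hprop' : IsProper f₀' := by rw [hf₀']; exact hprop
  have hflat' : FlatMod.IsFlatOver f₀' F₀ := by rw [hf₀']; exact hflat
  have hpb' : IsPullback q f f₀' (Spec.map (CommRingCat.ofHom (algebraMap ↥j.unop.1 A))) := by
    rw [hf₀']; exact hpb
  letI : X₀.Over (Spec (CommRingCat.of ↥j.unop.1)) := ⟨f₀'⟩
  haveI : IsProper (X₀ ↘ Spec (CommRingCat.of ↥j.unop.1)) := hprop'
  obtain ⟨D⟩ := nonempty_mdata ↥j.unop.1 X₀ F₀ hcoh hflat'
  exact ⟨{ A₀ := ↥j.unop.1, j := algebraMap ↥j.unop.1 A, X₀ := X₀, F₀ := F₀, hcoh := hcoh,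
           hflat := hflat', q := q, hpb := hpb', e := e, D := D }⟩

namespace NModel

variable {A : Type u} [CommRing A] {X : Scheme.{u}} {f : X ⟶ Spec (CommRingCat.of A)}
  {F : X.Modules} (M : NModel A f F)

section BC

variable {B : Type u} [CommRing B] (ψ : A →+* B) {X' : Scheme.{u}}
  (f' : X' ⟶ Spec (CommRingCat.of B)) (r : X' ⟶ X)
  (hsq : IsPullback r f' f (Spec.map (CommRingCat.ofHom ψ)))

include hsq in
/-- **the comparison of the base changed complex with the Čech complexes of base changes** -/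
theorem exists_cmp :
    letI : X'.Over (Spec (CommRingCat.of B)) := ⟨f'⟩
    letI : Algebra M.A₀ B := (ψ.comp M.j).toAlgebra
    ∃ (G₀ : X'.Modules) (_ : G₀.IsQuasicoherent) (_ : G₀ ≅ (Scheme.Modules.pullback r).obj F)
      (U : M.D.ι → X'.Opens), iSup U = ⊤ ∧
      (∀ (n : ℕ) (a : Fin (n + 1) → M.D.ι), IsAffineOpen (TCx.W U a)) ∧
      FlatMod.IsFlatOver f' G₀ ∧
      ∀ p : ℕ, Nonempty (CohIII.TFun (bcK (B := B) M.D.K) (p : ℤ) ⋙
          forget₂ (ModuleCat.{u} B) AddCommGrpCat.{u} ≅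
        CohIII.TFun (CZ B G₀ U) (p : ℤ) ⋙ forget₂ (ModuleCat.{u} B) AddCommGrpCat.{u}) := by
  letI : X'.Over (Spec (CommRingCat.of B)) := ⟨f'⟩
  letI algA₀B : Algebra M.A₀ B := (ψ.comp M.j).toAlgebra
  haveI := M.D.fin
  haveI : M.F₀.IsQuasicoherent := M.hcoh.1
  have hsqχ : IsPullback (r ≫ M.q) f' (M.X₀ ↘ Spec (CommRingCat.of M.A₀))
      (Spec.map (CommRingCat.ofHom (ψ.comp M.j))) := by
    have h1 := hsq.paste_horiz M.hpb
    rwa [← Spec.map_comp, ← CommRingCat.ofHom_comp] at h1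
  haveI : IsAffineHom (r ≫ M.q) := isAffineHom_of_sq (ψ.comp M.j) (r ≫ M.q) hsqχ
  have haffB := isAffineOpen_Wp (r ≫ M.q) M.D.U M.D.haff
  have hcovB := iSup_Up (r ≫ M.q) M.D.U M.D.hcov
  haveI hqc : (Fp (r ≫ M.q) M.F₀).IsQuasicoherent :=
    Groth.Agent.Lead.PB.isQuasicoherent_pullback _ _
  have hflB : FlatMod.IsFlatOver f' (Fp (r ≫ M.q) M.F₀) := fun z =>
    Groth.Agent.Lead.FB.flat_baseChange hsqχ M.F₀ z (M.hflat _)
  refine ⟨Fp (r ≫ M.q) M.F₀, hqc,
    (Scheme.Modules.pullbackComp r M.q).symm.app M.F₀ ≪≫ (Scheme.Modules.pullback r).mapIso M.e,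
    Up (r ≫ M.q) M.D.U, hcovB, haffB, hflB, fun p => ⟨?_⟩⟩
  exact tbc M.D.K (p : ℤ) ≪≫
    Functor.isoWhiskerLeft (ModuleCat.restrictScalars (algebraMap M.A₀ B))
      (Functor.isoWhiskerRight (M.D.eK (p : ℤ))
        (forget₂ (ModuleCat.{u} M.A₀) AddCommGrpCat.{u})) ≪≫
    bcCech (ψ.comp M.j) (r ≫ M.q) M.F₀ M.D.U hsqχ M.D.haff p

include hsq in
/-- from the exchange property of the complex to flatness of the Čech cokernels -/
theorem flatW_of_presSurj (p : ℕ)
    (hPS : letI : Algebra M.A₀ B := (ψ.comp M.j).toAlgebra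
      PresSurj (bcK (B := B) M.D.K) (p : ℤ))
    (G : X'.Modules) (eG : (Scheme.Modules.pullback r).obj F ≅ G) :
    letI : X'.Over (Spec (CommRingCat.of B)) := ⟨f'⟩
    ∃ (ι : Type u) (_ : Finite ι) (U : ι → X'.Opens), iSup U = ⊤ ∧
      (∀ (n : ℕ) (a : Fin (n + 1) → ι), IsAffineOpen (TCx.W U a)) ∧
      Module.Flat B (Co G U (p + 1) ⧸ LinearMap.range (DdA B G U p)) := by
  letI : X'.Over (Spec (CommRingCat.of B)) := ⟨f'⟩
  letI algA₀B : Algebra M.A₀ B := (ψ.comp M.j).toAlgebra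
  obtain ⟨G₀, hqc, e₀, U, hcov, haff, hfl, hΘ⟩ := M.exists_cmp ψ f' r hsq
  obtain ⟨Θ⟩ := hΘ p
  haveI := M.D.fin
  haveI := hqc
  have hPSCZ : PresSurj (CZ B G₀ U) (p : ℤ) := by
    intro N N'' g₀ hg₀
    have h1 := (map_surjective_iff (bcK (B := B) M.D.K) (p : ℤ) Θ g₀).2 (hPS N N'' g₀ hg₀)
    intro y
    obtain ⟨x, hx⟩ := h1 y
    exact ⟨x, hx⟩
  have hW := flatW_of_presSurj_deg B G₀ U p hfl haff hPSCZ
  exact ⟨M.D.ι, M.D.fin, U, hcov, haff, flatW_of_iso_deg B U (e₀ ≪≫ eG) p hW⟩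

include hsq in
/-- **finite projectivity of the cohomology of a base change** from flatness of the two adjacent
cokernels of the base changed complex -/
theorem finite_projective_HH_of_flat (q : ℕ)
    (h1 : letI : Algebra M.A₀ B := (ψ.comp M.j).toAlgebra
      Module.Flat B (Wq (bcK (B := B) M.D.K) ((q : ℤ) - 1) (q : ℤ)))
    (h2 : letI : Algebra M.A₀ B := (ψ.comp M.j).toAlgebra
      Module.Flat B (Wq (bcK (B := B) M.D.K) (q : ℤ) ((q : ℤ) + 1))) :
    letI : X'.Over (Spec (CommRingCat.of B)) := ⟨f'⟩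
    Module.Finite B (Coh.HH X' ((Scheme.Modules.pullback r).obj F) q) ∧
      Module.Projective B (Coh.HH X' ((Scheme.Modules.pullback r).obj F) q) := by
  letI : X'.Over (Spec (CommRingCat.of B)) := ⟨f'⟩
  letI algA₀B : Algebra M.A₀ B := (ψ.comp M.j).toAlgebra
  obtain ⟨G₀, hqc, e₀, U, hcov, haff, hfl, hΘ⟩ := M.exists_cmp ψ f' r hsq
  obtain ⟨Θ⟩ := hΘ q
  haveI := M.D.fin
  haveI := hqc
  haveI hfinL : ∀ i, Module.Finite B ((bcK (B := B) M.D.K).X i) := fun i => by
    haveI := (M.D.hff i).1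
    exact (show Module.Finite B (B ⊗[M.A₀] M.D.K.X i) from inferInstance)
  haveI hfreeL : ∀ i, Module.Free B ((bcK (B := B) M.D.K).X i) := fun i => by
    haveI := (M.D.hff i).2
    exact (show Module.Free B (B ⊗[M.A₀] M.D.K.X i) from inferInstance)
  haveI := finitePresentation_Wq (bcK (B := B) M.D.K) ((q : ℤ) - 1) (q : ℤ)
  haveI := finitePresentation_Wq (bcK (B := B) M.D.K) (q : ℤ) ((q : ℤ) + 1)
  haveI := h1
  haveI := h2
  haveI : Module.Projective B (Wq (bcK (B := B) M.D.K) ((q : ℤ) - 1) (q : ℤ)) :=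
    Module.Flat.projective_of_finitePresentation
  haveI : Module.Projective B (Wq (bcK (B := B) M.D.K) (q : ℤ) ((q : ℤ) + 1)) :=
    Module.Flat.projective_of_finitePresentation
  obtain ⟨t, ht⟩ := Groth.Agent.Helper7.CohBC.exists_generalized_inverse
    (bcK (B := B) M.D.K) ((q : ℤ) - 1) (q : ℤ) ((q : ℤ) + 1)
  let G := CohIII.TFun (CZ B G₀ U) (q : ℤ)
  have hG : ∀ b : B, G.map (b • 𝟙 (𝟙_ (ModuleCat.{u} B))) =
      b • 𝟙 (G.obj (𝟙_ (ModuleCat.{u} B))) := fun b =>
    Groth.Agent.Helper7.CohBC.TFun_map_smul _ (q : ℤ) _ b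
  let Ψ : ModuleCat.restrictScalars (algebraMap B B) ⋙
        CohIII.TFun (bcK (B := B) M.D.K) (q : ℤ) ⋙
        forget₂ (ModuleCat.{u} B) AddCommGrpCat.{u} ≅
      G ⋙ forget₂ (ModuleCat.{u} B) AddCommGrpCat.{u} :=
    Functor.isoWhiskerRight (ModuleCat.restrictScalarsId' (algebraMap B B) rfl) _ ≪≫
      Functor.leftUnitor _ ≪≫ Θ
  obtain ⟨k1, k2⟩ := Groth.Agent.Helper7.CohBC.finite_projective_of_natIso
    (bcK (B := B) M.D.K) ((q : ℤ) - 1) (q : ℤ) ((q : ℤ) + 1) (by ring) rfl t ht G hG Ψ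
  let e1 := linHH B G₀ U haff hcov q
  let e2 := ((HomologicalComplex.homologyMapIso (runitG (CAN B G₀ U)) q).symm ≪≫
    (isoA B G₀ U (𝟙_ (ModuleCat.{u} B)) q).symm).toLinearEquiv
  let e : Coh.HH X' G₀ q ≃ₗ[B] G.obj (𝟙_ (ModuleCat.{u} B)) := e1.symm.trans e2
  have e' := Groth.Agent.Helper3.FlatTen.HHcongr B e₀ q
  haveI := k1
  haveI := k2
  exact ⟨Module.Finite.equiv (e.symm.trans e'), Module.Projective.of_equiv (e.symm.trans e')⟩

include hsq in
/-- **flatness of a cokernel of the base changed complex** from flatness of the next cokernel and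
projectivity of the cohomology of the base change -/
theorem flat_Wq_of_projective_HH (q : ℕ)
    (h2 : letI : Algebra M.A₀ B := (ψ.comp M.j).toAlgebra
      Module.Flat B (Wq (bcK (B := B) M.D.K) (q : ℤ) ((q : ℤ) + 1)))
    (hP : letI : X'.Over (Spec (CommRingCat.of B)) := ⟨f'⟩
      Module.Projective B (Coh.HH X' ((Scheme.Modules.pullback r).obj F) q)) :
    letI : Algebra M.A₀ B := (ψ.comp M.j).toAlgebra
    Module.Flat B (Wq (bcK (B := B) M.D.K) ((q : ℤ) - 1) (q : ℤ)) := by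
  letI : X'.Over (Spec (CommRingCat.of B)) := ⟨f'⟩
  letI algA₀B : Algebra M.A₀ B := (ψ.comp M.j).toAlgebra
  obtain ⟨G₀, hqc, e₀, U, hcov, haff, hfl, hΘ⟩ := M.exists_cmp ψ f' r hsq
  obtain ⟨Θ⟩ := hΘ q
  haveI := M.D.fin
  haveI := hqc
  haveI hfinL : ∀ i, Module.Finite B ((bcK (B := B) M.D.K).X i) := fun i => by
    haveI := (M.D.hff i).1
    exact (show Module.Finite B (B ⊗[M.A₀] M.D.K.X i) from inferInstance)
  haveI hfreeL : ∀ i, Module.Free B ((bcK (B := B) M.D.K).X i) := fun i => by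
    haveI := (M.D.hff i).2
    exact (show Module.Free B (B ⊗[M.A₀] M.D.K.X i) from inferInstance)
  haveI := finitePresentation_Wq (bcK (B := B) M.D.K) (q : ℤ) ((q : ℤ) + 1)
  haveI := h2
  haveI : Module.Projective B (Wq (bcK (B := B) M.D.K) (q : ℤ) ((q : ℤ) + 1)) :=
    Module.Flat.projective_of_finitePresentation
  obtain ⟨eΘ⟩ := exists_linearEquiv_of_natIso (bcK (B := B) M.D.K) (CZ B G₀ U) (q : ℤ) Θ
    (𝟙_ (ModuleCat.{u} B))
  let e1 := linHH B G₀ U haff hcov q
  let e2 := ((HomologicalComplex.homologyMapIso (runitG (CAN B G₀ U)) q).symm ≪≫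
    (isoA B G₀ U (𝟙_ (ModuleCat.{u} B)) q).symm).toLinearEquiv
  let e : Coh.HH X' G₀ q ≃ₗ[B] (CohIII.TFun (CZ B G₀ U) (q : ℤ)).obj (𝟙_ (ModuleCat.{u} B)) :=
    e1.symm.trans e2
  have e' := Groth.Agent.Helper3.FlatTen.HHcongr B e₀ q
  let e3 : (CohIII.TFun (bcK (B := B) M.D.K) (q : ℤ)).obj (𝟙_ (ModuleCat.{u} B)) ≃ₗ[B]
      (bcK (B := B) M.D.K).homology (q : ℤ) :=
    (HomologicalComplex.homologyMapIso (runitG (bcK (B := B) M.D.K)) (q : ℤ)).toLinearEquiv
  let e4 := Groth.Agent.Lib.Helper4.GrauertAlg1.homEquivKer (bcK (B := B) M.D.K)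
    ((q : ℤ) - 1) (q : ℤ) ((q : ℤ) + 1) (by ring) rfl
  let E : LinearMap.ker (dbar (bcK (B := B) M.D.K) ((q : ℤ) - 1) (q : ℤ) ((q : ℤ) + 1)) ≃ₗ[B]
      Coh.HH X' ((Scheme.Modules.pullback r).obj F) q :=
    e4.symm ≪≫ₗ e3.symm ≪≫ₗ eΘ ≪≫ₗ e.symm ≪≫ₗ e'
  haveI := hP
  haveI : Module.Projective B
      (LinearMap.ker (dbar (bcK (B := B) M.D.K) ((q : ℤ) - 1) (q : ℤ) ((q : ℤ) + 1))) :=
    Module.Projective.of_equiv E.symm
  haveI := projective_Wq_of_projective_ker (bcK (B := B) M.D.K) ((q : ℤ) - 1) (q : ℤ)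
    ((q : ℤ) + 1)
  infer_instance

end BC

end NModel

end Groth.Agent.Helper7.GenBC
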