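import Mathlib
import Groth.Prelude.Def_CohCmp
import Groth.Agent.Lib.Helper7.GenBC.KT
import Groth.Agent.Lib.Helper7.BC0.Open
import Groth.Agent.Lib.Helper7.CohBC.Van
import Groth.Agent.Lib.Helper7.CohBC.Proj

set_option linter.style.haveILetI false
set_option linter.unusedVariables false
set_option linter.unusedSectionVars false
set_option autoImplicit false
set_option backward.isDefEq.respectTransparency.types false
set_option backward.isDefEq.respectTransparency false
set_option synthInstance.maxHeartbeats 400000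
set_option maxHeartbeats 1600000

universe u

/-! helper7: cohomology and base change rows: fibres of bounded dimension, the open locus of fibre vanishing, vanishing in the two adjacent degrees -/

open CategoryTheory CategoryTheory.Limits Opposite TopologicalSpace AlgebraicGeometry
open AlgebraicGeometry.Scheme.Modules

namespace Groth.Agent.Helper7.GenBC

section Zero

/-- the pullback of a module which vanishes on an open through which the morphism factors -/
theorem isZero_pullback_of_restrict {S S' : Scheme.{u}} (g : S' ⟶ S) (M : S.Modules)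
    (U : S.Opens) (hM : IsZero (M.restrict U.ι)) (hg : ∀ z : S', g z ∈ U) :
    IsZero ((Scheme.Modules.pullback g).obj M) := by
  have hr : Set.range g ⊆ Set.range U.ι := by
    rw [Scheme.Opens.range_ι]
    rintro _ ⟨z, rfl⟩
    exact hg z
  let gU := IsOpenImmersion.lift U.ι g hr
  have hfac : gU ≫ U.ι = g := IsOpenImmersion.lift_fac U.ι g hr
  have e : (Scheme.Modules.pullback g).obj M ≅
      (Scheme.Modules.pullback gU).obj (M.restrict U.ι) :=
    ((pullbackCongr hfac).symm.app M) ≪≫ ((pullbackComp gU U.ι).symm.app M) ≪≫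
      (Scheme.Modules.pullback gU).mapIso ((restrictFunctorIsoPullback U.ι).symm.app M)
  haveI : (Scheme.Modules.pullback gU).IsLeftAdjoint :=
    (pullbackPushforwardAdjunction gU).isLeftAdjoint
  exact IsZero.of_iso ((Scheme.Modules.pullback gU).map_isZero hM) e

theorem isIso_of_isZero {C : Type*} [Category C] {A B : C} (a : A ⟶ B) (hA : IsZero A)
    (hB : IsZero B) : IsIso a := by
  rw [hA.eq_of_src a (hA.iso hB).hom]
  infer_instance

end Zero

section Rows

variable {X S : Scheme.{u}} (f : X ⟶ S) [IsProper f] [LocallyOfFinitePresentation f]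
  [HasInjectiveResolutions X.Modules]
  (F : X.Modules) [F.IsQuasicoherent] (hfp : CohB1.IsFP F) (hfl : FlatMod.IsFlatOver f F)
  {Δ : RDer.DerivedLES (pushforward f)} (E : CohCmp.SectCmp f Δ)

include hfp hfl in
/-- the base change map between vanishing higher direct images is an isomorphism -/
theorem isIso_bc_of_isZero {X' S' : Scheme.{u}} (g' : X' ⟶ X) (f' : X' ⟶ S')
    (g : S' ⟶ S) (h : IsPullback g' f' f g) [HasInjectiveResolutions X'.Modules]
    {Δ' : RDer.DerivedLES (pushforward f')} (E' : CohCmp.SectCmp f' Δ')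
    (B : CohCmp.GenBC f g f' g' h.w E E') (i : ℕ) (U : S.Opens)
    (hM : IsZero (((Coh.Rpush f i).obj F).restrict U.ι)) (hg : ∀ z : S', g z ∈ U)
    (hv : ∀ z : S', Subsingleton (CohIII.fiberH f F (g z) i)) : IsIso (B.bc i F) := by
  haveI : IsProper f' := MorphismProperty.of_isPullback (P := @IsProper) h inferInstance
  haveI : LocallyOfFinitePresentation f' :=
    MorphismProperty.of_isPullback (P := @LocallyOfFinitePresentation) h inferInstance
  haveI : ((Scheme.Modules.pullback g').obj F).IsQuasicoherent :=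
    Groth.Agent.Lead.PB.isQuasicoherent_pullback _ _
  have hfp' : CohB1.IsFP ((Scheme.Modules.pullback g').obj F) :=
    Groth.Agent.Lead.LimZ.isFP_pullback _ F hfp
  have hfl' : FlatMod.IsFlatOver f' ((Scheme.Modules.pullback g').obj F) := fun z =>
    Groth.Agent.Lead.FB.flat_baseChange h F z (hfl _)
  have hT : IsZero ((Coh.Rpush f' i).obj ((Scheme.Modules.pullback g').obj F)) :=
    Groth.Agent.Helper7.CohBC.isZero_rpush_of_fibre_vanishing f' _ hfp' hfl' i (fun z =>
      (Groth.Agent.Helper7.CohBC.subsingleton_fiberH_baseChange f g g' f' h F z i).2 (hv z))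
  exact isIso_of_isZero _ (isZero_pullback_of_restrict g _ U hM hg) hT

include hfp hfl in
/-- fibres of dimension at most `d`: vanishing above `d` and base change from `d` on -/
theorem row_dim (d : ℕ) (hd : ∀ s : S, topologicalKrullDim (f.fiber s) ≤ d) :
    (∀ i : ℕ, d < i → Limits.IsZero ((Coh.Rpush f i).obj F)) ∧
      ∀ i : ℕ, d ≤ i → ∀ ⦃X' S' : Scheme.{u}⦄ (g' : X' ⟶ X) (f' : X' ⟶ S') (g : S' ⟶ S)
        (h : IsPullback g' f' f g) [HasInjectiveResolutions X'.Modules]
        (Δ' : RDer.DerivedLES (pushforward f')) (E' : CohCmp.SectCmp f' Δ')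
        (B : CohCmp.GenBC f g f' g' h.w E E'), IsIso (B.bc i F) := by
  refine ⟨fun i hi => ?_, fun i hi X' S' g' f' g h _ Δ' E' B => ?_⟩
  · exact Groth.Agent.Helper7.CohBC.isZero_rpush_of_fibre_vanishing f F hfp hfl i (fun y =>
      Groth.Agent.Helper7.BC0.subsingleton_fiberH_of_dim_lt f F y d (hd y) i hi)
  · exact isIso_bc_of_fibre_vanishing f F hfp hfl E g' f' g h E' B i (fun z =>
      Groth.Agent.Helper7.BC0.subsingleton_fiberH_of_dim_lt f F (g z) d (hd _) (i + 1)
        (by omega))

include hfp hfl in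
/-- the open locus of vanishing of the fibre cohomology in degree `i` -/
theorem row_open (i : ℕ) :
    ∃ U : S.Opens, (∀ s : S, s ∈ U ↔ Subsingleton (CohIII.fiberH f F s i)) ∧
      Limits.IsZero (((Coh.Rpush f i).obj F).restrict U.ι) ∧
      ∀ ⦃X' S' : Scheme.{u}⦄ (g' : X' ⟶ X) (f' : X' ⟶ S') (g : S' ⟶ S)
        (h : IsPullback g' f' f g) [HasInjectiveResolutions X'.Modules]
        (Δ' : RDer.DerivedLES (pushforward f')) (E' : CohCmp.SectCmp f' Δ')
        (B : CohCmp.GenBC f g f' g' h.w E E'), (∀ z : S', g z ∈ U) →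
          IsIso (B.bc i F) ∧ ∀ j : ℕ, j + 1 = i → IsIso (B.bc j F) := by
  have hopen : IsOpen {s : S | Subsingleton (CohIII.fiberH f F s i)} := by
    rw [isOpen_iff_forall_mem_open]
    intro s hs
    obtain ⟨V, hsV, hV⟩ := Groth.Agent.Helper7.BC0.exists_open_nhd_fibre_vanishing f F hfp hfl
      {i} s (fun k hk => by
        rw [Finset.mem_singleton] at hk
        subst hk
        exact hs)
    exact ⟨V.1, fun s' hs' => hV s' hs' i (Finset.mem_singleton_self i), V.2, hsV⟩
  obtain ⟨U, hU⟩ : ∃ U : S.Opens, ∀ s : S, s ∈ U ↔ Subsingleton (CohIII.fiberH f F s i) :=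
    ⟨⟨_, hopen⟩, fun s => Iff.rfl⟩
  have hZ : IsZero (((Coh.Rpush f i).obj F).restrict U.ι) := by
    apply Groth.Agent.Helper7.BC0.isZero_restrict_of_local
    intro y hy
    obtain ⟨V, hV, hyV, hsub⟩ :=
      Groth.Agent.Helper7.CohBC.exists_affine_nhd_sections_subsingleton f F hfp hfl i y
        ((hU y).1 hy)
    exact ⟨V, hyV, hsub⟩
  refine ⟨U, hU, hZ, ?_⟩
  intro X' S' g' f' g h _ Δ' E' B hg
  refine ⟨?_, fun j hj => ?_⟩
  · exact isIso_bc_of_isZero f F hfp hfl E g' f' g h E' B i U hZ hg (fun z => (hU _).1 (hg z))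
  · subst hj
    exact isIso_bc_of_fibre_vanishing f F hfp hfl E g' f' g h E' B j
      (fun z => (hU _).1 (hg z))

include hfp hfl in
/-- vanishing of the fibre cohomology in the two adjacent degrees at a point -/
theorem row_adjacent (s : S) (i : ℕ) (hup : Subsingleton (CohIII.fiberH f F s (i + 1)))
    (hdown : ∀ j : ℕ, j + 1 = i → Subsingleton (CohIII.fiberH f F s j)) :
    ∃ U : S.Opens, s ∈ U ∧
      Limits.IsZero (((Coh.Rpush f (i + 1)).obj F).restrict U.ι) ∧
      (∀ j : ℕ, j + 1 = i → Limits.IsZero (((Coh.Rpush f j).obj F).restrict U.ι)) ∧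
      FlatMod.IsFinLocFree (((Coh.Rpush f i).obj F).restrict U.ι) ∧
      ∀ ⦃X' S' : Scheme.{u}⦄ (g' : X' ⟶ X) (f' : X' ⟶ S') (g : S' ⟶ S)
        (h : IsPullback g' f' f g) [HasInjectiveResolutions X'.Modules]
        (Δ' : RDer.DerivedLES (pushforward f')) (E' : CohCmp.SectCmp f' Δ')
        (B : CohCmp.GenBC f g f' g' h.w E E'), (∀ z : S', g z ∈ U) →
          IsIso (B.bc (i + 1) F) ∧ IsIso (B.bc i F) ∧
            ∀ j : ℕ, (j + 1 = i ∨ j + 2 = i) → IsIso (B.bc j F) := by
  classical
  let I : Finset ℕ := insert (i + 1) ((Finset.range i).filter (fun j => j + 1 = i))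
  have hI : ∀ k ∈ I, Subsingleton (CohIII.fiberH f F s k) := by
    intro k hk
    rcases Finset.mem_insert.1 hk with rfl | hk
    · exact hup
    · exact hdown k (Finset.mem_filter.1 hk).2
  obtain ⟨U, hsU, hU⟩ :=
    Groth.Agent.Helper7.BC0.exists_open_nhd_fibre_vanishing f F hfp hfl I s hI
  have hUp : ∀ y ∈ U, Subsingleton (CohIII.fiberH f F y (i + 1)) := fun y hy =>
    hU y hy (i + 1) (Finset.mem_insert_self _ _)
  have hDn : ∀ y ∈ U, ∀ j, j + 1 = i → Subsingleton (CohIII.fiberH f F y j) := fun y hy j hj =>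
    hU y hy j (Finset.mem_insert_of_mem
      (Finset.mem_filter.2 ⟨Finset.mem_range.2 (by omega), hj⟩))
  have hZ1 : IsZero (((Coh.Rpush f (i + 1)).obj F).restrict U.ι) := by
    apply Groth.Agent.Helper7.BC0.isZero_restrict_of_local
    intro y hy
    obtain ⟨V, hV, hyV, hsub⟩ :=
      Groth.Agent.Helper7.CohBC.exists_affine_nhd_sections_subsingleton f F hfp hfl (i + 1) y
        (hUp y hy)
    exact ⟨V, hyV, hsub⟩
  have hZ2 : ∀ j, j + 1 = i → IsZero (((Coh.Rpush f j).obj F).restrict U.ι) := by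
    intro j hj
    apply Groth.Agent.Helper7.BC0.isZero_restrict_of_local
    intro y hy
    obtain ⟨V, hV, hyV, hsub⟩ :=
      Groth.Agent.Helper7.CohBC.exists_affine_nhd_sections_subsingleton f F hfp hfl j y
        (hDn y hy j hj)
    exact ⟨V, hyV, hsub⟩
  haveI : ((Coh.Rpush f i).obj F).IsQuasicoherent :=
    Groth.Agent.Lib.Helper5.RpushClassic.isQuasicoherent_rpush f F i
  have hLF : FlatMod.IsFinLocFree (((Coh.Rpush f i).obj F).restrict U.ι) := by
    apply Groth.Agent.Helper7.BC0.isFinLocFree_restrict_of_local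
    intro y hy
    obtain ⟨V, hV, hyV, hfp'⟩ :=
      Groth.Agent.Helper7.CohBC.exists_affine_nhd_sections_finite_projective f F hfp hfl i y
        (hUp y hy) (hDn y hy)
    obtain ⟨W, hW, hyW, hle⟩ := (Opens.isBasis_iff_nbhd.mp S.isBasis_affineOpens)
      (show y ∈ U ⊓ V from ⟨hy, hyV⟩)
    obtain ⟨k1, k2⟩ := hfp' W hW (hle.trans inf_le_right)
    exact ⟨W, hW, hyW, hle.trans inf_le_left, k1, k2⟩
  refine ⟨U, hsU, hZ1, hZ2, hLF, ?_⟩
  intro X' S' g' f' g h _ Δ' E' B hg
  refine ⟨?_, ?_, fun j hj => ?_⟩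
  · exact isIso_bc_of_isZero f F hfp hfl E g' f' g h E' B (i + 1) U hZ1 hg
      (fun z => hUp _ (hg z))
  · exact isIso_bc_of_fibre_vanishing f F hfp hfl E g' f' g h E' B i (fun z => hUp _ (hg z))
  · rcases hj with hj | hj
    · exact isIso_bc_of_isZero f F hfp hfl E g' f' g h E' B j U (hZ2 j hj) hg
        (fun z => hDn _ (hg z) j hj)
    · exact isIso_bc_of_fibre_vanishing f F hfp hfl E g' f' g h E' B j
        (fun z => hDn _ (hg z) (j + 1) (by omega))

end Rows

end Groth.Agent.Helper7.GenBC
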