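import Mathlib
import Groth.Prelude.Def_CohCmp
import Groth.Agent.Lib.Helper7.GenBC.EpiKT
import Groth.Agent.Lib.Helper7.GenBC.NModel
import Groth.Agent.Lib.Helper7.GenBC.Rows

set_option linter.style.haveILetI false
set_option linter.unusedVariables false
set_option linter.unusedSectionVars false
set_option autoImplicit false
set_option backward.isDefEq.respectTransparency.types false
set_option backward.isDefEq.respectTransparency false
set_option synthInstance.maxHeartbeats 400000
set_option maxHeartbeats 1600000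

universe u

/-! helper7: the exchange property of the model complex near a point from generation on the fibre; sections of higher direct images over small affine opens versus cokernels of the base changed complex; base change from the exchange property over affine opens -/

open CategoryTheory CategoryTheory.Limits Opposite TopologicalSpace AlgebraicGeometry
open AlgebraicGeometry.Scheme.Modules TensorProduct
open Groth.Agent.Helper1
open Groth.Agent.Helper1.RpushLoc
open Groth.Agent.Helper3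
open Groth.Agent.Lib.Helper4.BaseChgRing1
open Groth.Agent.Lib.Helper4.TenSec2
open Groth.Agent.Lib.Helper4.LocCech1
open Groth.Agent.Lib.Helper4.CechTen1
open Groth.Agent.Lib.Helper4.ExchAlg1
open Groth.Agent.Lib.Helper4.ExchAlg2
open Groth.Agent.Lead.BCU

namespace Groth.Agent.Helper7.GenBC

attribute [local instance] secMod

section Alg

variable {B : Type u} [CommRing B]

theorem flat_Wq_congr (L : CochainComplex (ModuleCat.{u} B) ℤ) {o o' q q' : ℤ} (ho : o = o')
    (hq : q = q') (h : Module.Flat B (Wq L o q)) : Module.Flat B (Wq L o' q') := by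
  subst ho hq
  exact h

theorem subsingleton_tensor_of_right {R : Type u} [CommRing R] (P Q : Type u) [AddCommGroup P]
    [Module R P] [AddCommGroup Q] [Module R Q] [Subsingleton Q] : Subsingleton (P ⊗[R] Q) := by
  have h0 : ∀ z : P ⊗[R] Q, z = 0 := by
    intro z
    induction z using TensorProduct.induction_on with
    | zero => rfl
    | tmul a q => rw [Subsingleton.elim q 0, TensorProduct.tmul_zero]
    | add a b ha hb => rw [ha, hb, add_zero]
  exact ⟨fun a b => by rw [h0 a, h0 b]⟩

end Alg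

namespace NModel

variable {A : Type u} [CommRing A] {X : Scheme.{u}} {f : X ⟶ Spec (CommRingCat.of A)}
  {F : X.Modules} (M : NModel A f F)

/-- the exchange property of the base changed complex in terms of its cokernels -/
theorem presSurj_iff_flat_Wq {B : Type u} [CommRing B] (ψ : A →+* B) (p : ℤ) :
    letI : Algebra M.A₀ B := (ψ.comp M.j).toAlgebra
    PresSurj (bcK (B := B) M.D.K) p ↔
      Module.Flat B (Wq (bcK (B := B) M.D.K) p (p + 1)) := by
  letI : Algebra M.A₀ B := (ψ.comp M.j).toAlgebra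
  haveI : Module.Flat B ((bcK (B := B) M.D.K).X (p + 1)) := by
    haveI := (M.D.hff (p + 1)).2
    exact (show Module.Flat B (B ⊗[M.A₀] M.D.K.X (p + 1)) from inferInstance)
  exact presSurj_iff_flat (bcK (B := B) M.D.K) (p - 1) p (p + 1) (sub_add_cancel p 1) rfl

/-- above the amplitude of the complex the exchange property holds -/
theorem presSurj_of_gt {B : Type u} [CommRing B] (ψ : A →+* B) (p : ℤ) (hp : M.D.b < p + 1) :
    letI : Algebra M.A₀ B := (ψ.comp M.j).toAlgebra
    PresSurj (bcK (B := B) M.D.K) p := by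
  letI : Algebra M.A₀ B := (ψ.comp M.j).toAlgebra
  rw [M.presSurj_iff_flat_Wq ψ p]
  haveI : Subsingleton (M.D.K.X (p + 1)) := ModuleCat.subsingleton_of_isZero (M.D.hb _ hp)
  haveI : Subsingleton ((bcK (B := B) M.D.K).X (p + 1)) :=
    show Subsingleton (B ⊗[M.A₀] M.D.K.X (p + 1)) from subsingleton_tensor_of_right _ _
  haveI : Subsingleton (Wq (bcK (B := B) M.D.K) p (p + 1)) :=
    (Submodule.Quotient.mk_surjective _).subsingleton
  haveI : Module.Free B (Wq (bcK (B := B) M.D.K) p (p + 1)) := Module.Free.of_subsingleton _ _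
  infer_instance

/-- **from generation by the pullback to a fibre to the exchange property of the complex near
the point** -/
theorem exists_unit_presSurj_of_span (p : ℕ) {k : Type u} [CommRing k] (hk : IsField k)
    (φ : A →+* k) {Xk : Scheme.{u}} (fk : Xk ⟶ Spec (CommRingCat.of k)) (rk : Xk ⟶ X)
    (hsqk : IsPullback rk fk f (Spec.map (CommRingCat.ofHom φ)))
    (hspan : letI : Xk.Over (Spec (CommRingCat.of k)) := ⟨fk⟩
      Submodule.span k (Set.range (CohPull.pullMod rk F p)) = ⊤) :
    ∃ g : A, φ g ≠ 0 ∧ ∀ (B : Type u) [CommRing B] (ψ : A →+* B), IsUnit (ψ g) →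
      letI : Algebra M.A₀ B := (ψ.comp M.j).toAlgebra
      PresSurj (bcK (B := B) M.D.K) (p : ℤ) := by
  letI : X.Over (Spec (CommRingCat.of A)) := ⟨f⟩
  letI : Xk.Over (Spec (CommRingCat.of k)) := ⟨fk⟩
  letI algA : Algebra M.A₀ A := ((RingHom.id A).comp M.j).toAlgebra
  have h0 : Spec.map (CommRingCat.ofHom (RingHom.id A)) = 𝟙 (Spec (CommRingCat.of A)) := by
    rw [CommRingCat.ofHom_id, Spec.map_id]
  have hsqA : IsPullback (𝟙 X) f f (Spec.map (CommRingCat.ofHom (RingHom.id A))) := by
    rw [h0]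
    exact IsPullback.id_horiz f
  obtain ⟨G₀, hqc, e₀, U, hcov, haff, hfl, hΘ⟩ := M.exists_cmp (RingHom.id A) f (𝟙 X) hsqA
  obtain ⟨Θ⟩ := hΘ p
  haveI := M.D.fin
  haveI := hqc
  have hspan' : Submodule.span k (Set.range (CohPull.pullMod rk G₀ p)) = ⊤ :=
    span_pullMod_of_iso rk (e₀ ≪≫ (Scheme.Modules.pullbackId X).app F) p hspan
  letI := φ.toAlgebra
  letI := hk.toField
  have hgenCZ := genAt_CZ_of_span φ rk G₀ U hsqk haff hcov p hspan'
  have hgenK := GenAt.of_iso Θ.symm _ _ hgenCZ
  haveI : Module.Finite M.A₀ (M.D.K.X (p : ℤ)) := (M.D.hff _).1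
  haveI : Module.Finite M.A₀ (M.D.K.X ((p : ℤ) + 1)) := (M.D.hff _).1
  haveI : Module.Free M.A₀ (M.D.K.X ((p : ℤ) + 1)) := (M.D.hff _).2
  obtain ⟨g, hg, hPS⟩ := exists_unit_presSurj_of_genAt (A₁ := M.A₀) (A := A) M.D.K (p : ℤ)
    (k := k) _ hgenK
  refine ⟨g, hg, fun B _ ψ hu => ?_⟩
  letI algAB : Algebra A B := ψ.toAlgebra
  letI algA₀B : Algebra M.A₀ B := (ψ.comp M.j).toAlgebra
  haveI : IsScalarTower M.A₀ A B := IsScalarTower.of_algebraMap_eq (fun x => rfl)
  exact hPS B hu

end NModel

section Sections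

/-- the restriction of a function on an affine open to a smaller open inside its non-vanishing
locus is invertible -/
theorem isUnit_res_of_le_basicOpen {S : Scheme.{u}} {V₁ W : S.Opens} (g : Γ(S, V₁))
    (hle : W ≤ S.basicOpen g) (hleW : W ≤ V₁) :
    IsUnit ((S.presheaf.map (homOfLE hleW).op).hom g) := by
  have h1 : IsUnit ((S.presheaf.map (homOfLE (S.basicOpen_le g)).op).hom g) :=
    S.toRingedSpace.isUnit_res_basicOpen g
  have hcomp : S.presheaf.map (homOfLE hleW).op =
      S.presheaf.map (homOfLE (S.basicOpen_le g)).op ≫ S.presheaf.map (homOfLE hle).op := by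
    rw [← Functor.map_comp]
    congr 1
  rw [hcomp, CommRingCat.hom_comp, RingHom.comp_apply]
  exact h1.map _

/-- sections over affine opens of a quasi-coherent module whose restriction to an open is finite
locally free are finite projective -/
theorem finite_projective_sections_of_isFinLocFree_restrict {Y : Scheme.{u}} (N : Y.Modules)
    [N.IsQuasicoherent] (V : Y.Opens) (h : FlatMod.IsFinLocFree (N.restrict V.ι))
    (W : Y.Opens) (hW : IsAffineOpen W) (hWV : W ≤ V) :
    Module.Finite Γ(Y, W) Γ(N, W) ∧ Module.Projective Γ(Y, W) Γ(N, W) := by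
  have hrange : Set.range hW.fromSpec ⊆ Set.range V.ι := by
    rw [hW.range_fromSpec, Scheme.Opens.range_ι]
    exact hWV
  obtain ⟨j, hj⟩ : ∃ j : Spec Γ(Y, W) ⟶ (↑V : Scheme.{u}), j ≫ V.ι = hW.fromSpec :=
    ⟨IsOpenImmersion.lift V.ι hW.fromSpec hrange, IsOpenImmersion.lift_fac _ _ _⟩
  haveI : IsOpenImmersion (j ≫ V.ι) := by rw [hj]; infer_instance
  haveI : IsOpenImmersion j := IsOpenImmersion.of_comp j V.ι
  have e : (N.restrict V.ι).restrict j ≅ N.restrict hW.fromSpec :=
    ((restrictFunctorComp j V.ι).app N).symm ≪≫ (restrictFunctorCongr hj).app N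
  have h1 := Groth.Agent.Lead.FLF.isFinLocFree_of_iso e
    (Groth.Agent.Lead.FLF.isFinLocFree_restrict j _ h)
  obtain ⟨h2, h3⟩ := (Groth.Agent.Lead.FLF.isFinLocFree_spec_iff (N.restrict hW.fromSpec)).1 h1
  exact ⟨Module.Finite.equiv (Groth.Agent.Lead.FLF.sectionsLinearEquiv hW N),
    Module.Projective.of_equiv (Groth.Agent.Lead.FLF.sectionsLinearEquiv hW N)⟩

end Sections

section Chart

variable {X S : Scheme.{u}} (f : X ⟶ S) [IsProper f] [LocallyOfFinitePresentation f]
  [HasInjectiveResolutions X.Modules]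
  (F : X.Modules) [F.IsQuasicoherent]
  {V₁ : S.Opens} (hV₁ : IsAffineOpen V₁)
  (M : NModel Γ(S, V₁) (strMap f hV₁) ((Scheme.Modules.pullback (f ⁻¹ᵁ V₁).ι).obj F))
  {W : S.Opens} (hW : IsAffineOpen W) (hle : W ≤ V₁)

/-- the comparison of the cohomology of the base change to a smaller affine open with the
sections of the higher direct image -/
theorem nonempty_HH_equiv_sections (q : ℕ) :
    letI : (↑(f ⁻¹ᵁ W) : Scheme.{u}).Over (Spec (CommRingCat.of Γ(S, W))) := ⟨strMap f hW⟩
    Nonempty (Coh.HH (↑(f ⁻¹ᵁ W)) ((Scheme.Modules.pullback (X.homOfLE (f.preimage_mono hle))).obj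
        ((Scheme.Modules.pullback (f ⁻¹ᵁ V₁).ι).obj F)) q ≃ₗ[Γ(S, W)]
      Γ((Coh.Rpush f q).obj F, W)) := by
  letI : (↑(f ⁻¹ᵁ W) : Scheme.{u}).Over (Spec (CommRingCat.of Γ(S, W))) := ⟨strMap f hW⟩
  let e : (Scheme.Modules.pullback (X.homOfLE (f.preimage_mono hle))).obj
      ((Scheme.Modules.pullback (f ⁻¹ᵁ V₁).ι).obj F) ≅ F.restrict (f ⁻¹ᵁ W).ι :=
    (Groth.Agent.Helper7.ConsMod.pullbackFacIso (X.homOfLE_ι (f.preimage_mono hle)) F).symm ≪≫
      (Scheme.Modules.restrictFunctorIsoPullback _).symm.app F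
  have e' := Groth.Agent.Helper3.FlatTen.HHcongr Γ(S, W) e q
  obtain ⟨es⟩ := Groth.Agent.Lib.Helper4.RpushSec1.nonempty_sections_equiv f F hW q
  exact ⟨e'.trans es.symm⟩

include hW in
/-- sections of a higher direct image over a small affine open are finite projective when the
two adjacent cokernels of the base changed complex are flat -/
theorem finite_projective_sections_of_flat (q : ℕ)
    (h1 : letI : Algebra M.A₀ Γ(S, W) :=
        ((S.presheaf.map (homOfLE hle).op).hom.comp M.j).toAlgebra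
      Module.Flat Γ(S, W) (Wq (bcK (B := Γ(S, W)) M.D.K) ((q : ℤ) - 1) (q : ℤ)))
    (h2 : letI : Algebra M.A₀ Γ(S, W) :=
        ((S.presheaf.map (homOfLE hle).op).hom.comp M.j).toAlgebra
      Module.Flat Γ(S, W) (Wq (bcK (B := Γ(S, W)) M.D.K) (q : ℤ) ((q : ℤ) + 1))) :
    Module.Finite Γ(S, W) Γ((Coh.Rpush f q).obj F, W) ∧
      Module.Projective Γ(S, W) Γ((Coh.Rpush f q).obj F, W) := by
  have hs := isPullback_strMap f hV₁ hW hle
  letI : (↑(f ⁻¹ᵁ W) : Scheme.{u}).Over (Spec (CommRingCat.of Γ(S, W))) := ⟨strMap f hW⟩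
  obtain ⟨k1, k2⟩ := M.finite_projective_HH_of_flat (S.presheaf.map (homOfLE hle).op).hom
    (strMap f hW) (X.homOfLE (f.preimage_mono hle)) hs q h1 h2
  obtain ⟨E⟩ := nonempty_HH_equiv_sections f F hW hle q
  haveI := k1
  haveI := k2
  exact ⟨Module.Finite.equiv E, Module.Projective.of_equiv E⟩

include hW in
/-- a cokernel of the base changed complex is flat when the next one is and the sections of the
higher direct image are projective -/
theorem flat_Wq_of_projective_sections (q : ℕ)
    (h2 : letI : Algebra M.A₀ Γ(S, W) :=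
        ((S.presheaf.map (homOfLE hle).op).hom.comp M.j).toAlgebra
      Module.Flat Γ(S, W) (Wq (bcK (B := Γ(S, W)) M.D.K) (q : ℤ) ((q : ℤ) + 1)))
    (hP : Module.Projective Γ(S, W) Γ((Coh.Rpush f q).obj F, W)) :
    letI : Algebra M.A₀ Γ(S, W) := ((S.presheaf.map (homOfLE hle).op).hom.comp M.j).toAlgebra
    Module.Flat Γ(S, W) (Wq (bcK (B := Γ(S, W)) M.D.K) ((q : ℤ) - 1) (q : ℤ)) := by
  have hs := isPullback_strMap f hV₁ hW hle
  letI : (↑(f ⁻¹ᵁ W) : Scheme.{u}).Over (Spec (CommRingCat.of Γ(S, W))) := ⟨strMap f hW⟩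
  obtain ⟨E⟩ := nonempty_HH_equiv_sections f F hW hle q
  haveI := hP
  exact M.flat_Wq_of_projective_HH (S.presheaf.map (homOfLE hle).op).hom
    (strMap f hW) (X.homOfLE (f.preimage_mono hle)) hs q h2 (Module.Projective.of_equiv E.symm)

end Chart

section Global

variable {X S : Scheme.{u}} (f : X ⟶ S) [IsProper f] [LocallyOfFinitePresentation f]
  [HasInjectiveResolutions X.Modules]
  (F : X.Modules) [F.IsQuasicoherent] (hfl : FlatMod.IsFlatOver f F)
  {Δ : RDer.DerivedLES (pushforward f)} (E : CohCmp.SectCmp f Δ)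

include hfl in
/-- **cohomology and base change in degree `p`** from the exchange property of the base changed
model complexes over affine opens around the image of the base change -/
theorem isIso_bc_of_presSurjOn {X' S' : Scheme.{u}} (g' : X' ⟶ X) (f' : X' ⟶ S')
    (g : S' ⟶ S) (h : IsPullback g' f' f g) [HasInjectiveResolutions X'.Modules]
    {Δ' : RDer.DerivedLES (pushforward f')} (E' : CohCmp.SectCmp f' Δ')
    (B : CohCmp.GenBC f g f' g' h.w E E') (p : ℕ)
    (hloc : ∀ z : S', ∃ (V₁ : S.Opens) (hV₁ : IsAffineOpen V₁)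
      (M : NModel Γ(S, V₁) (strMap f hV₁) ((Scheme.Modules.pullback (f ⁻¹ᵁ V₁).ι).obj F))
      (W : S.Opens) (hW : IsAffineOpen W) (hle : W ≤ V₁), g z ∈ W ∧
        (letI : Algebra M.A₀ Γ(S, W) :=
            ((S.presheaf.map (homOfLE hle).op).hom.comp M.j).toAlgebra;
          PresSurj (bcK (B := Γ(S, W)) M.D.K) (p : ℤ))) :
    IsIso (B.bc p F) := by
  haveI : IsProper f' := MorphismProperty.of_isPullback (P := @IsProper) h inferInstance
  haveI : ((Coh.Rpush f p).obj F).IsQuasicoherent :=
    Groth.Agent.Lib.Helper5.RpushClassic.isQuasicoherent_rpush f F p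
  change IsIso (transp g ((Coh.Rpush f p).obj F)
    ((Coh.Rpush f' p).obj ((Scheme.Modules.pullback g').obj F)) (B.φ p F))
  apply isIso_transp_of_isBC
  intro z
  obtain ⟨V₁, hV₁, M, W, hW, hleW, hz, hPS⟩ := hloc z
  refine ⟨W, hW, hz, fun V' e hV' => ?_⟩
  have hs := isPullback_strMap f hV₁ hW hleW
  letI : (↑(f ⁻¹ᵁ W) : Scheme.{u}).Over (Spec (CommRingCat.of Γ(S, W))) := ⟨strMap f hW⟩
  let e₀ : (Scheme.Modules.pullback (X.homOfLE (f.preimage_mono hleW))).obj
      ((Scheme.Modules.pullback (f ⁻¹ᵁ V₁).ι).obj F) ≅ F.restrict (f ⁻¹ᵁ W).ι :=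
    (Groth.Agent.Helper7.ConsMod.pullbackFacIso (X.homOfLE_ι (f.preimage_mono hleW)) F).symm ≪≫
      (Scheme.Modules.restrictFunctorIsoPullback _).symm.app F
  obtain ⟨ι₀, hfin, U', hcovU, haffU, hflW⟩ := M.flatW_of_presSurj
    (S.presheaf.map (homOfLE hleW).op).hom (strMap f hW)
    (X.homOfLE (f.preimage_mono hleW)) hs p hPS (F.restrict (f ⁻¹ᵁ W).ι) e₀
  haveI := hfin
  haveI : (F.restrict (f ⁻¹ᵁ W).ι).IsQuasicoherent := inferInstance
  have hflr : FlatMod.IsFlatOver (strMap f hW) (F.restrict (f ⁻¹ᵁ W).ι) :=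
    Groth.Agent.Lib.Helper4.ChartSq1.isFlatOver_restrict f hW F hfl
  exact isBC_local f g f' g' h E E' B F p hW rfl hV' e U' hcovU haffU
    (fun n => Groth.Agent.Helper7.BC0.flat_Co Γ(S, W)
      (F.restrict (f ⁻¹ᵁ W).ι) U' hflr haffU n) hflW

end Global

end Groth.Agent.Helper7.GenBC
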