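import Mathlib
import Groth.Prelude.Def_CohCmp
import Groth.Agent.Lib.Helper7.GenBC.EpiTwo

set_option linter.style.haveILetI false
set_option linter.unusedVariables false
set_option linter.unusedSectionVars false
set_option autoImplicit false
set_option backward.isDefEq.respectTransparency.types false
set_option backward.isDefEq.respectTransparency false
set_option synthInstance.maxHeartbeats 400000
set_option maxHeartbeats 1600000

universe u

/-! helper7: cohomology and base change part (2): finite local freeness of the next higher direct image versus epimorphic fibre base change maps in adjacent degrees -/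

open CategoryTheory CategoryTheory.Limits Opposite TopologicalSpace AlgebraicGeometry
open AlgebraicGeometry.Scheme.Modules TensorProduct
open Groth.Agent.Helper1
open Groth.Agent.Helper1.RpushLoc
open Groth.Agent.Helper3
open Groth.Agent.Lib.Helper4.BaseChgRing1
open Groth.Agent.Lib.Helper4.TenSec2
open Groth.Agent.Lib.Helper4.LocCech1
open Groth.Agent.Lib.Helper4.CechTen1
open Groth.Agent.Lib.Helper4.ExchAlg1
open Groth.Agent.Lib.Helper4.ExchAlg2
open Groth.Agent.Lead.BCU

namespace Groth.Agent.Helper7.GenBC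

attribute [local instance] secMod

section Chart

variable {X S : Scheme.{u}} (f : X ⟶ S) [IsProper f] [LocallyOfFinitePresentation f] (s : S)
  (F : X.Modules) [F.IsQuasicoherent] (hfp : CohB1.IsFP F) (hfl : FlatMod.IsFlatOver f F)

include hfp hfl in
/-- an affine chart around a point with a Noetherian model of the family over it -/
theorem exists_chart_nmodel :
    ∃ (V₁ : S.Opens) (hV₁ : IsAffineOpen V₁), s ∈ V₁ ∧
      Nonempty (NModel Γ(S, V₁) (strMap f hV₁) ((Scheme.Modules.pullback (f ⁻¹ᵁ V₁).ι).obj F)) := by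
  obtain ⟨_, ⟨V₁, hV₁, rfl⟩, hsV₁, -⟩ :=
    S.isBasis_affineOpens.exists_subset_of_mem_open (Set.mem_univ s) isOpen_univ
  have hsq := Groth.Agent.Lib.Helper4.ChartSq1.isPullback_chart f hV₁
  haveI : IsProper (strMap f hV₁) :=
    MorphismProperty.of_isPullback (P := @IsProper) hsq inferInstance
  haveI : LocallyOfFinitePresentation (strMap f hV₁) :=
    MorphismProperty.of_isPullback (P := @LocallyOfFinitePresentation) hsq inferInstance
  have hF' : CohB1.IsFP ((Scheme.Modules.pullback (f ⁻¹ᵁ V₁).ι).obj F) :=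
    Groth.Agent.Lead.LimZ.isFP_pullback _ F hfp
  haveI : ((Scheme.Modules.pullback (f ⁻¹ᵁ V₁).ι).obj F).IsQuasicoherent :=
    (Groth.Agent.Helper7.ConsMod.isCoh_of_isFP _ hF').1
  have hfl' : FlatMod.IsFlatOver (strMap f hV₁)
      ((Scheme.Modules.pullback (f ⁻¹ᵁ V₁).ι).obj F) := fun z =>
    Groth.Agent.Lead.FB.flat_baseChange hsq F z (hfl _)
  exact ⟨V₁, hV₁, hsV₁, nonempty_nmodel Γ(S, V₁) (strMap f hV₁) _ hF' hfl'⟩

end Chart

section Fibre

variable {X S : Scheme.{u}} (f : X ⟶ S) [IsProper f] [LocallyOfFinitePresentation f] (s : S)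
  [HasInjectiveResolutions X.Modules] [HasInjectiveResolutions (f.fiber s).Modules]
  (F : X.Modules) [F.IsQuasicoherent] (hfp : CohB1.IsFP F) (hfl : FlatMod.IsFlatOver f F)
  {Δ : RDer.DerivedLES (pushforward f)}
  {Δs : RDer.DerivedLES (pushforward (f.fiberToSpecResidueField s))}
  (E : CohCmp.SectCmp f Δ) (Es : CohCmp.SectCmp (f.fiberToSpecResidueField s) Δs)
  (Bs : CohCmp.GenBC f (S.fromSpecResidueField s) (f.fiberToSpecResidueField s) (f.fiberι s)
    (f.fiber_fac s) E Es)

/-- **the exchange property of the model complex near a point** where the base change map of the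
fibre square is an epimorphism -/
theorem exists_unit_presSurj_of_epi (i : ℕ) (hepi : Epi (Bs.bc i F)) {V₁ : S.Opens}
    (hV₁ : IsAffineOpen V₁) (hsV₁ : s ∈ V₁)
    (M : NModel Γ(S, V₁) (strMap f hV₁) ((Scheme.Modules.pullback (f ⁻¹ᵁ V₁).ι).obj F)) :
    ∃ g₀ : Γ(S, V₁), s ∈ S.basicOpen g₀ ∧
      ∀ (B : Type u) [CommRing B] (ψ : Γ(S, V₁) →+* B), IsUnit (ψ g₀) →
        letI : Algebra M.A₀ B := (ψ.comp M.j).toAlgebra
        PresSurj (bcK (B := B) M.D.K) (i : ℤ) := by
  have h : IsPullback (f.fiberι s) (f.fiberToSpecResidueField s) f (S.fromSpecResidueField s) :=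
    IsPullback.of_hasPullback f (S.fromSpecResidueField s)
  haveI : IsProper (f.fiberToSpecResidueField s) :=
    MorphismProperty.of_isPullback (P := @IsProper) h inferInstance
  haveI : ((Coh.Rpush f i).obj F).IsQuasicoherent :=
    Groth.Agent.Lib.Helper5.RpushClassic.isQuasicoherent_rpush f F i
  haveI : ((Scheme.Modules.pullback (f ⁻¹ᵁ V₁).ι).obj F).IsQuasicoherent :=
    Groth.Agent.Lead.PB.isQuasicoherent_pullback _ _
  haveI : Subsingleton ↥(Spec (S.residueField s)) :=
    show Subsingleton (PrimeSpectrum (S.residueField s)) from inferInstance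
  haveI : Nonempty ↥(Spec (S.residueField s)) :=
    show Nonempty (PrimeSpectrum (S.residueField s)) from inferInstance
  have hV' : IsAffineOpen (⊤ : (Spec (S.residueField s)).Opens) :=
    isAffineOpen_top (Spec (S.residueField s))
  have e : (⊤ : (Spec (S.residueField s)).Opens) ≤ (S.fromSpecResidueField s) ⁻¹ᵁ V₁ := by
    intro z _
    change S.fromSpecResidueField s z ∈ V₁
    rw [Scheme.fromSpecResidueField_apply]
    exact hsV₁
  haveI := hepi
  have hsurj : Function.Surjective ((transp (S.fromSpecResidueField s) ((Coh.Rpush f i).obj F)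
      ((Coh.Rpush (f.fiberToSpecResidueField s) i).obj
        ((Scheme.Modules.pullback (f.fiberι s)).obj F)) (Bs.φ i F)).app ⊤).hom := by
    have h1 := Groth.Agent.Lib.Helper5.OnePoint.surjective_of_epi (Spec (S.residueField s))
      (Bs.bc i F)
    intro n
    obtain ⟨x, hx⟩ := h1 n
    exact ⟨x, hx⟩
  letI ov : (↑(f ⁻¹ᵁ V₁) : Scheme.{u}).Over (Spec (CommRingCat.of Γ(S, V₁))) :=
    ⟨strMap f hV₁⟩
  have h₂ := CohCmp.sqLE f (S.fromSpecResidueField s) (f.fiberToSpecResidueField s)
    (f.fiberι s) h.w V₁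
  have h₃ := (f.fiberToSpecResidueField s).preimage_mono e
  letI ov' : (↑((f.fiberToSpecResidueField s) ⁻¹ᵁ ⊤) : Scheme.{u}).Over
      (Spec (CommRingCat.of Γ(Spec (S.residueField s), ⊤))) :=
    ⟨strMap (f.fiberToSpecResidueField s) hV'⟩
  have hspan := span_pullMod_of_surjective f (S.fromSpecResidueField s)
    (f.fiberToSpecResidueField s) (f.fiberι s) h E Es Bs F i hV₁ rfl hV' e hsurj
  rw [jj_comp_resLE (f.fiberι s) (f ⁻¹ᵁ V₁) _ _ h₂ h₃] at hspan
  have hk : IsField Γ(Spec (S.residueField s), ⊤) :=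
    MulEquiv.isField (Field.toIsField (S.residueField s))
      (Scheme.ΓSpecIso (S.residueField s)).commRingCatIsoToRingEquiv.toMulEquiv
  have hsqk := isPullback_resLE h hV₁ hV' e (h₃.trans h₂)
  have hspan2 := span_pullMod_of_iso
    ((f.fiberι s).resLE (f ⁻¹ᵁ V₁) ((f.fiberToSpecResidueField s) ⁻¹ᵁ ⊤) (h₃.trans h₂))
    ((Scheme.Modules.restrictFunctorIsoPullback (f ⁻¹ᵁ V₁).ι).symm.app F) i hspan
  obtain ⟨g₀, hg₀, hPS⟩ := M.exists_unit_presSurj_of_span i hk
    ((S.fromSpecResidueField s).appLE V₁ ⊤ e).hom (strMap (f.fiberToSpecResidueField s) hV')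
    ((f.fiberι s).resLE (f ⁻¹ᵁ V₁) ((f.fiberToSpecResidueField s) ⁻¹ᵁ ⊤) (h₃.trans h₂))
    hsqk hspan2
  refine ⟨g₀, ?_, hPS⟩
  have hu : IsUnit (((S.fromSpecResidueField s).appLE V₁ ⊤ e).hom g₀) := by
    obtain ⟨b, hb⟩ := hk.mul_inv_cancel hg₀
    exact IsUnit.of_mul_eq_one b hb
  have h1 : (Spec (S.residueField s)).basicOpen (((S.fromSpecResidueField s).appLE V₁ ⊤ e).hom g₀)
      = ⊤ := Scheme.basicOpen_of_isUnit _ hu
  rw [Scheme.basicOpen_appLE] at h1
  obtain ⟨pt⟩ := (inferInstance : Nonempty ↥(Spec (S.residueField s)))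
  have h2 : pt ∈ (⊤ : (Spec (S.residueField s)).Opens) ⊓
      (S.fromSpecResidueField s) ⁻¹ᵁ (S.basicOpen g₀) := by
    rw [h1]
    trivial
  have h3 : S.fromSpecResidueField s pt ∈ S.basicOpen g₀ := h2.2
  rwa [Scheme.fromSpecResidueField_apply] at h3

include hfp hfl in
/-- **cohomology and base change, part (2), first half**: if the fibre base change maps at `s` in
the degrees `i` and `i + 1` are epimorphisms, the higher direct image in degree `i + 1` is finite
locally free near `s` -/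
theorem exists_nhd_finLocFree_of_epi_epi (i : ℕ) (h0 : Epi (Bs.bc i F))
    (h1 : Epi (Bs.bc (i + 1) F)) :
    ∃ V : S.Opens, s ∈ V ∧
      FlatMod.IsFinLocFree (((Coh.Rpush f (i + 1)).obj F).restrict V.ι) := by
  obtain ⟨V₁, hV₁, hsV₁, ⟨M⟩⟩ := exists_chart_nmodel f s F hfp hfl
  obtain ⟨g₁, hs₁, hP₁⟩ := exists_unit_presSurj_of_epi f s F E Es Bs i h0 hV₁ hsV₁ M
  obtain ⟨g₂, hs₂, hP₂⟩ := exists_unit_presSurj_of_epi f s F E Es Bs (i + 1) h1 hV₁ hsV₁ M
  refine ⟨S.basicOpen g₁ ⊓ S.basicOpen g₂, ⟨hs₁, hs₂⟩, ?_⟩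
  haveI : ((Coh.Rpush f (i + 1)).obj F).IsQuasicoherent :=
    Groth.Agent.Lib.Helper5.RpushClassic.isQuasicoherent_rpush f F (i + 1)
  apply Groth.Agent.Helper7.CohBC.isFinLocFree_restrict_of_affine
  intro W hW hle
  have hleW : W ≤ V₁ := hle.trans (inf_le_left.trans (S.basicOpen_le g₁))
  have hu₁ := isUnit_res_of_le_basicOpen g₁ (hle.trans inf_le_left) hleW
  have hu₂ := isUnit_res_of_le_basicOpen g₂ (hle.trans inf_le_right) hleW
  have hPS₁ := hP₁ Γ(S, W) (S.presheaf.map (homOfLE hleW).op).hom hu₁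
  have hPS₂ := hP₂ Γ(S, W) (S.presheaf.map (homOfLE hleW).op).hom hu₂
  have hF₁ := (M.presSurj_iff_flat_Wq (S.presheaf.map (homOfLE hleW).op).hom (i : ℤ)).1 hPS₁
  have hF₂ := (M.presSurj_iff_flat_Wq (S.presheaf.map (homOfLE hleW).op).hom
    ((i + 1 : ℕ) : ℤ)).1 hPS₂
  exact finite_projective_sections_of_flat f F hV₁ M hW hleW (i + 1)
    (flat_Wq_congr _ (by omega) (by omega) hF₁) hF₂

include hfp hfl in
/-- **cohomology and base change, part (2), second half**: if the fibre base change map at `s` in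
degree `i + 1` is an epimorphism and the higher direct image in degree `i + 1` is finite locally
free near `s`, the fibre base change map in degree `i` is an epimorphism -/
theorem epi_of_epi_succ_of_finLocFree (i : ℕ) (h1 : Epi (Bs.bc (i + 1) F)) (V : S.Opens)
    (hsV : s ∈ V) (hV : FlatMod.IsFinLocFree (((Coh.Rpush f (i + 1)).obj F).restrict V.ι)) :
    Epi (Bs.bc i F) := by
  obtain ⟨V₁, hV₁, hsV₁, ⟨M⟩⟩ := exists_chart_nmodel f s F hfp hfl
  obtain ⟨g₂, hs₂, hP₂⟩ := exists_unit_presSurj_of_epi f s F E Es Bs (i + 1) h1 hV₁ hsV₁ M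
  obtain ⟨W, hW, hsW, hWle⟩ := (Opens.isBasis_iff_nbhd.mp S.isBasis_affineOpens)
    (show s ∈ V ⊓ S.basicOpen g₂ from ⟨hsV, hs₂⟩)
  have hleW : W ≤ V₁ := hWle.trans (inf_le_right.trans (S.basicOpen_le g₂))
  have hu₂ := isUnit_res_of_le_basicOpen g₂ (hWle.trans inf_le_right) hleW
  have hPS₂ := hP₂ Γ(S, W) (S.presheaf.map (homOfLE hleW).op).hom hu₂
  have hF₂ := (M.presSurj_iff_flat_Wq (S.presheaf.map (homOfLE hleW).op).hom
    ((i + 1 : ℕ) : ℤ)).1 hPS₂
  haveI : ((Coh.Rpush f (i + 1)).obj F).IsQuasicoherent :=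
    Groth.Agent.Lib.Helper5.RpushClassic.isQuasicoherent_rpush f F (i + 1)
  obtain ⟨-, hproj⟩ := finite_projective_sections_of_isFinLocFree_restrict
    ((Coh.Rpush f (i + 1)).obj F) V hV W hW (hWle.trans inf_le_left)
  have hF₁ := flat_Wq_of_projective_sections f F hV₁ M hW hleW (i + 1) hF₂ hproj
  have hPS₁ := (M.presSurj_iff_flat_Wq (S.presheaf.map (homOfLE hleW).op).hom (i : ℤ)).2
    (flat_Wq_congr _ (by omega) (by omega) hF₁)
  have hpb : IsPullback (f.fiberι s) (f.fiberToSpecResidueField s) f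
      (S.fromSpecResidueField s) :=
    IsPullback.of_hasPullback f (S.fromSpecResidueField s)
  haveI : IsIso (Bs.bc i F) := isIso_bc_of_presSurjOn f F hfl E (f.fiberι s)
    (f.fiberToSpecResidueField s) (S.fromSpecResidueField s) hpb Es Bs i
    (fun z => ⟨V₁, hV₁, M, W, hW, hleW, by
      rw [Scheme.fromSpecResidueField_apply]
      exact hsW, hPS₁⟩)
  infer_instance

include hfp hfl in
/-- in large degrees the fibre base change maps are epimorphisms -/
theorem exists_forall_epi_of_ge : ∃ N : ℕ, ∀ p : ℕ, N ≤ p → Epi (Bs.bc p F) := by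
  obtain ⟨V₁, hV₁, hsV₁, ⟨M⟩⟩ := exists_chart_nmodel f s F hfp hfl
  refine ⟨M.D.b.toNat, fun p hp => ?_⟩
  have hpb : IsPullback (f.fiberι s) (f.fiberToSpecResidueField s) f
      (S.fromSpecResidueField s) :=
    IsPullback.of_hasPullback f (S.fromSpecResidueField s)
  haveI : IsIso (Bs.bc p F) := isIso_bc_of_presSurjOn f F hfl E (f.fiberι s)
    (f.fiberToSpecResidueField s) (S.fromSpecResidueField s) hpb Es Bs p
    (fun z => ⟨V₁, hV₁, M, V₁, hV₁, le_rfl, by
      rw [Scheme.fromSpecResidueField_apply]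
      exact hsV₁, M.presSurj_of_gt _ (p : ℤ) (by omega)⟩)
  infer_instance

end Fibre

section Rows

variable {X S : Scheme.{u}} (f : X ⟶ S) [IsProper f] [LocallyOfFinitePresentation f]
  [HasInjectiveResolutions X.Modules] [∀ s : S, HasInjectiveResolutions (f.fiber s).Modules]
  (F : X.Modules) [F.IsQuasicoherent] (hfp : CohB1.IsFP F) (hfl : FlatMod.IsFlatOver f F)
  {Δ : RDer.DerivedLES (pushforward f)} (E : CohCmp.SectCmp f Δ)
  (Δs : ∀ s : S, RDer.DerivedLES (pushforward (f.fiberToSpecResidueField s)))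
  (Es : ∀ s : S, CohCmp.SectCmp (f.fiberToSpecResidueField s) (Δs s))
  (Bs : ∀ s : S, CohCmp.GenBC f (S.fromSpecResidueField s) (f.fiberToSpecResidueField s)
    (f.fiberι s) (f.fiber_fac s) E (Es s))

include hfp hfl in
/-- vanishing of the fibre cohomology in degree `q + 2` and epimorphic fibre base change maps in
degree `q` make the higher direct image in degree `q + 1` finite locally free -/
theorem row_finLocFree_succ (q : ℕ)
    (hq2 : ∀ y : S, Subsingleton (CohIII.fiberH f F y (q + 2)))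
    (hq : ∀ y : S, Epi ((Bs y).bc q F)) :
    FlatMod.IsFinLocFree ((Coh.Rpush f (q + 1)).obj F) := by
  apply Groth.Agent.Lead.FLF.isFinLocFree_of_charts
  intro y
  have hpb : IsPullback (f.fiberι y) (f.fiberToSpecResidueField y) f
      (S.fromSpecResidueField y) :=
    IsPullback.of_hasPullback f (S.fromSpecResidueField y)
  have h1 : Epi ((Bs y).bc (q + 1) F) := by
    haveI : IsIso ((Bs y).bc (q + 1) F) := isIso_bc_of_fibre_vanishing f F hfp hfl E
      (f.fiberι y) (f.fiberToSpecResidueField y) (S.fromSpecResidueField y) hpb (Es y) (Bs y)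
      (q + 1) (fun z => by
        rw [Scheme.fromSpecResidueField_apply]
        exact hq2 y)
    infer_instance
  obtain ⟨V, hyV, hV⟩ := exists_nhd_finLocFree_of_epi_epi f y F hfp hfl E (Es y) (Bs y) q
    (hq y) h1
  exact ⟨_, V.ι, inferInstance, by rw [Scheme.Opens.opensRange_ι]; exact hyV, hV⟩

include hfp hfl in
/-- epimorphic fibre base change maps in all degrees `≥ m` at all points iff the higher direct
images in all degrees `> m` are finite locally free -/
theorem row_epi_ge_iff (m : ℕ) :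
    (∀ (s : S) (i : ℕ), m ≤ i → Epi ((Bs s).bc i F)) ↔
      ∀ i : ℕ, m < i → FlatMod.IsFinLocFree ((Coh.Rpush f i).obj F) := by
  constructor
  · intro h i hi
    obtain ⟨i', rfl⟩ : ∃ i', i = i' + 1 := ⟨i - 1, by omega⟩
    apply Groth.Agent.Lead.FLF.isFinLocFree_of_charts
    intro s
    obtain ⟨V, hsV, hV⟩ := exists_nhd_finLocFree_of_epi_epi f s F hfp hfl E (Es s) (Bs s) i'
      (h s i' (by omega)) (h s (i' + 1) (by omega))
    exact ⟨_, V.ι, inferInstance, by rw [Scheme.Opens.opensRange_ι]; exact hsV, hV⟩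
  · intro h s
    obtain ⟨N, hN⟩ := exists_forall_epi_of_ge f s F hfp hfl E (Es s) (Bs s)
    have key : ∀ d p : ℕ, m ≤ p → N ≤ p + d → Epi ((Bs s).bc p F) := by
      intro d
      induction d with
      | zero =>
        intro p _ hp
        exact hN p (by omega)
      | succ d ih =>
        intro p hmp hp
        have h1 := ih (p + 1) (by omega) (by omega)
        exact epi_of_epi_succ_of_finLocFree f s F hfp hfl E (Es s) (Bs s) p h1 ⊤ trivial
          (Groth.Agent.Lead.FLF.isFinLocFree_restrict (⊤ : S.Opens).ι _ (h (p + 1) (by omega)))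
    intro i hi
    exact key N i hi (by omega)

end Rows

end Groth.Agent.Helper7.GenBC
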