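import Mathlib
import Groth.Prelude.Def_CohCmp
import Groth.Agent.Lib.Helper7.GenBC.EpiTwoRows

set_option linter.style.haveILetI false
set_option linter.unusedVariables false
set_option linter.unusedSectionVars false
set_option autoImplicit false
set_option backward.isDefEq.respectTransparency.types false
set_option backward.isDefEq.respectTransparency false
set_option synthInstance.maxHeartbeats 400000
set_option maxHeartbeats 1600000

universe u

/-! helper7: degree zero: generation of global sections gives generation of H^0 by the pullback map; the fibre at a point as a base change of an affine chart; from an epimorphic degree-zero base change map of the fibre square to generation of sections on the fibre -/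

open CategoryTheory CategoryTheory.Limits Opposite TopologicalSpace AlgebraicGeometry
open AlgebraicGeometry.Scheme.Modules TensorProduct
open Groth.Agent.Helper1
open Groth.Agent.Helper1.RpushLoc
open Groth.Agent.Lib.Helper4.BaseChgRing1
open Groth.Agent.Lib.Helper4.TenSec2
open Groth.Agent.Lib.Helper4.LocCech1
open Groth.Agent.Lib.Helper4.CechTen1
open Groth.Agent.Lib.Helper4.BCSec1
open Groth.Agent.Lib.Helper4.BCSec2
open Groth.Agent.Lib.Helper4.ExchAlg1
open Groth.Agent.Lib.Helper4.ExchAlg2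
open Groth.Agent.Lead.BCU Groth.Agent.Lead.FBC

namespace Groth.Agent.Helper7.GenBC

attribute [local instance] secMod

section Zero

variable {A B : Type u} [CommRing A] [CommRing B] (φ : A →+* B)
variable {X X' : Scheme.{u}} [X.Over (Spec (CommRingCat.of A))] [X'.Over (Spec (CommRingCat.of B))]
variable (r : X' ⟶ X) (G : X.Modules) {ι : Type u} (U : ι → X.Opens)

theorem alt_sum_two {T : Type u} [AddCommGroup T] (x₀ x₁ : T) :
    (-1 : ℤ) ^ ((0 : Fin (0 + 2)) : ℕ) • x₀ + (-1 : ℤ) ^ ((1 : Fin (0 + 2)) : ℕ) • x₁ =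
      x₀ - x₁ := by
  simp [sub_eq_add_neg]

/-- the restrictions of a global section form a cocycle -/
theorem gco_mem_ker (N : X.Modules) (m : Γ(N, (⊤ : X.Opens))) :
    (fun a : Fin (0 + 1) → ι => QcCech.res N (le_top : TCx.W U a ≤ ⊤) m) ∈
      LinearMap.ker (DdA A N U 0) := by
  rw [LinearMap.mem_ker, DdA_apply]
  funext k
  rw [Dd_apply, Fin.sum_univ_two]
  change (-1 : ℤ) ^ ((0 : Fin (0 + 2)) : ℕ) • QcCech.res N _ (QcCech.res N _ m) +
    (-1 : ℤ) ^ ((1 : Fin (0 + 2)) : ℕ) • QcCech.res N _ (QcCech.res N _ m) = 0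
  rw [QcCech.res_res, QcCech.res_res, alt_sum_two, sub_self]

/-- **degree zero**: if the global sections of the pulled back module are generated by the
pullbacks of global sections, the pullback map on `H^0` generates -/
theorem span_pullMod_zero_of_sections [Finite ι] [G.IsQuasicoherent]
    (hsq : IsPullback r (X' ↘ Spec (CommRingCat.of B)) (X ↘ Spec (CommRingCat.of A))
      (Spec.map (CommRingCat.ofHom φ)))
    (haff : ∀ (n : ℕ) (a : Fin (n + 1) → ι), IsAffineOpen (TCx.W U a)) (hcov : iSup U = ⊤)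
    (hsec : Submodule.span B (Set.range (fun m : Γ(G, (⊤ : X.Opens)) =>
      uAdd r G (le_top : (⊤ : X'.Opens) ≤ r ⁻¹ᵁ ⊤) m)) = ⊤) :
    Submodule.span B (Set.range (CohPull.pullMod r G 0)) = ⊤ := by
  haveI : IsAffineHom r := isAffineHom_of_sq φ r hsq
  haveI : (Fp r G).IsQuasicoherent := Groth.Agent.Lead.PB.isQuasicoherent_pullback _ _
  haveI : ((Scheme.Modules.pushforward r).obj (Fp r G)).IsQuasicoherent :=
    Groth.Agent.Helper1.PushQc.isQuasicoherent_pushforward r (Fp r G)
  have key : ∀ σ : Γ(Fp r G, (⊤ : X'.Opens)),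
      ∃ t : LinearMap.ker (DdA B (Fp r G) (Up r U) 0),
        (∀ a : Fin (0 + 1) → ι, t.1 a =
          QcCech.res (Fp r G) (le_top : TCx.W (Up r U) a ≤ ⊤) σ) ∧
        cD (B := B) r U (Fp r G) hcov 0 t ∈
          Submodule.span B (Set.range (CohPull.pullMod r G 0)) := by
    intro σ
    have hσ : σ ∈ Submodule.span B (Set.range (fun m : Γ(G, (⊤ : X.Opens)) =>
        uAdd r G (le_top : (⊤ : X'.Opens) ≤ r ⁻¹ᵁ ⊤) m)) := by
      rw [hsec]
      exact Submodule.mem_top
    refine Submodule.span_induction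
      (p := fun σ _ => ∃ t : LinearMap.ker (DdA B (Fp r G) (Up r U) 0),
        (∀ a : Fin (0 + 1) → ι, t.1 a =
          QcCech.res (Fp r G) (le_top : TCx.W (Up r U) a ≤ ⊤) σ) ∧
        cD (B := B) r U (Fp r G) hcov 0 t ∈
          Submodule.span B (Set.range (CohPull.pullMod r G 0))) ?_ ?_ ?_ ?_ hσ
    · rintro _ ⟨m, rfl⟩
      let z : LinearMap.ker (DdA A G U 0) :=
        ⟨fun a => QcCech.res G (le_top : TCx.W U a ≤ ⊤) m, gco_mem_ker (A := A) U G m⟩
      refine ⟨⟨uCo r G U 0 z.1, uCo_mem_ker (B := B) r G U 0 z⟩, fun a => ?_, ?_⟩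
      · exact (uAdd_res r G (le_top : (⊤ : X'.Opens) ≤ r ⁻¹ᵁ ⊤) (Wp_eq r U a).le
          (le_top : TCx.W U a ≤ ⊤) (le_top : TCx.W (Up r U) a ≤ ⊤) m).symm
      · have e := pullMod_cC (A := A) (B := B) r G U hcov 0 z
        rw [← e]
        exact Submodule.subset_span ⟨_, rfl⟩
    · refine ⟨0, fun a => ?_, ?_⟩
      · exact (map_zero (QcCech.res (Fp r G) (le_top : TCx.W (Up r U) a ≤ ⊤))).symm
      · rw [map_zero]
        exact zero_mem _
    · rintro x y _ _ ⟨tx, hx1, hx2⟩ ⟨ty, hy1, hy2⟩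
      refine ⟨tx + ty, fun a => ?_, ?_⟩
      · show tx.1 a + ty.1 a = _
        rw [hx1 a, hy1 a, map_add]
      · rw [map_add]
        exact add_mem hx2 hy2
    · rintro c x _ ⟨tx, hx1, hx2⟩
      refine ⟨c • tx, fun a => ?_, ?_⟩
      · show c • tx.1 a = _
        rw [hx1 a]
        exact ((resA B (Fp r G) (le_top : TCx.W (Up r U) a ≤ ⊤)).map_smul c x).symm
      · rw [(cD (B := B) r U (Fp r G) hcov 0).map_smul]
        exact Submodule.smul_mem _ c hx2
  have hcov' := iSup_Up r U hcov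
  have hcovA : ∀ z ∈ (⊤ : X'.Opens), ∃ a : Fin (0 + 1) → ι, z ∈ TCx.W (Up r U) a := by
    intro z _
    have hz : z ∈ iSup (Up r U) := by
      rw [hcov']
      trivial
    obtain ⟨i, hi⟩ := Opens.mem_iSup.1 hz
    exact ⟨fun _ => i, TCx.le_W (Up r U) (fun _ => i) (Up r U i) (fun _ => le_rfl) hi⟩
  have hcovB : ∀ (a b : Fin (0 + 1) → ι) (z : X'), z ∈ TCx.W (Up r U) a →
      z ∈ TCx.W (Up r U) b → ∃ k : Fin (0 + 2) → ι, Groth.Agent.Helper7.BC0.pi1 k = a ∧
        Groth.Agent.Helper7.BC0.pi2 k = b ∧ z ∈ TCx.W (Up r U) k := by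
    intro a b z hza hzb
    refine ⟨Fin.cons (b 0) (fun _ => a 0), ?_, ?_, ?_⟩
    · funext j
      rw [Subsingleton.elim j 0]
      rfl
    · funext j
      rw [Subsingleton.elim j 0]
      rfl
    · refine TCx.le_W (Up r U) _ (Up r U (a 0) ⊓ Up r U (b 0)) ?_
        ⟨TCx.W_le (Up r U) a 0 hza, TCx.W_le (Up r U) b 0 hzb⟩
      intro t
      refine Fin.cases ?_ (fun j => ?_) t
      · exact inf_le_right
      · exact inf_le_left
  rw [eq_top_iff]
  intro h _
  obtain ⟨w, rfl⟩ := cD_surjective (B := B) r U (Fp r G) haff hcov 0 h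
  have hw0 : Dd (Fp r G) (Up r U) 0 w.1 = 0 :=
    (DdA_apply B (Fp r G) (Up r U) 0 w.1).symm.trans (LinearMap.mem_ker.1 w.2)
  have hc : ∀ k : Fin (0 + 2) → ι,
      QcCech.res (Fp r G) (TCx.W_face_le (Up r U) k 0)
        (w.1 (Groth.Agent.Helper7.BC0.pi1 k)) =
      QcCech.res (Fp r G) (TCx.W_face_le (Up r U) k 1)
        (w.1 (Groth.Agent.Helper7.BC0.pi2 k)) := by
    intro k
    have h1 : Dd (Fp r G) (Up r U) 0 w.1 k = 0 := congrFun hw0 k
    rw [Dd_apply, Fin.sum_univ_two] at h1
    have h2 := (alt_sum_two _ _).symm.trans h1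
    exact sub_eq_zero.1 h2
  obtain ⟨σ, hσ⟩ := Groth.Agent.Helper7.BC0.sec_glue (Fp r G) (⊤ : X'.Opens)
    (fun a : Fin (0 + 1) → ι => TCx.W (Up r U) a) (fun k : Fin (0 + 2) → ι => TCx.W (Up r U) k)
    Groth.Agent.Helper7.BC0.pi1 Groth.Agent.Helper7.BC0.pi2 (fun a => le_top)
    (fun k => TCx.W_face_le (Up r U) k 0) (fun k => TCx.W_face_le (Up r U) k 1)
    hcovA hcovB w.1 hc
  obtain ⟨t, ht1, ht2⟩ := key σ
  have hwt : w = t := Subtype.ext (funext fun a => (hσ a).symm.trans (ht1 a).symm)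
  rw [hwt]
  exact ht2

end Zero

section Unit

/-- the units of a composite, with restrictions -/
theorem pullbackComp_unitRes {P Q R : Scheme.{u}} (f : P ⟶ Q) (g : Q ⟶ R) (G : R.Modules)
    {O : R.Opens} {OB : Q.Opens} {OA : P.Opens} (eB : OB ≤ g ⁻¹ᵁ O) (eA : OA ≤ f ⁻¹ᵁ OB)
    (hO : OA ≤ (f ≫ g) ⁻¹ᵁ O) (m : Γ(G, O)) :
    ((pullbackComp f g).hom.app G).app OA
        (unitRes f ((Scheme.Modules.pullback g).obj G) eA (unitRes g G eB m)) =
      unitRes (f ≫ g) G hO m := by
  unfold unitRes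
  have h1 := app_res ((pullbackPushforwardAdjunction f).unit.app ((Scheme.Modules.pullback g).obj G))
    eB (((pullbackPushforwardAdjunction g).unit.app G).app O m)
  have h2 : res ((Scheme.Modules.pullback f).obj ((Scheme.Modules.pullback g).obj G)) eA
      (((pullbackPushforwardAdjunction f).unit.app ((Scheme.Modules.pullback g).obj G)).app OB
        (res ((Scheme.Modules.pullback g).obj G) eB
          (((pullbackPushforwardAdjunction g).unit.app G).app O m))) =
      res ((Scheme.Modules.pullback f).obj ((Scheme.Modules.pullback g).obj G))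
        (show OA ≤ f ⁻¹ᵁ (g ⁻¹ᵁ O) from eA.trans (f.preimage_mono eB))
        (((pullbackPushforwardAdjunction f).unit.app ((Scheme.Modules.pullback g).obj G)).app
          (g ⁻¹ᵁ O) (((pullbackPushforwardAdjunction g).unit.app G).app O m)) := by
    refine (congrArg _ h1).trans ?_
    exact res_res ((Scheme.Modules.pullback f).obj ((Scheme.Modules.pullback g).obj G))
      (f.preimage_mono eB) eA _
  rw [h2, unit_comp_apply]
  exact iso_cancel_res ((pullbackComp f g).app G) hO _

end Unit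

section XLevel

variable {X S X' S' : Scheme.{u}} (f : X ⟶ S) (g : S' ⟶ S) (g' : X' ⟶ X) (f' : X' ⟶ S')
  (h : IsPullback g' f' f g) (F : X.Modules)

/-- if the base change map is surjective on sections over an affine open, the sections of the
pulled back module over its preimage are generated by the pullbacks of sections -/
theorem mem_span_unitRes_of_surjective [((pushforward f).obj F).IsQuasicoherent]
    {V : S.Opens} {V' : S'.Opens} (hV : IsAffineOpen V) (hV' : IsAffineOpen V')
    (eV : V' ≤ g ⁻¹ᵁ V)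
    (hsurj : Function.Surjective ((bcMap f g g' f' h F).app V'))
    (n : Γ((pushforward f').obj ((Scheme.Modules.pullback g').obj F), V')) :
    n ∈ Submodule.span Γ(S', V') (Set.range (fun m : Γ((pushforward f).obj F, V) =>
      (show Γ((pushforward f').obj ((Scheme.Modules.pullback g').obj F), V') from
        unitRes g' F (preimage_le f g g' f' h eV) m))) := by
  obtain ⟨x, rfl⟩ := hsurj n
  have hx : x ∈ Submodule.span Γ(S', V')
      (Set.range (unitRes g ((pushforward f).obj F) eV)) := by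
    rw [span_of_isBC (g.appLE V V' eV).hom (isBC_unitRes g ((pushforward f).obj F) hV hV' eV)]
    exact Submodule.mem_top
  refine Submodule.span_induction
    (p := fun x _ => (bcMap f g g' f' h F).app V' x ∈
      Submodule.span Γ(S', V') (Set.range (fun m : Γ((pushforward f).obj F, V) =>
        (show Γ((pushforward f').obj ((Scheme.Modules.pullback g').obj F), V') from
          unitRes g' F (preimage_le f g g' f' h eV) m)))) ?_ ?_ ?_ ?_ hx
  · rintro _ ⟨m, rfl⟩
    exact Submodule.subset_span ⟨m, (bcMap_unitRes f g g' f' h F eV m).symm⟩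
  · rw [map_zero]
    exact zero_mem _
  · intro a b _ _ ha hb
    rw [map_add]
    exact add_mem ha hb
  · intro c a _ ha
    rw [Scheme.Modules.Hom.app_smul]
    exact Submodule.smul_mem _ c ha

end XLevel

section FibChart

variable {X S : Scheme.{u}} (f : X ⟶ S) (s : S) {V₁ : S.Opens} (hV₁ : IsAffineOpen V₁)
  (hsV₁ : s ∈ V₁)

theorem SpecMap_evaluation_fromSpec :
    Spec.map (S.evaluation V₁ s hsV₁) ≫ hV₁.fromSpec = S.fromSpecResidueField s := by
  rw [Scheme.fromSpecResidueField, ← hV₁.fromSpecStalk_eq_fromSpecStalk hsV₁,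
    IsAffineOpen.fromSpecStalk, ← Category.assoc, ← Spec.map_comp]
  rfl

/-- the fibre at a point of an affine open, as a base change of the chart over that open -/
noncomputable def fibChart : f.fiber s ⟶ (↑(f ⁻¹ᵁ V₁) : Scheme.{u}) :=
  (Groth.Agent.Lib.Helper4.ChartSq1.isPullback_chart f hV₁).lift (f.fiberι s)
    (f.fiberToSpecResidueField s ≫ Spec.map (S.evaluation V₁ s hsV₁)) (by
      rw [Category.assoc, SpecMap_evaluation_fromSpec s hV₁ hsV₁]
      exact f.fiber_fac s)

theorem fibChart_ι : fibChart f s hV₁ hsV₁ ≫ (f ⁻¹ᵁ V₁).ι = f.fiberι s :=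
  (Groth.Agent.Lib.Helper4.ChartSq1.isPullback_chart f hV₁).lift_fst _ _ _

theorem fibChart_strMap : fibChart f s hV₁ hsV₁ ≫ strMap f hV₁ =
    f.fiberToSpecResidueField s ≫ Spec.map (S.evaluation V₁ s hsV₁) :=
  (Groth.Agent.Lib.Helper4.ChartSq1.isPullback_chart f hV₁).lift_snd _ _ _

theorem isPullback_fibChart :
    IsPullback (fibChart f s hV₁ hsV₁) (f.fiberToSpecResidueField s) (strMap f hV₁)
      (Spec.map (CommRingCat.ofHom (S.evaluation V₁ s hsV₁).hom)) := by
  have h2 := Groth.Agent.Lib.Helper4.ChartSq1.isPullback_chart f hV₁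
  refine IsPullback.of_right (h₁₂ := (f ⁻¹ᵁ V₁).ι) (h₂₂ := hV₁.fromSpec) ?_ ?_ h2
  · rw [fibChart_ι]
    have e : Spec.map (CommRingCat.ofHom (S.evaluation V₁ s hsV₁).hom) ≫ hV₁.fromSpec =
        S.fromSpecResidueField s := SpecMap_evaluation_fromSpec s hV₁ hsV₁
    rw [e]
    exact IsPullback.of_hasPullback f (S.fromSpecResidueField s)
  · exact fibChart_strMap f s hV₁ hsV₁

variable (F : X.Modules)

/-- the pullback of the chart module to the fibre is the fibre module -/
noncomputable def fibChartIso :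
    (Scheme.Modules.pullback (fibChart f s hV₁ hsV₁)).obj
        ((Scheme.Modules.pullback (f ⁻¹ᵁ V₁).ι).obj F) ≅
      (Scheme.Modules.pullback (f.fiberι s)).obj F :=
  (pullbackComp (fibChart f s hV₁ hsV₁) (f ⁻¹ᵁ V₁).ι).app F ≪≫
    (pullbackCongr (fibChart_ι f s hV₁ hsV₁)).app F

theorem fibChartIso_unitRes (m : Γ(F, f ⁻¹ᵁ V₁))
    (e₁ : (⊤ : (↑(f ⁻¹ᵁ V₁) : Scheme.{u}).Opens) ≤ (f ⁻¹ᵁ V₁).ι ⁻¹ᵁ (f ⁻¹ᵁ V₁))
    (e₂ : (⊤ : (f.fiber s).Opens) ≤ (f.fiberι s) ⁻¹ᵁ (f ⁻¹ᵁ V₁)) :
    (fibChartIso f s hV₁ hsV₁ F).hom.app ⊤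
        (unitRes (fibChart f s hV₁ hsV₁) ((Scheme.Modules.pullback (f ⁻¹ᵁ V₁).ι).obj F)
          (show (⊤ : (f.fiber s).Opens) ≤
            (fibChart f s hV₁ hsV₁) ⁻¹ᵁ (⊤ : (↑(f ⁻¹ᵁ V₁) : Scheme.{u}).Opens) from le_top)
          (unitRes (f ⁻¹ᵁ V₁).ι F e₁ m)) =
      unitRes (f.fiberι s) F e₂ m := by
  have hO : (⊤ : (f.fiber s).Opens) ≤
      (fibChart f s hV₁ hsV₁ ≫ (f ⁻¹ᵁ V₁).ι) ⁻¹ᵁ (f ⁻¹ᵁ V₁) := by
    rw [fibChart_ι]
    exact e₂
  have h1 := pullbackComp_unitRes (fibChart f s hV₁ hsV₁) (f ⁻¹ᵁ V₁).ι F e₁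
    (show (⊤ : (f.fiber s).Opens) ≤
      (fibChart f s hV₁ hsV₁) ⁻¹ᵁ (⊤ : (↑(f ⁻¹ᵁ V₁) : Scheme.{u}).Opens) from le_top) hO m
  have h2 := congr_unit_res (fibChart_ι f s hV₁ hsV₁) F (f ⁻¹ᵁ V₁) hO e₂ m
  exact (congrArg (fun y => ((pullbackCongr (fibChart_ι f s hV₁ hsV₁)).hom.app F).app ⊤ y)
    h1).trans h2

variable [QuasiCompact f] [QuasiSeparated f] [F.IsQuasicoherent]

/-- **from an epimorphic degree-zero base change map of the fibre square to generation of the
global sections on the fibre by the sections over the chart** -/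
theorem span_sections_fibChart
    (hepi : Epi (CohBC.bc0 f (S.fromSpecResidueField s) (f.fiberToSpecResidueField s)
      (f.fiberι s) (f.fiber_fac s) F)) :
    letI : (f.fiber s).Over (Spec (CommRingCat.of (S.residueField s))) :=
      ⟨f.fiberToSpecResidueField s⟩
    Submodule.span (S.residueField s) (Set.range
      (fun m : Γ((Scheme.Modules.pullback (f ⁻¹ᵁ V₁).ι).obj F,
          (⊤ : (↑(f ⁻¹ᵁ V₁) : Scheme.{u}).Opens)) =>
        uAdd (fibChart f s hV₁ hsV₁) ((Scheme.Modules.pullback (f ⁻¹ᵁ V₁).ι).obj F)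
          (le_top : (⊤ : (f.fiber s).Opens) ≤ (fibChart f s hV₁ hsV₁) ⁻¹ᵁ ⊤) m)) = ⊤ := by
  letI ovs : (f.fiber s).Over (Spec (CommRingCat.of (S.residueField s))) :=
    ⟨f.fiberToSpecResidueField s⟩
  have h : IsPullback (f.fiberι s) (f.fiberToSpecResidueField s) f (S.fromSpecResidueField s) :=
    IsPullback.of_hasPullback f (S.fromSpecResidueField s)
  haveI : ((pushforward f).obj F).IsQuasicoherent :=
    Groth.Agent.Helper1.PushQc.isQuasicoherent_pushforward f F
  haveI : Subsingleton ↥(Spec (S.residueField s)) :=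
    show Subsingleton (PrimeSpectrum (S.residueField s)) from inferInstance
  haveI : Nonempty ↥(Spec (S.residueField s)) :=
    show Nonempty (PrimeSpectrum (S.residueField s)) from inferInstance
  have hV' : IsAffineOpen (⊤ : (Spec (S.residueField s)).Opens) :=
    isAffineOpen_top (Spec (S.residueField s))
  have e : (⊤ : (Spec (S.residueField s)).Opens) ≤ (S.fromSpecResidueField s) ⁻¹ᵁ V₁ := by
    intro z _
    change S.fromSpecResidueField s z ∈ V₁
    rw [Scheme.fromSpecResidueField_apply]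
    exact hsV₁
  haveI := hepi
  have hsurj : Function.Surjective ((bcMap f (S.fromSpecResidueField s) (f.fiberι s)
      (f.fiberToSpecResidueField s) h F).app ⊤) := by
    have h1 := Groth.Agent.Lib.Helper5.OnePoint.surjective_of_epi (Spec (S.residueField s))
      (CohBC.bc0 f (S.fromSpecResidueField s) (f.fiberToSpecResidueField s)
        (f.fiberι s) (f.fiber_fac s) F)
    intro n
    obtain ⟨x, hx⟩ := h1 n
    exact ⟨x, hx⟩
  have hle : (⊤ : (f.fiber s).Opens) ≤ (f.fiberToSpecResidueField s) ⁻¹ᵁ ⊤ := fun _ _ => trivial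
  have e₁ : (⊤ : (↑(f ⁻¹ᵁ V₁) : Scheme.{u}).Opens) ≤ (f ⁻¹ᵁ V₁).ι ⁻¹ᵁ (f ⁻¹ᵁ V₁) :=
    fun x _ => x.2
  have e'' := preimage_le f (S.fromSpecResidueField s) (f.fiberι s)
    (f.fiberToSpecResidueField s) h e
  have e₂ : (⊤ : (f.fiber s).Opens) ≤ (f.fiberι s) ⁻¹ᵁ (f ⁻¹ᵁ V₁) := hle.trans e''
  have hinv : ∀ y : Γ((Scheme.Modules.pullback (fibChart f s hV₁ hsV₁)).obj
      ((Scheme.Modules.pullback (f ⁻¹ᵁ V₁).ι).obj F), (⊤ : (f.fiber s).Opens)),
      (fibChartIso f s hV₁ hsV₁ F).inv.app ⊤ ((fibChartIso f s hV₁ hsV₁ F).hom.app ⊤ y) = y :=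
    fun y => congrArg (fun ψ => (Hom.app ψ ⊤) y) (fibChartIso f s hV₁ hsV₁ F).hom_inv_id
  have key : ∀ n ∈ Submodule.span Γ(Spec (S.residueField s), ⊤)
      (Set.range (fun m : Γ((pushforward f).obj F, V₁) =>
        (show Γ((pushforward (f.fiberToSpecResidueField s)).obj
            ((Scheme.Modules.pullback (f.fiberι s)).obj F), ⊤) from
          unitRes (f.fiberι s) F e'' m))),
      (fibChartIso f s hV₁ hsV₁ F).inv.app ⊤
        (res ((Scheme.Modules.pullback (f.fiberι s)).obj F) hle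
          (show Γ((Scheme.Modules.pullback (f.fiberι s)).obj F,
            (f.fiberToSpecResidueField s) ⁻¹ᵁ ⊤) from n)) ∈
      Submodule.span (S.residueField s) (Set.range
        (fun m : Γ((Scheme.Modules.pullback (f ⁻¹ᵁ V₁).ι).obj F,
            (⊤ : (↑(f ⁻¹ᵁ V₁) : Scheme.{u}).Opens)) =>
          uAdd (fibChart f s hV₁ hsV₁) ((Scheme.Modules.pullback (f ⁻¹ᵁ V₁).ι).obj F)
            (le_top : (⊤ : (f.fiber s).Opens) ≤ (fibChart f s hV₁ hsV₁) ⁻¹ᵁ ⊤) m)) := by
    intro n hn
    refine Submodule.span_induction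
      (p := fun (n : Γ((pushforward (f.fiberToSpecResidueField s)).obj
          ((Scheme.Modules.pullback (f.fiberι s)).obj F), ⊤)) _ =>
        (fibChartIso f s hV₁ hsV₁ F).inv.app ⊤
        (res ((Scheme.Modules.pullback (f.fiberι s)).obj F) hle
          (show Γ((Scheme.Modules.pullback (f.fiberι s)).obj F,
            (f.fiberToSpecResidueField s) ⁻¹ᵁ ⊤) from n)) ∈
        Submodule.span (S.residueField s) (Set.range
          (fun m : Γ((Scheme.Modules.pullback (f ⁻¹ᵁ V₁).ι).obj F,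
              (⊤ : (↑(f ⁻¹ᵁ V₁) : Scheme.{u}).Opens)) =>
            uAdd (fibChart f s hV₁ hsV₁) ((Scheme.Modules.pullback (f ⁻¹ᵁ V₁).ι).obj F)
              (le_top : (⊤ : (f.fiber s).Opens) ≤ (fibChart f s hV₁ hsV₁) ⁻¹ᵁ ⊤) m)))
      ?_ ?_ ?_ ?_ hn
    · rintro _ ⟨m, rfl⟩
      have h3 : res ((Scheme.Modules.pullback (f.fiberι s)).obj F) hle
          (unitRes (f.fiberι s) F e'' m) = unitRes (f.fiberι s) F e₂ m :=
        res_res ((Scheme.Modules.pullback (f.fiberι s)).obj F) e'' hle _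
      have h4 := fibChartIso_unitRes f s hV₁ hsV₁ F m e₁ e₂
      have h5 : (fibChartIso f s hV₁ hsV₁ F).inv.app ⊤
          (res ((Scheme.Modules.pullback (f.fiberι s)).obj F) hle
            (unitRes (f.fiberι s) F e'' m)) =
          unitRes (fibChart f s hV₁ hsV₁) ((Scheme.Modules.pullback (f ⁻¹ᵁ V₁).ι).obj F)
            (show (⊤ : (f.fiber s).Opens) ≤
              (fibChart f s hV₁ hsV₁) ⁻¹ᵁ (⊤ : (↑(f ⁻¹ᵁ V₁) : Scheme.{u}).Opens) from le_top)
            (unitRes (f ⁻¹ᵁ V₁).ι F e₁ m) := by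
        rw [h3, ← h4]
        exact hinv _
      refine (congrArg (fun y => y ∈ _) h5).mpr ?_
      exact Submodule.subset_span ⟨unitRes (f ⁻¹ᵁ V₁).ι F e₁ m, rfl⟩
    · have h0 : (fibChartIso f s hV₁ hsV₁ F).inv.app ⊤
          (res ((Scheme.Modules.pullback (f.fiberι s)).obj F) hle 0) = 0 := by
        have e1 : res ((Scheme.Modules.pullback (f.fiberι s)).obj F) hle
            (0 : Γ((Scheme.Modules.pullback (f.fiberι s)).obj F,
              (f.fiberToSpecResidueField s) ⁻¹ᵁ ⊤)) = 0 :=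
          map_zero (((Scheme.Modules.pullback (f.fiberι s)).obj F).presheaf.map
            (homOfLE hle).op).hom
        rw [e1, map_zero]
      exact (congrArg (fun y => y ∈ _) h0).mpr (zero_mem _)
    · intro a b _ _ ha hb
      have h0 : (fibChartIso f s hV₁ hsV₁ F).inv.app ⊤
          (res ((Scheme.Modules.pullback (f.fiberι s)).obj F) hle
            (show Γ((Scheme.Modules.pullback (f.fiberι s)).obj F,
              (f.fiberToSpecResidueField s) ⁻¹ᵁ ⊤) from a + b)) =
          (fibChartIso f s hV₁ hsV₁ F).inv.app ⊤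
            (res ((Scheme.Modules.pullback (f.fiberι s)).obj F) hle
              (show Γ((Scheme.Modules.pullback (f.fiberι s)).obj F,
                (f.fiberToSpecResidueField s) ⁻¹ᵁ ⊤) from a)) +
          (fibChartIso f s hV₁ hsV₁ F).inv.app ⊤
            (res ((Scheme.Modules.pullback (f.fiberι s)).obj F) hle
              (show Γ((Scheme.Modules.pullback (f.fiberι s)).obj F,
                (f.fiberToSpecResidueField s) ⁻¹ᵁ ⊤) from b)) := by
        refine (congrArg _ (res_add ((Scheme.Modules.pullback (f.fiberι s)).obj F) hle _ _)).trans ?_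
        exact map_add _ _ _
      exact (congrArg (fun y => y ∈ _) h0).mpr (add_mem ha hb)
    · intro c a _ ha
      have h0 : (show Γ((Scheme.Modules.pullback (f.fiberι s)).obj F,
            (f.fiberToSpecResidueField s) ⁻¹ᵁ ⊤) from
            (c • a : Γ((pushforward (f.fiberToSpecResidueField s)).obj
              ((Scheme.Modules.pullback (f.fiberι s)).obj F), ⊤))) =
          (((f.fiberToSpecResidueField s).app ⊤).hom c :
            Γ(f.fiber s, (f.fiberToSpecResidueField s) ⁻¹ᵁ ⊤)) •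
          (show Γ((Scheme.Modules.pullback (f.fiberι s)).obj F,
            (f.fiberToSpecResidueField s) ⁻¹ᵁ ⊤) from a) := rfl
      have h3 : (Scheme.ΓSpecIso (S.residueField s)).inv.hom
          ((Scheme.ΓSpecIso (S.residueField s)).hom.hom c) = c :=
        congrArg (fun ψ => ψ.hom c) (Scheme.ΓSpecIso (S.residueField s)).hom_inv_id
      have h1 : (fibChartIso f s hV₁ hsV₁ F).inv.app ⊤
          (res ((Scheme.Modules.pullback (f.fiberι s)).obj F) hle
            (show Γ((Scheme.Modules.pullback (f.fiberι s)).obj F,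
              (f.fiberToSpecResidueField s) ⁻¹ᵁ ⊤) from
              (c • a : Γ((pushforward (f.fiberToSpecResidueField s)).obj
                ((Scheme.Modules.pullback (f.fiberι s)).obj F), ⊤)))) =
          ((Scheme.ΓSpecIso (S.residueField s)).hom.hom c) •
            (fibChartIso f s hV₁ hsV₁ F).inv.app ⊤
              (res ((Scheme.Modules.pullback (f.fiberι s)).obj F) hle
                (show Γ((Scheme.Modules.pullback (f.fiberι s)).obj F,
                  (f.fiberToSpecResidueField s) ⁻¹ᵁ ⊤) from a)) := by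
        refine (congrArg (fun y => (fibChartIso f s hV₁ hsV₁ F).inv.app ⊤
          (res ((Scheme.Modules.pullback (f.fiberι s)).obj F) hle y)) h0).trans ?_
        refine (congrArg ((fibChartIso f s hV₁ hsV₁ F).inv.app ⊤)
          (res_smul' ((Scheme.Modules.pullback (f.fiberι s)).obj F) hle _ _)).trans ?_
        refine (Scheme.Modules.Hom.app_smul (fibChartIso f s hV₁ hsV₁ F).inv _ _).trans ?_
        rw [secMod_smul]
        congr 1
        change _ = ((f.fiberToSpecResidueField s).appLE ⊤ ⊤ le_top).hom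
          ((Scheme.ΓSpecIso (S.residueField s)).inv.hom
            ((Scheme.ΓSpecIso (S.residueField s)).hom.hom c))
        rw [h3]
        rfl
      exact (congrArg (fun y => y ∈ _) h1).mpr (Submodule.smul_mem _ _ ha)
  rw [eq_top_iff]
  intro σ _
  have hn := mem_span_unitRes_of_surjective f (S.fromSpecResidueField s) (f.fiberι s)
    (f.fiberToSpecResidueField s) h F hV₁ hV' e hsurj
    (show Γ((pushforward (f.fiberToSpecResidueField s)).obj
        ((Scheme.Modules.pullback (f.fiberι s)).obj F), ⊤) from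
      res ((Scheme.Modules.pullback (f.fiberι s)).obj F)
        (le_top : (f.fiberToSpecResidueField s) ⁻¹ᵁ ⊤ ≤ ⊤)
        ((fibChartIso f s hV₁ hsV₁ F).hom.app ⊤ σ))
  have h6 := key _ hn
  have h7 : (fibChartIso f s hV₁ hsV₁ F).inv.app ⊤
      (res ((Scheme.Modules.pullback (f.fiberι s)).obj F) hle
        (res ((Scheme.Modules.pullback (f.fiberι s)).obj F)
          (le_top : (f.fiberToSpecResidueField s) ⁻¹ᵁ ⊤ ≤ ⊤)
          ((fibChartIso f s hV₁ hsV₁ F).hom.app ⊤ σ))) = σ := by
    rw [res_res]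
    refine Eq.trans ?_ (hinv σ)
    congr 1
    exact Groth.Agent.Helper1.QcCech.res_self _ _ _
  exact (congrArg (fun y => y ∈ _) h7).mp h6

end FibChart

end Groth.Agent.Helper7.GenBC
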