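import Mathlib
import Groth.Prelude.Def_CohCmp
import Groth.Agent.Lib.Helper7.GenBC.EpiZero

set_option linter.style.haveILetI false
set_option linter.unusedVariables false
set_option linter.unusedSectionVars false
set_option autoImplicit false
set_option backward.isDefEq.respectTransparency.types false
set_option backward.isDefEq.respectTransparency false
set_option synthInstance.maxHeartbeats 400000
set_option maxHeartbeats 1600000

universe u

/-! helper7: cohomology and base change in degree zero from an epimorphic degree-zero base change map of the fibre square: exchange property near the point, finite local freeness of the direct image and of the first higher direct image, base change isomorphisms -/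

open CategoryTheory CategoryTheory.Limits Opposite TopologicalSpace AlgebraicGeometry
open AlgebraicGeometry.Scheme.Modules TensorProduct
open Groth.Agent.Helper1
open Groth.Agent.Helper1.RpushLoc
open Groth.Agent.Helper3
open Groth.Agent.Lib.Helper4.BaseChgRing1
open Groth.Agent.Lib.Helper4.TenSec2
open Groth.Agent.Lib.Helper4.LocCech1
open Groth.Agent.Lib.Helper4.CechTen1
open Groth.Agent.Lib.Helper4.ExchAlg1
open Groth.Agent.Lib.Helper4.ExchAlg2
open Groth.Agent.Lib.Helper4.TruncAlg1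
open Groth.Agent.Lead.BCU

namespace Groth.Agent.Helper7.GenBC

attribute [local instance] secMod

namespace NModel

variable {A : Type u} [CommRing A] {X : Scheme.{u}} {f : X ⟶ Spec (CommRingCat.of A)}
  {F : X.Modules} (M : NModel A f F)

/-- below degree zero the cokernels of the base changed complex are flat -/
theorem flat_Wq_neg {B : Type u} [CommRing B] (ψ : A →+* B) :
    letI : Algebra M.A₀ B := (ψ.comp M.j).toAlgebra
    Module.Flat B (Wq (bcK (B := B) M.D.K) (((0 : ℕ) : ℤ) - 1) ((0 : ℕ) : ℤ)) := by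
  letI : Algebra M.A₀ B := (ψ.comp M.j).toAlgebra
  haveI : M.F₀.IsQuasicoherent := M.hcoh.1
  haveI : Module.Finite M.A₀ (M.D.K.X ((0 : ℕ) : ℤ)) := (M.D.hff _).1
  haveI : Module.Free M.A₀ (M.D.K.X ((0 : ℕ) : ℤ)) := (M.D.hff _).2
  haveI : Module.Projective M.A₀ (Wq M.D.K (((0 : ℕ) : ℤ) - 1) ((0 : ℕ) : ℤ)) :=
    projective_Wq_of_uvan M.D.K (((0 : ℕ) : ℤ) - 2) (((0 : ℕ) : ℤ) - 1) ((0 : ℕ) : ℤ)
      (by ring) (by ring) (M.D.hneg _ (by norm_num))
  haveI : Module.Flat B (B ⊗[M.A₀] Wq M.D.K (((0 : ℕ) : ℤ) - 1) ((0 : ℕ) : ℤ)) :=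
    inferInstance
  exact Module.Flat.of_linearEquiv (wEquiv (B := B) M.D.K _ _)

end NModel

section Main

variable {X S : Scheme.{u}} (f : X ⟶ S) [IsProper f] [LocallyOfFinitePresentation f] (s : S)
  (F : X.Modules) [F.IsQuasicoherent] (hfp : CohB1.IsFP F) (hfl : FlatMod.IsFlatOver f F)

/-- **the exchange property of the model complex in degree zero near a point** where the
degree-zero base change map of the fibre square is an epimorphism -/
theorem exists_unit_presSurj_zero_of_epi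
    (hepi : Epi (CohBC.bc0 f (S.fromSpecResidueField s) (f.fiberToSpecResidueField s)
      (f.fiberι s) (f.fiber_fac s) F))
    {V₁ : S.Opens} (hV₁ : IsAffineOpen V₁) (hsV₁ : s ∈ V₁)
    (M : NModel Γ(S, V₁) (strMap f hV₁) ((Scheme.Modules.pullback (f ⁻¹ᵁ V₁).ι).obj F)) :
    ∃ g₀ : Γ(S, V₁), s ∈ S.basicOpen g₀ ∧
      ∀ (B : Type u) [CommRing B] (ψ : Γ(S, V₁) →+* B), IsUnit (ψ g₀) →
        letI : Algebra M.A₀ B := (ψ.comp M.j).toAlgebra
        PresSurj (bcK (B := B) M.D.K) ((0 : ℕ) : ℤ) := by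
  have hsq := Groth.Agent.Lib.Helper4.ChartSq1.isPullback_chart f hV₁
  haveI : IsProper (strMap f hV₁) :=
    MorphismProperty.of_isPullback (P := @IsProper) hsq inferInstance
  haveI : ((Scheme.Modules.pullback (f ⁻¹ᵁ V₁).ι).obj F).IsQuasicoherent :=
    Groth.Agent.Lead.PB.isQuasicoherent_pullback _ _
  letI ov : (↑(f ⁻¹ᵁ V₁) : Scheme.{u}).Over (Spec (CommRingCat.of Γ(S, V₁))) :=
    ⟨strMap f hV₁⟩
  letI ovs : (f.fiber s).Over (Spec (CommRingCat.of (S.residueField s))) :=
    ⟨f.fiberToSpecResidueField s⟩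
  haveI : CompactSpace ↥(↑(f ⁻¹ᵁ V₁) : Scheme.{u}) :=
    QuasiCompact.compactSpace_of_compactSpace (strMap f hV₁)
  obtain ⟨ι, hfin, U, hcov, haff⟩ :=
    Groth.Agent.Lib.Helper4.SepCover1.exists_cover (strMap f hV₁)
  haveI := hfin
  have hsqk := isPullback_fibChart f s hV₁ hsV₁
  have hsec := span_sections_fibChart f s hV₁ hsV₁ F hepi
  have hspan := span_pullMod_zero_of_sections (S.evaluation V₁ s hsV₁).hom
    (fibChart f s hV₁ hsV₁) ((Scheme.Modules.pullback (f ⁻¹ᵁ V₁).ι).obj F) U hsqk haff hcov hsec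
  obtain ⟨g₀, hg₀, hPS⟩ := M.exists_unit_presSurj_of_span 0
    (Field.toIsField (S.residueField s)) (S.evaluation V₁ s hsV₁).hom
    (f.fiberToSpecResidueField s) (fibChart f s hV₁ hsV₁) hsqk hspan
  exact ⟨g₀, (S.evaluation_ne_zero_iff_mem_basicOpen s hsV₁ g₀).1 hg₀, hPS⟩

/-- **the exchange property of the model complex in degree `p` near a point** where the
cohomology of the fibre in degree `p` vanishes -/
theorem exists_unit_presSurj_of_fiberH_subsingleton (p : ℕ)
    (hv : Subsingleton (CohIII.fiberH f F s p))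
    {V₁ : S.Opens} (hV₁ : IsAffineOpen V₁) (hsV₁ : s ∈ V₁)
    (M : NModel Γ(S, V₁) (strMap f hV₁) ((Scheme.Modules.pullback (f ⁻¹ᵁ V₁).ι).obj F)) :
    ∃ g₀ : Γ(S, V₁), s ∈ S.basicOpen g₀ ∧
      ∀ (B : Type u) [CommRing B] (ψ : Γ(S, V₁) →+* B), IsUnit (ψ g₀) →
        letI : Algebra M.A₀ B := (ψ.comp M.j).toAlgebra
        PresSurj (bcK (B := B) M.D.K) (p : ℤ) := by
  letI ov : (↑(f ⁻¹ᵁ V₁) : Scheme.{u}).Over (Spec (CommRingCat.of Γ(S, V₁))) :=
    ⟨strMap f hV₁⟩
  letI ovs : (f.fiber s).Over (Spec (CommRingCat.of (S.residueField s))) :=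
    ⟨f.fiberToSpecResidueField s⟩
  have hsqk := isPullback_fibChart f s hV₁ hsV₁
  haveI : Subsingleton (Coh.HH (f.fiber s)
      ((Scheme.Modules.pullback (fibChart f s hV₁ hsV₁)).obj
        ((Scheme.Modules.pullback (f ⁻¹ᵁ V₁).ι).obj F)) p) := by
    haveI : Subsingleton (Coh.HH (f.fiber s)
        ((Scheme.Modules.pullback (f.fiberι s)).obj F) p) := hv
    exact (Groth.Agent.Helper3.FlatTen.HHcongr (S.residueField s)
      (fibChartIso f s hV₁ hsV₁ F) p).injective.subsingleton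
  have hspan : Submodule.span (S.residueField s) (Set.range (CohPull.pullMod
      (fibChart f s hV₁ hsV₁) ((Scheme.Modules.pullback (f ⁻¹ᵁ V₁).ι).obj F) p)) = ⊤ := by
    rw [eq_top_iff]
    intro x _
    rw [Subsingleton.elim x 0]
    exact zero_mem _
  obtain ⟨g₀, hg₀, hPS⟩ := M.exists_unit_presSurj_of_span p
    (Field.toIsField (S.residueField s)) (S.evaluation V₁ s hsV₁).hom
    (f.fiberToSpecResidueField s) (fibChart f s hV₁ hsV₁) hsqk hspan
  exact ⟨g₀, (S.evaluation_ne_zero_iff_mem_basicOpen s hsV₁ g₀).1 hg₀, hPS⟩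

include hfp hfl in
/-- **cohomology and base change in degree zero from an epimorphic fibre base change map**: the
point has an open neighbourhood over which the direct image is finite locally free and whose
base changes have isomorphic degree-zero base change maps -/
theorem exists_nhd_of_epi_bc0
    (hepi : Epi (CohBC.bc0 f (S.fromSpecResidueField s) (f.fiberToSpecResidueField s)
      (f.fiberι s) (f.fiber_fac s) F)) :
    ∃ U : S.Opens, s ∈ U ∧
      FlatMod.IsFinLocFree (((Scheme.Modules.pushforward f).obj F).restrict U.ι) ∧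
      ∀ {X' S' : Scheme.{u}} (g : S' ⟶ S) (g' : X' ⟶ X) (f' : X' ⟶ S')
        (h : IsPullback g' f' f g), (∀ x : S', g x ∈ U) →
        IsIso (CohBC.bc0 f g f' g' h.w F) := by
  obtain ⟨V₁, hV₁, hsV₁, ⟨M⟩⟩ := exists_chart_nmodel f s F hfp hfl
  obtain ⟨g₀, hs₀, hP⟩ := exists_unit_presSurj_zero_of_epi f s F hepi hV₁ hsV₁ M
  refine ⟨S.basicOpen g₀, hs₀, ?_, ?_⟩
  · haveI : ((Scheme.Modules.pushforward f).obj F).IsQuasicoherent :=
      Groth.Agent.Helper1.PushQc.isQuasicoherent_pushforward f F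
    apply Groth.Agent.Helper7.CohBC.isFinLocFree_restrict_of_affine
    intro W hW hle
    have hleW : W ≤ V₁ := hle.trans (S.basicOpen_le g₀)
    have hu := isUnit_res_of_le_basicOpen g₀ hle hleW
    have hPS := hP Γ(S, W) (S.presheaf.map (homOfLE hleW).op).hom hu
    have hF2 := (M.presSurj_iff_flat_Wq (S.presheaf.map (homOfLE hleW).op).hom
      ((0 : ℕ) : ℤ)).1 hPS
    have hF1 := M.flat_Wq_neg (S.presheaf.map (homOfLE hleW).op).hom
    have hs := isPullback_strMap f hV₁ hW hleW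
    letI : (↑(f ⁻¹ᵁ W) : Scheme.{u}).Over (Spec (CommRingCat.of Γ(S, W))) := ⟨strMap f hW⟩
    obtain ⟨k1, k2⟩ := M.finite_projective_HH_of_flat (S.presheaf.map (homOfLE hleW).op).hom
      (strMap f hW) (X.homOfLE (f.preimage_mono hleW)) hs 0 hF1 hF2
    let e : (Scheme.Modules.pullback (X.homOfLE (f.preimage_mono hleW))).obj
        ((Scheme.Modules.pullback (f ⁻¹ᵁ V₁).ι).obj F) ≅ F.restrict (f ⁻¹ᵁ W).ι :=
      (Groth.Agent.Helper7.ConsMod.pullbackFacIso (X.homOfLE_ι (f.preimage_mono hleW)) F).symm ≪≫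
        (Scheme.Modules.restrictFunctorIsoPullback _).symm.app F
    have e' := Groth.Agent.Helper3.FlatTen.HHcongr Γ(S, W) e 0
    have e2 := Groth.Agent.Helper1.VAc.hh0Equiv Γ(S, W) (↑(f ⁻¹ᵁ W) : Scheme.{u})
      (F.restrict (f ⁻¹ᵁ W).ι)
    have e3 := Groth.Agent.Helper7.BC0.topEquiv f hW rfl F
    haveI := k1
    haveI := k2
    exact ⟨Module.Finite.equiv ((e'.trans e2).trans e3),
      Module.Projective.of_equiv ((e'.trans e2).trans e3)⟩
  · intro X' S' g g' f' h hx
    apply Groth.Agent.Helper7.BC0.isIso_bc0_of_local f g g' f' h F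
    intro x
    have hW : IsAffineOpen (S.basicOpen g₀) := hV₁.basicOpen g₀
    refine ⟨S.basicOpen g₀, hW, hx x, fun V' hV' => ?_⟩
    have hleW : S.basicOpen g₀ ≤ V₁ := S.basicOpen_le g₀
    have hs := isPullback_strMap f hV₁ hW hleW
    have hu : IsUnit ((S.presheaf.map (homOfLE hleW).op).hom g₀) :=
      S.toRingedSpace.isUnit_res_basicOpen g₀
    letI : (↑(f ⁻¹ᵁ S.basicOpen g₀) : Scheme.{u}).Over
        (Spec (CommRingCat.of Γ(S, S.basicOpen g₀))) := ⟨strMap f hW⟩
    let e₀ : (Scheme.Modules.pullback (X.homOfLE (f.preimage_mono hleW))).obj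
        ((Scheme.Modules.pullback (f ⁻¹ᵁ V₁).ι).obj F) ≅ F.restrict (f ⁻¹ᵁ S.basicOpen g₀).ι :=
      (Groth.Agent.Helper7.ConsMod.pullbackFacIso (X.homOfLE_ι (f.preimage_mono hleW)) F).symm ≪≫
        (Scheme.Modules.restrictFunctorIsoPullback _).symm.app F
    obtain ⟨ι₀, hfin, U', hcovU, haffU, hflW⟩ := M.flatW_of_presSurj
      (S.presheaf.map (homOfLE hleW).op).hom (strMap f hW)
      (X.homOfLE (f.preimage_mono hleW)) hs 0
      (hP Γ(S, S.basicOpen g₀) (S.presheaf.map (homOfLE hleW).op).hom hu)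
      (F.restrict (f ⁻¹ᵁ S.basicOpen g₀).ι) e₀
    haveI := hfin
    haveI : (F.restrict (f ⁻¹ᵁ S.basicOpen g₀).ι).IsQuasicoherent := inferInstance
    have hflr : FlatMod.IsFlatOver (strMap f hW) (F.restrict (f ⁻¹ᵁ S.basicOpen g₀).ι) :=
      Groth.Agent.Lib.Helper4.ChartSq1.isFlatOver_restrict f hW F hfl
    exact Groth.Agent.Helper7.BC0.bijAt_of_flatW f hW rfl F U' g g' f' h hcovU haffU
      (Groth.Agent.Helper7.BC0.flat_Co Γ(S, S.basicOpen g₀)
        (F.restrict (f ⁻¹ᵁ S.basicOpen g₀).ι) U' hflr haffU 0)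
      (Groth.Agent.Helper7.BC0.flat_Co Γ(S, S.basicOpen g₀)
        (F.restrict (f ⁻¹ᵁ S.basicOpen g₀).ι) U' hflr haffU 1) hflW V' hV'

include hfp hfl in
/-- vanishing of the cohomology of the fibre in degree two and an epimorphic degree-zero base
change map of the fibre square make the first higher direct image finite locally free near the
point -/
theorem exists_nhd_finLocFree_one_of_epi_bc0 [HasInjectiveResolutions X.Modules]
    (h2 : Subsingleton (CohIII.fiberH f F s 2))
    (hepi : Epi (CohBC.bc0 f (S.fromSpecResidueField s) (f.fiberToSpecResidueField s)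
      (f.fiberι s) (f.fiber_fac s) F)) :
    ∃ V : S.Opens, s ∈ V ∧
      FlatMod.IsFinLocFree (((Coh.Rpush f 1).obj F).restrict V.ι) := by
  obtain ⟨V₁, hV₁, hsV₁, ⟨M⟩⟩ := exists_chart_nmodel f s F hfp hfl
  obtain ⟨g₁, hs₁, hP₁⟩ := exists_unit_presSurj_zero_of_epi f s F hepi hV₁ hsV₁ M
  obtain ⟨g₂, hs₂, hP₂⟩ := exists_unit_presSurj_of_fiberH_subsingleton f s F 2 h2 hV₁ hsV₁ M
  obtain ⟨Va, hVa, hsa, ha⟩ :=
    Groth.Agent.Helper7.CohBC.exists_affine_nhd_sections_subsingleton f F hfp hfl 2 s h2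
  refine ⟨S.basicOpen g₁ ⊓ S.basicOpen g₂ ⊓ Va, ⟨⟨hs₁, hs₂⟩, hsa⟩, ?_⟩
  haveI : ((Coh.Rpush f 1).obj F).IsQuasicoherent :=
    Groth.Agent.Lib.Helper5.RpushClassic.isQuasicoherent_rpush f F 1
  apply Groth.Agent.Helper7.CohBC.isFinLocFree_restrict_of_affine
  intro W hW hle
  have hle₁ : W ≤ S.basicOpen g₁ := hle.trans (inf_le_left.trans inf_le_left)
  have hle₂ : W ≤ S.basicOpen g₂ := hle.trans (inf_le_left.trans inf_le_right)
  have hleW : W ≤ V₁ := hle₁.trans (S.basicOpen_le g₁)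
  have hu₁ := isUnit_res_of_le_basicOpen g₁ hle₁ hleW
  have hu₂ := isUnit_res_of_le_basicOpen g₂ hle₂ hleW
  have hPS₁ := hP₁ Γ(S, W) (S.presheaf.map (homOfLE hleW).op).hom hu₁
  have hPS₂ := hP₂ Γ(S, W) (S.presheaf.map (homOfLE hleW).op).hom hu₂
  have hF0 := (M.presSurj_iff_flat_Wq (S.presheaf.map (homOfLE hleW).op).hom
    ((0 : ℕ) : ℤ)).1 hPS₁
  have hF2 := (M.presSurj_iff_flat_Wq (S.presheaf.map (homOfLE hleW).op).hom
    ((2 : ℕ) : ℤ)).1 hPS₂
  haveI := ha W hW (hle.trans inf_le_right)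
  have hproj : Module.Projective Γ(S, W) Γ((Coh.Rpush f 2).obj F, W) :=
    Module.Projective.of_free
  have hF1 := flat_Wq_of_projective_sections f F hV₁ M hW hleW 2 hF2 hproj
  exact finite_projective_sections_of_flat f F hV₁ M hW hleW 1
    (flat_Wq_congr _ (by omega) (by omega) hF0) (flat_Wq_congr _ (by omega) (by omega) hF1)

end Main

end Groth.Agent.Helper7.GenBC
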