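import Mathlib
import Groth.Agent.Lib.Lead.BCU1
import Groth.Agent.Lib.Lead.LimZ2

set_option linter.style.haveILetI false
set_option linter.unusedVariables false
set_option linter.unusedSectionVars false
set_option autoImplicit false
set_option backward.isDefEq.respectTransparency.types false
set_option backward.isDefEq.respectTransparency false
set_option synthInstance.maxHeartbeats 400000
set_option maxHeartbeats 1600000

universe u

/-! helper7: a finite projective module is freely generated by an element as soon as all its residue fibres are (fibrewise Nakayama criterion in unbundled base change form) -/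

open TensorProduct
open Groth.Agent.Lead.BCU

namespace Groth.Agent.Helper7.GenBC

section Alg

/-- a module with a nonzero fibre over the residue field of a prime has a nonzero fibre over any
nontrivial ring receiving the residue field -/
theorem nontrivial_tensor_of_residueField {A : Type u} [CommRing A] (p : Ideal A) [p.IsPrime]
    (K : Type u) [CommRing K] [Nontrivial K] [Algebra A K]
    (h0 : ∀ a ∈ p, algebraMap A K a = 0) (h1 : ∀ a, a ∉ p → IsUnit (algebraMap A K a))
    (C : Type u) [AddCommGroup C] [Module A C]
    (hC : Nontrivial (p.ResidueField ⊗[A] C)) : Nontrivial (K ⊗[A] C) := by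
  let ψ : p.ResidueField →+* K := Ideal.ResidueField.lift p (algebraMap A K)
    (fun a ha => (RingHom.mem_ker).2 (h0 a ha)) (fun a ha => h1 a ha)
  letI : Algebra p.ResidueField K := ψ.toAlgebra
  haveI : IsScalarTower A p.ResidueField K := IsScalarTower.of_algebraMap_eq (fun a =>
    (Ideal.ResidueField.lift_algebraMap p (algebraMap A K)
      (fun a ha => (RingHom.mem_ker).2 (h0 a ha)) (fun a ha => h1 a ha) a).symm)
  haveI : Module.FaithfullyFlat p.ResidueField K := inferInstance
  haveI : Nontrivial (K ⊗[p.ResidueField] (p.ResidueField ⊗[A] C)) :=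
    (Module.FaithfullyFlat.nontrivial_tensorProduct_iff_right p.ResidueField K).2 hC
  exact (AlgebraTensorModule.cancelBaseChange A p.ResidueField K K C).symm.toEquiv.nontrivial

/-- **a finite projective module is free of rank one on a given element as soon as all its fibres
are**: if for every prime the base change to (a ring receiving) the residue field is freely
generated by the image of `n₀`, then `a ↦ a • n₀` is bijective -/
theorem bijective_smul_of_fibres {A : Type u} [CommRing A] {N : Type u} [AddCommGroup N]
    [Module A N] [Module.Finite A N] [Module.Projective A N] (n₀ : N)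
    (H : ∀ (p : Ideal A) [p.IsPrime], ∃ (K : Type u) (iK : CommRing K) (iKn : Nontrivial K)
      (φ : A →+* K) (P : Type u) (iP : AddCommGroup P) (iPm : Module K P) (l : N → P),
      (∀ a ∈ p, φ a = 0) ∧ (∀ a, a ∉ p → IsUnit (φ a)) ∧ IsBC φ l ∧
      Function.Bijective (fun c : K => c • l n₀)) :
    Function.Bijective (fun a : A => a • n₀) := by
  classical
  let ψ : A →ₗ[A] N := LinearMap.toSpanSingleton A N n₀
  have hψ : ∀ a, ψ a = a • n₀ := fun a => rfl
  have hsurj : Function.Surjective ψ := by
    rw [← LinearMap.range_eq_top]
    by_contra hne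
    have hns : ¬ Subsingleton (N ⧸ LinearMap.range ψ) := fun h =>
      hne (Submodule.Quotient.subsingleton_iff.mp h)
    haveI hnt : Nontrivial (N ⧸ LinearMap.range ψ) := not_subsingleton_iff_nontrivial.1 hns
    obtain ⟨p, hp⟩ := Module.nonempty_support_of_nontrivial (R := A)
      (M := N ⧸ LinearMap.range ψ)
    have hres := (Module.mem_support_iff_nontrivial_residueField_tensorProduct p).1 hp
    obtain ⟨K, iK, iKn, φ, P, iP, iPm, l, h0, h1, hbc, hgen⟩ := H p.asIdeal
    letI := φ.toAlgebra
    haveI hK : Nontrivial (K ⊗[A] (N ⧸ LinearMap.range ψ)) :=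
      nontrivial_tensor_of_residueField p.asIdeal K h0 h1 _ hres
    letI : Module A P := Module.compHom P φ
    haveI : IsScalarTower A K P := ⟨fun a a' n => by
      change (φ a * a') • n = φ a • a' • n
      exact mul_smul _ _ _⟩
    obtain ⟨l', hl', hb⟩ := hbc
    have hz : ∀ z : K ⊗[A] (N ⧸ LinearMap.range ψ), z = 0 := by
      intro z
      induction z using TensorProduct.induction_on with
      | zero => rfl
      | add x y hx hy => rw [hx, hy, add_zero]
      | tmul c y =>
        obtain ⟨n, rfl⟩ := Submodule.mkQ_surjective _ y
        obtain ⟨c', hc'⟩ := hgen.2 (l n)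
        have hc'' : c' • l n₀ = l n := hc'
        have e1 : (1 : K) ⊗ₜ[A] n = c' ⊗ₜ[A] n₀ := by
          apply hb.equiv.injective
          rw [IsBaseChange.equiv_tmul, IsBaseChange.equiv_tmul, one_smul, hl', hl', hc'']
        have e2 := congrArg (LinearMap.lTensor K (Submodule.mkQ (LinearMap.range ψ))) e1
        rw [LinearMap.lTensor_tmul, LinearMap.lTensor_tmul] at e2
        have e3 : (Submodule.mkQ (LinearMap.range ψ)) n₀ = 0 :=
          (Submodule.Quotient.mk_eq_zero _).2 ⟨1, one_smul _ _⟩
        rw [e3, TensorProduct.tmul_zero] at e2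
        have e4 : c ⊗ₜ[A] (Submodule.mkQ (LinearMap.range ψ)) n =
            c • ((1 : K) ⊗ₜ[A] (Submodule.mkQ (LinearMap.range ψ)) n) := by
          rw [TensorProduct.smul_tmul', smul_eq_mul, mul_one]
        rw [e4, e2, smul_zero]
    obtain ⟨x, y, hxy⟩ := hK.exists_pair_ne
    exact hxy ((hz x).trans (hz y).symm)
  have hinj : Function.Injective ψ := by
    obtain ⟨σ, hσ⟩ := Module.projective_lifting_property ψ LinearMap.id hsurj
    have hσ' : ∀ n, σ n • n₀ = n := fun n => by
      have h9 : (ψ ∘ₗ σ) n = LinearMap.id n := congrArg (fun F => F n) hσ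
      exact h9
    set e : A := 1 - σ n₀ with he
    have hen : e • n₀ = 0 := by
      rw [he, sub_smul, one_smul, hσ' n₀, sub_self]
    have hker : ∀ a : A, a • n₀ = 0 → a * e = a := by
      intro a ha
      have h2 : σ (a • n₀) = a * σ n₀ := by rw [map_smul, smul_eq_mul]
      rw [ha, map_zero] at h2
      rw [he, mul_sub, mul_one, ← h2, sub_zero]
    have he0 : e = 0 := by
      by_contra hne0
      have hnu : ¬ IsUnit (1 - e) := by
        intro hu
        apply hne0
        have h3 : (1 - e) * e = 0 := by
          have := hker e hen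
          rw [sub_mul, one_mul, this, sub_self]
        exact (hu.mul_right_eq_zero).1 h3
      obtain ⟨m, hm, hmem⟩ := exists_max_ideal_of_mem_nonunits (mem_nonunits_iff.2 hnu)
      haveI := hm.isPrime
      have hem : e ∉ m := fun h => hm.ne_top ((Ideal.eq_top_iff_one m).2 (by
        have := m.add_mem hmem h
        rwa [sub_add_cancel] at this))
      obtain ⟨K, iK, iKn, φ, P, iP, iPm, l, h0, h1, hbc, hgen⟩ := H m
      have h4 : l (e • n₀) = φ e • l n₀ := Groth.Agent.Lead.LimZ.isBC_map_smul hbc e n₀
      rw [hen, Groth.Agent.Lead.LimZ.isBC_map_zero hbc] at h4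
      have h5 : l n₀ = 0 := by
        obtain ⟨v, hv⟩ := h1 e hem
        rw [← hv] at h4
        have h6 := congrArg (fun z => (↑v⁻¹ : K) • z) h4
        simp only [smul_zero, smul_smul, Units.inv_mul, one_smul] at h6
        exact h6.symm
      have h6 : (1 : K) = 0 := hgen.1 (by
        change (1 : K) • l n₀ = (0 : K) • l n₀
        rw [h5, smul_zero, smul_zero])
      exact one_ne_zero h6
    intro a b hab
    have hab2 : a • n₀ = b • n₀ := hab
    have hab' : (a - b) • n₀ = 0 := by rw [sub_smul]; exact sub_eq_zero.2 hab2
    have := hker (a - b) hab'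
    rw [he0, mul_zero] at this
    exact sub_eq_zero.1 this.symm
  refine ⟨fun a b hab => hinj hab, fun n => ?_⟩
  obtain ⟨a, ha⟩ := hsurj n
  exact ⟨a, ha⟩

end Alg

end Groth.Agent.Helper7.GenBC
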