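import Mathlib
import Groth.Prelude.Def_CohCmp
import Groth.Agent.Lib.Helper7.GenBC.EpiZeroRows
import Groth.Agent.Lib.Helper7.GenBC.H0Alg
import Groth.Agent.Lib.Helper1.CoprodMod
import Groth.Agent.Lib.Helper1.AffPushEpi
import Groth.Agent.Lib.Helper1.PullGen
import Groth.Agent.Lib.Helper5.Stalk.FlatFree
import Groth.Prelude.Def_FlatMod2
import Groth.Agent.Lib.Helper1.FPA8
import Groth.Agent.Lib.Helper1.IdealModL
import Groth.Agent.Lib.Helper1.AmpleLib2

set_option linter.style.haveILetI false
set_option linter.unusedVariables false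
set_option linter.unusedSectionVars false
set_option autoImplicit false
set_option backward.isDefEq.respectTransparency.types false
set_option backward.isDefEq.respectTransparency false
set_option synthInstance.maxHeartbeats 400000
set_option maxHeartbeats 1600000

universe u

/-! helper7: a proper flat finitely presented morphism whose fibres have only the constant functions satisfies O_S = f_* O_X (degree-zero base change plus the fibrewise Nakayama criterion) -/

open CategoryTheory CategoryTheory.Limits Opposite TopologicalSpace AlgebraicGeometry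
open AlgebraicGeometry.Scheme.Modules
open Groth.Agent.Helper1
open Groth.Agent.Lead.BCU

namespace Groth.Agent.Helper7.GenBC

section General

theorem h0_appLE_congr {Y Z : Scheme.{u}} {g₁ g₂ : Y ⟶ Z} (e : g₁ = g₂) (U : Z.Opens)
    (V : Y.Opens) (h₁ : V ≤ g₁ ⁻¹ᵁ U) (h₂ : V ≤ g₂ ⁻¹ᵁ U) :
    g₁.appLE U V h₁ = g₂.appLE U V h₂ := by
  subst e; rfl

/-- an isomorphism of modules is bijective on sections -/
theorem h0_bijective_app_of_isIso {Y : Scheme.{u}} {M N : Y.Modules} (φ : M ⟶ N) [IsIso φ]
    (U : Y.Opens) : Function.Bijective (φ.app U) := by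
  have h1 : ∀ z, (inv φ).app U (φ.app U z) = z := fun z =>
    congrArg (fun ψ => (Scheme.Modules.Hom.app ψ U) z) (IsIso.hom_inv_id φ)
  have h2 : ∀ y, φ.app U ((inv φ).app U y) = y := fun y =>
    congrArg (fun ψ => (Scheme.Modules.Hom.app ψ U) y) (IsIso.inv_hom_id φ)
  refine ⟨fun a b hab => ?_, fun y => ⟨(inv φ).app U y, h2 y⟩⟩
  rw [← h1 a, hab, h1 b]

/-- a morphism of schemes inducing isomorphisms on sections over all small affine opens induces
isomorphisms on sections over all opens -/
theorem isIso_app_of_local {X Y : Scheme.{u}} (f : X ⟶ Y)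
    (h : ∀ y : Y, ∃ U : Y.Opens, y ∈ U ∧
      ∀ W : Y.Opens, IsAffineOpen W → W ≤ U → IsIso (f.app W))
    (V : Y.Opens) : IsIso (f.app V) := by
  let F : TopCat.Sheaf CommRingCat Y := Y.sheaf
  let G : TopCat.Sheaf CommRingCat Y := (TopCat.Sheaf.pushforward CommRingCat f.base).obj X.sheaf
  let φ : F ⟶ G := ObjectProperty.homMk f.c
  have hB : Opens.IsBasis (Set.range (fun W : {W : Y.Opens // IsIso (f.app W)} =>
      (W.1 : Y.Opens))) := by
    rw [Opens.isBasis_iff_nbhd]
    intro V y hyV
    obtain ⟨U, hyU, hU⟩ := h y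
    obtain ⟨W, hWaff, hyW, hWle⟩ := Opens.isBasis_iff_nbhd.1 Y.isBasis_affineOpens
      (show y ∈ U ⊓ V from ⟨hyU, hyV⟩)
    exact ⟨W, ⟨⟨W, hU W hWaff (hWle.trans inf_le_left)⟩, rfl⟩, hyW, hWle.trans inf_le_right⟩
  haveI : IsIso φ :=
    TopCat.Sheaf.isIso_iff_isIso_basis
      (B := fun W : {W : Y.Opens // IsIso (f.app W)} => (W.1 : Y.Opens)) hB (fun W => W.2)
  haveI : IsIso φ.hom := (inferInstance : IsIso ((TopCat.Sheaf.forget CommRingCat Y).map φ))
  exact NatIso.isIso_app_of_isIso φ.hom (Opposite.op V)

variable {S : Scheme.{u}}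

/-- the ring map of the canonical morphism from the spectrum of the residue field, on an affine
open, is the evaluation -/
theorem fromSpecResidueField_appLE (t : S) {W : S.Opens} (hW : IsAffineOpen W) (htW : t ∈ W)
    (eV : (⊤ : (Spec (S.residueField t)).Opens) ≤ (S.fromSpecResidueField t) ⁻¹ᵁ W) :
    (S.fromSpecResidueField t).appLE W ⊤ eV =
      S.evaluation W t htW ≫ (Scheme.ΓSpecIso (S.residueField t)).inv := by
  have hg := SpecMap_evaluation_fromSpec t hW htW
  have e₁ : (⊤ : (Spec Γ(S, W)).Opens) ≤ hW.fromSpec ⁻¹ᵁ W := le_preimage_fromSpec hW le_rfl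
  have e₂ : (⊤ : (Spec (S.residueField t)).Opens) ≤
      (Spec.map (S.evaluation W t htW)) ⁻¹ᵁ (⊤ : (Spec Γ(S, W)).Opens) := fun _ _ => trivial
  have h1 : (S.fromSpecResidueField t).appLE W ⊤ eV =
      (Spec.map (S.evaluation W t htW) ≫ hW.fromSpec).appLE W ⊤
        (e₂.trans ((Spec.map (S.evaluation W t htW)).preimage_mono e₁)) :=
    h0_appLE_congr hg.symm W ⊤ _ _
  rw [h1, ← Scheme.Hom.appLE_comp_appLE _ _ _ _ _ e₁ e₂]
  have h2 : hW.fromSpec.appLE W ⊤ e₁ = (Scheme.ΓSpecIso Γ(S, W)).inv := by
    rw [Scheme.Hom.appLE, hW.fromSpec_app_self, Category.assoc, ← Functor.map_comp]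
    have h3 : (eqToHom hW.fromSpec_preimage_self).op ≫ (homOfLE e₁).op =
        𝟙 (op (⊤ : (Spec Γ(S, W)).Opens)) := Subsingleton.elim _ _
    rw [h3, CategoryTheory.Functor.map_id, Category.comp_id]
  have h3 : (Spec.map (S.evaluation W t htW)).appLE ⊤ ⊤ e₂ =
      (Spec.map (S.evaluation W t htW)).appTop :=
    (Scheme.Hom.app_eq_appLE (f := Spec.map (S.evaluation W t htW))
      (U := (⊤ : (Spec Γ(S, W)).Opens))).symm
  rw [h2, h3, ← Scheme.ΓSpecIso_inv_naturality]

theorem mem_basicOpen_fromSpec_iff {W : S.Opens} (hW : IsAffineOpen W)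
    (x : PrimeSpectrum Γ(S, W)) (a : Γ(S, W)) :
    hW.fromSpec (show ↥(Spec Γ(S, W)) from x) ∈ S.basicOpen a ↔ a ∉ x.asIdeal := by
  have h1 : hW.fromSpec (show ↥(Spec Γ(S, W)) from x) ∈ S.basicOpen a ↔
      (show ↥(Spec Γ(S, W)) from x) ∈ hW.fromSpec ⁻¹ᵁ S.basicOpen a := Iff.rfl
  rw [h1, hW.fromSpec_preimage_basicOpen]
  exact PrimeSpectrum.mem_basicOpen a x

end General

section XLevel2

variable {X S X' S' : Scheme.{u}} (f : X ⟶ S) (g : S' ⟶ S) (g' : X' ⟶ X) (f' : X' ⟶ S')
  (h : IsPullback g' f' f g) (F : X.Modules)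

/-- if the base change map is bijective on sections over an affine open, the pullbacks of sections
exhibit the sections of the pulled back module as a base change -/
theorem isBC_unitRes_of_bijective [((pushforward f).obj F).IsQuasicoherent]
    {V : S.Opens} {V' : S'.Opens} (hV : IsAffineOpen V) (hV' : IsAffineOpen V')
    (eV : V' ≤ g ⁻¹ᵁ V)
    (hbij : Function.Bijective ((bcMap f g g' f' h F).app V')) :
    IsBC (g.appLE V V' eV).hom (fun m : Γ((pushforward f).obj F, V) =>
      (show Γ((pushforward f').obj ((Scheme.Modules.pullback g').obj F), V') from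
        unitRes g' F (preimage_le f g g' f' h eV) m)) := by
  have h0 := isBC_unitRes g ((pushforward f).obj F) hV hV' eV
  let ν : Γ((Scheme.Modules.pullback g).obj ((pushforward f).obj F), V') ≃ₗ[Γ(S', V')]
      Γ((pushforward f').obj ((Scheme.Modules.pullback g').obj F), V') :=
    { toFun := fun x => (bcMap f g g' f' h F).app V' x
      map_add' := fun x y => by
        rw [map_add]
      map_smul' := fun c x => Scheme.Modules.Hom.app_smul _ c x
      invFun := Function.surjInv hbij.2
      left_inv := Function.leftInverse_surjInv hbij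
      right_inv := Function.rightInverse_surjInv hbij.2 }
  refine IsBC.of_equiv (LinearEquiv.refl Γ(S, V) Γ((pushforward f).obj F, V)) ν.symm ?_ h0
  intro m
  rw [LinearEquiv.symm_apply_eq]
  exact (bcMap_unitRes f g g' f' h F eV m).symm

end XLevel2

section Conv

open Groth.Agent.Helper1.LGen Groth.Agent.Helper1.PullSec
open Groth.Agent.Helper1.PullGen

/-- the structure sheaf of a flat scheme is flat over the base (after helper1) -/
theorem h0_isFlatOver_structureModule {X S : Scheme.{u}} (f : X ⟶ S) [Flat f] :
    FlatMod.IsFlatOver f (Coh.structureModule X) := by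
  intro x
  have hfl : (f.stalkMap x).hom.Flat := Flat.stalkMap f x
  unfold FlatMod.IsFlatOverAt
  letI alg : Algebra (S.presheaf.stalk (f.base x)) (X.presheaf.stalk x) :=
    (f.stalkMap x).hom.toAlgebra
  haveI : Module.Flat (S.presheaf.stalk (f.base x)) (X.presheaf.stalk x) := hfl
  letI := FlatMod.moduleStalkOver f (Coh.structureModule X) x
  let e : (X.presheaf.stalk x) ≃ₗ[X.presheaf.stalk x]
      ((Coh.structureModule X).presheaf.stalk x) :=
    (Groth.Agent.Lib.Helper5.StalkAdj.stalkUnitIso X x).toLinearEquiv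
  let e' : ((Coh.structureModule X).presheaf.stalk x) ≃ₗ[S.presheaf.stalk (f.base x)]
      (X.presheaf.stalk x) :=
    { toFun := fun v => e.symm v
      invFun := fun v => e v
      left_inv := fun v => e.apply_symm_apply v
      right_inv := fun v => e.symm_apply_apply v
      map_add' := fun v w => map_add e.symm v w
      map_smul' := fun c v => e.symm.map_smul ((f.stalkMap x).hom c) v }
  exact Module.Flat.of_linearEquiv e'

variable {X S : Scheme.{u}} (f : X ⟶ S) [QuasiCompact f] [QuasiSeparated f]
  (F : X.Modules) [F.IsQuasicoherent]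

/-- if `F` has a free generator over the preimage of a neighbourhood of `s` and the functions on
the fibre come from the residue field, the base change map to the fibre is an epimorphism
(after helper4) -/
theorem h0_epi_bc0_of_isGen (s : S) {V : S.Opens} (hs : s ∈ V) (a : Γ(F, f ⁻¹ᵁ V))
    (ha : IsGen F (f ⁻¹ᵁ V) a)
    (hsurj : Function.Surjective (f.fiberToSpecResidueField s).appTop.hom) :
    Epi (CohBC.bc0 f (S.fromSpecResidueField s) (f.fiberToSpecResidueField s) (f.fiberι s)
      (f.fiber_fac s) F) := by
  have hpb : IsPullback (f.fiberι s) (f.fiberToSpecResidueField s) f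
      (S.fromSpecResidueField s) := IsPullback.of_hasPullback f (S.fromSpecResidueField s)
  change Epi (bcMap f (S.fromSpecResidueField s) (f.fiberι s) (f.fiberToSpecResidueField s)
    hpb F)
  apply Groth.Agent.Helper1.AffPushEpi.epi_of_surjective_on_affine
  intro U _
  haveI : Subsingleton ↥(Spec (S.residueField s)) :=
    inferInstanceAs (Subsingleton (PrimeSpectrum (S.residueField s)))
  by_cases hne : (U : Set ↥(Spec (S.residueField s))).Nonempty
  · have hU' : U = ⊤ := by
      apply le_antisymm le_top
      intro z _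
      obtain ⟨z', hz'⟩ := hne
      rw [Subsingleton.elim z z']
      exact hz'
    subst hU'
    intro t
    have eV : (⊤ : (Spec (S.residueField s)).Opens) ≤ (S.fromSpecResidueField s) ⁻¹ᵁ V := by
      intro z _
      change S.fromSpecResidueField s z ∈ V
      rw [Scheme.fromSpecResidueField_apply]
      exact hs
    have e'' := preimage_le f (S.fromSpecResidueField s) (f.fiberι s)
      (f.fiberToSpecResidueField s) hpb eV
    have hgen := isGen_σ (f.fiberι s) ha
    obtain ⟨r, hr⟩ := (hgen ((f.fiberToSpecResidueField s) ⁻¹ᵁ ⊤) e'').2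
      (show Γ((Scheme.Modules.pullback (f.fiberι s)).obj F,
        (f.fiberToSpecResidueField s) ⁻¹ᵁ ⊤) from t)
    obtain ⟨r₀, rfl⟩ := hsurj r
    refine ⟨r₀ • unitRes (S.fromSpecResidueField s) ((pushforward f).obj F) eV
      (show Γ((pushforward f).obj F, V) from a), ?_⟩
    rw [Scheme.Modules.Hom.app_smul, bcMap_unitRes]
    exact hr
  · have hU' : U = ⊥ := by
      apply le_antisymm _ bot_le
      intro z hz
      exact (hne ⟨z, hz⟩).elim
    intro t
    haveI : Subsingleton Γ((Scheme.Modules.pushforward (f.fiberToSpecResidueField s)).obj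
        ((Scheme.Modules.pullback (f.fiberι s)).obj F), U) := by
      have h1 : (f.fiberToSpecResidueField s) ⁻¹ᵁ U = ⊥ := by rw [hU']; rfl
      exact Groth.Agent.Helper1.CoprodMod.subsingleton_of_eq_bot
        ((Scheme.Modules.pullback (f.fiberι s)).obj F) h1
    exact ⟨0, Subsingleton.elim _ _⟩

end Conv

section Main

variable {X S : Scheme.{u}} (f : X ⟶ S) [IsProper f]

/-- **over a small affine open the functions of the total space are the functions of the base** -/
theorem bijective_app_of_affine_le
    (h : ∀ s : S, IsIso (f.fiberToSpecResidueField s).appTop)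
    {U : S.Opens}
    (hflf : FlatMod.IsFinLocFree
      (((Scheme.Modules.pushforward f).obj (Coh.structureModule X)).restrict U.ι))
    (hbc : ∀ {X' S' : Scheme.{u}} (g : S' ⟶ S) (g' : X' ⟶ X) (f' : X' ⟶ S')
        (hp : IsPullback g' f' f g), (∀ x : S', g x ∈ U) →
        IsIso (CohBC.bc0 f g f' g' hp.w (Coh.structureModule X)))
    {W : S.Opens} (hW : IsAffineOpen W) (hWU : W ≤ U) :
    Function.Bijective (f.app W).hom := by
  haveI hq : (Coh.structureModule X).IsQuasicoherent :=
    IdealModL.isQuasicoherent_structureModule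
  haveI hpq : ((Scheme.Modules.pushforward f).obj (Coh.structureModule X)).IsQuasicoherent :=
    Groth.Agent.Helper1.PushQc.isQuasicoherent_pushforward f _
  obtain ⟨hfin, hproj⟩ := finite_projective_sections_of_isFinLocFree_restrict
    ((Scheme.Modules.pushforward f).obj (Coh.structureModule X)) U hflf W hW hWU
  haveI := hfin
  haveI := hproj
  let n₀ : Γ((Scheme.Modules.pushforward f).obj (Coh.structureModule X), W) :=
    (show Γ(Coh.structureModule X, f ⁻¹ᵁ W) from TwForm.one' (f ⁻¹ᵁ W))
  have hsm : ∀ a : Γ(S, W), a • n₀ =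
      (show Γ((Scheme.Modules.pushforward f).obj (Coh.structureModule X), W) from
        (f.app W).hom a) := by
    intro a
    change (f.app W).hom a * (1 : Γ(X, f ⁻¹ᵁ W)) = _
    exact mul_one _
  have key : Function.Bijective (fun a : Γ(S, W) => a • n₀) := by
    apply bijective_smul_of_fibres n₀
    intro p hp
    let x : PrimeSpectrum Γ(S, W) := ⟨p, hp⟩
    let t : S := hW.fromSpec (show ↥(Spec Γ(S, W)) from x)
    have htW : t ∈ W := by
      have h1 : t ∈ Set.range hW.fromSpec := ⟨_, rfl⟩
      rw [hW.range_fromSpec] at h1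
      exact h1
    have hpb : IsPullback (f.fiberι t) (f.fiberToSpecResidueField t) f
        (S.fromSpecResidueField t) := IsPullback.of_hasPullback f (S.fromSpecResidueField t)
    have hx : ∀ z : ↥(Spec (S.residueField t)), S.fromSpecResidueField t z = t := fun z =>
      Scheme.fromSpecResidueField_apply t z
    have eV : (⊤ : (Spec (S.residueField t)).Opens) ≤ (S.fromSpecResidueField t) ⁻¹ᵁ W := by
      intro z _
      change S.fromSpecResidueField t z ∈ W
      rw [hx z]
      exact htW
    haveI hiso : IsIso (bcMap f (S.fromSpecResidueField t) (f.fiberι t)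
        (f.fiberToSpecResidueField t) hpb (Coh.structureModule X)) :=
      hbc (S.fromSpecResidueField t) (f.fiberι t) (f.fiberToSpecResidueField t) hpb
        (fun z => by rw [hx z]; exact hWU htW)
    have hV' : IsAffineOpen (⊤ : (Spec (S.residueField t)).Opens) := isAffineOpen_top _
    have hbcK := isBC_unitRes_of_bijective f (S.fromSpecResidueField t) (f.fiberι t)
      (f.fiberToSpecResidueField t) hpb (Coh.structureModule X) hW hV' eV
      (h0_bijective_app_of_isIso _ ⊤)
    have e'' := preimage_le f (S.fromSpecResidueField t) (f.fiberι t)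
      (f.fiberToSpecResidueField t) hpb eV
    have hgen := Groth.Agent.Helper1.PullGen.isGen_σ (f.fiberι t)
      (AmpleLib.isGen_one' (f ⁻¹ᵁ W))
    have hgen' := hgen ((f.fiberToSpecResidueField t) ⁻¹ᵁ ⊤) e''
    haveI := h t
    have hf' : Function.Bijective ((f.fiberToSpecResidueField t).app ⊤).hom :=
      ConcreteCategory.bijective_of_isIso (f.fiberToSpecResidueField t).appTop
    have hφ : ∀ a : Γ(S, W), ((S.fromSpecResidueField t).appLE W ⊤ eV).hom a =
        (Scheme.ΓSpecIso (S.residueField t)).inv.hom ((S.evaluation W t htW).hom a) := by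
      intro a
      rw [fromSpecResidueField_appLE t hW htW eV]
      rfl
    refine ⟨Γ(Spec (S.residueField t), ⊤), inferInstance, ?_,
      ((S.fromSpecResidueField t).appLE W ⊤ eV).hom,
      Γ((pushforward (f.fiberToSpecResidueField t)).obj
        ((Scheme.Modules.pullback (f.fiberι t)).obj (Coh.structureModule X)),
        (⊤ : (Spec (S.residueField t)).Opens)),
      inferInstance, inferInstance, _, ?_, ?_, hbcK, ?_⟩
    · have hinj : Function.Injective (Scheme.ΓSpecIso (S.residueField t)).inv.hom := by
        intro a b hab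
        have h1 : ∀ c, (Scheme.ΓSpecIso (S.residueField t)).hom.hom
            ((Scheme.ΓSpecIso (S.residueField t)).inv.hom c) = c := fun c =>
          congrArg (fun ψ => ψ.hom c) (Scheme.ΓSpecIso (S.residueField t)).inv_hom_id
        rw [← h1 a, hab, h1 b]
      exact hinj.nontrivial
    · intro a ha
      rw [hφ a]
      have h3 : (S.evaluation W t htW).hom a = 0 :=
        (S.evaluation_eq_zero_iff_notMem_basicOpen t htW a).2 (fun hmem =>
          (mem_basicOpen_fromSpec_iff hW x a).1 hmem ha)
      rw [h3, map_zero]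
    · intro a ha
      rw [hφ a]
      have h3 : (S.evaluation W t htW).hom a ≠ 0 :=
        (S.evaluation_ne_zero_iff_mem_basicOpen t htW a).2
          ((mem_basicOpen_fromSpec_iff hW x a).2 ha)
      exact (IsUnit.mk0 _ h3).map (Scheme.ΓSpecIso (S.residueField t)).inv.hom
    · exact hgen'.comp hf'
  constructor
  · intro a b hab
    apply key.1
    change a • n₀ = b • n₀
    rw [hsm, hsm]
    exact hab
  · intro y
    obtain ⟨a, ha⟩ := key.2
      (show Γ((Scheme.Modules.pushforward f).obj (Coh.structureModule X), W) from y)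
    exact ⟨a, (hsm a).symm.trans ha⟩

variable [Flat f] [LocallyOfFinitePresentation f]

/-- **a proper flat finitely presented morphism whose fibres have only the constant functions
has `O_S = f_* O_X`** -/
theorem isIso_app_of_h0 (h : ∀ s : S, IsIso (f.fiberToSpecResidueField s).appTop)
    (V : S.Opens) : IsIso (f.app V) := by
  haveI hq : (Coh.structureModule X).IsQuasicoherent :=
    IdealModL.isQuasicoherent_structureModule
  have hfp : CohB1.IsFP (Coh.structureModule X) := Groth.Agent.Helper1.FPA.isFP_unit X
  have hfl : FlatMod.IsFlatOver f (Coh.structureModule X) :=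
    h0_isFlatOver_structureModule f
  refine isIso_app_of_local f (fun s => ?_) V
  have hepi : Epi (CohBC.bc0 f (S.fromSpecResidueField s) (f.fiberToSpecResidueField s)
      (f.fiberι s) (f.fiber_fac s) (Coh.structureModule X)) := by
    refine h0_epi_bc0_of_isGen f (Coh.structureModule X) s (V := ⊤) trivial
      (TwForm.one' (f ⁻¹ᵁ ⊤)) (AmpleLib.isGen_one' _) ?_
    haveI := h s
    exact (ConcreteCategory.bijective_of_isIso (f.fiberToSpecResidueField s).appTop).2
  obtain ⟨U, hsU, hflf, hbc⟩ := exists_nhd_of_epi_bc0 f s (Coh.structureModule X) hfp hfl hepi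
  refine ⟨U, hsU, fun W hW hWU => ?_⟩
  exact (ConcreteCategory.isIso_iff_bijective _).2
    (bijective_app_of_affine_le f h hflf hbc hW hWU)

end Main

end Groth.Agent.Helper7.GenBC
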