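import Mathlib
import Groth.Agent.Lib.Helper7.GenBC.H0Iso
import Groth.Agent.Lib.Helper4.ProperPush1

set_option linter.style.haveILetI false
set_option linter.unusedVariables false
set_option linter.unusedSectionVars false
set_option autoImplicit false
set_option backward.isDefEq.respectTransparency.types false
set_option synthInstance.maxHeartbeats 400000
set_option maxHeartbeats 1600000

universe u

/-! helper7: proper flat finitely presented morphisms with reduced connected geometric fibres satisfy O_S = f_* O_X; integral reduced connected algebras over algebraically closed fields; idempotents of connected reduced schemes -/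

open CategoryTheory CategoryTheory.Limits Opposite TopologicalSpace AlgebraicGeometry
open scoped TensorProduct

namespace Groth.Agent.Helper7.GenBC

section Alg

/-- a nontrivial reduced algebra with only trivial idempotents which is integral over an
algebraically closed field is that field -/
theorem surjective_algebraMap_of_integral_reduced_connected (Ω B : Type u) [Field Ω]
    [IsAlgClosed Ω] [CommRing B] [Algebra Ω B] [Nontrivial B] [IsReduced B]
    (hidem : ∀ e : B, e * e = e → e = 0 ∨ e = 1)
    (hint : ∀ b : B, IsIntegral Ω b) : Function.Surjective (algebraMap Ω B) := by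
  have key : ∀ n : ℕ, ∀ (b : B) (p : Polynomial Ω), p.Monic → p.natDegree = n →
      Polynomial.aeval b p = 0 → ∃ a : Ω, algebraMap Ω B a = b := by
    intro n
    induction n with
    | zero =>
      intro b p hp hdeg hpb
      have h1 : p = 1 := Polynomial.eq_one_of_monic_natDegree_zero hp hdeg
      rw [h1, map_one] at hpb
      exact absurd hpb one_ne_zero
    | succ n ih =>
      intro b p hp hdeg hpb
      obtain ⟨a, ha⟩ := IsAlgClosed.exists_root p (by
        rw [Polynomial.degree_eq_natDegree hp.ne_zero, hdeg]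
        exact_mod_cast Nat.succ_ne_zero n)
      set q := p /ₘ (Polynomial.X - Polynomial.C a) with hq
      have hpq : (Polynomial.X - Polynomial.C a) * q = p :=
        Polynomial.mul_divByMonic_eq_iff_isRoot.2 ha
      have hqm : q.Monic :=
        (Polynomial.monic_X_sub_C a).of_mul_monic_left (by rw [hpq]; exact hp)
      have hqdeg : q.natDegree = n := by
        have h := (Polynomial.monic_X_sub_C a).natDegree_mul hqm
        rw [hpq, hdeg, Polynomial.natDegree_X_sub_C] at h
        omega
      set c : B := b - algebraMap Ω B a with hc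
      have h2 : c * Polynomial.aeval b q = 0 := by
        have h := congrArg (Polynomial.aeval b) hpq
        rw [map_mul, map_sub, Polynomial.aeval_X, Polynomial.aeval_C, hpb] at h
        exact h
      set r := q /ₘ (Polynomial.X - Polynomial.C a) with hr
      have hqr : q = Polynomial.C (q.eval a) + (Polynomial.X - Polynomial.C a) * r := by
        have h := Polynomial.modByMonic_add_div q (Polynomial.X - Polynomial.C a)
        rw [Polynomial.modByMonic_X_sub_C_eq_C_eval] at h
        exact h.symm
      have h3 : Polynomial.aeval b q =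
          algebraMap Ω B (q.eval a) + c * Polynomial.aeval b r := by
        have h := congrArg (Polynomial.aeval b) hqr
        rw [map_add, map_mul, map_sub, Polynomial.aeval_X, Polynomial.aeval_C,
          Polynomial.aeval_C] at h
        exact h
      by_cases hqa : q.eval a = 0
      · rw [hqa, map_zero, zero_add] at h3
        have h4 : Polynomial.aeval b q * Polynomial.aeval b q = 0 := by
          have h : Polynomial.aeval b q * Polynomial.aeval b q =
              (c * Polynomial.aeval b r) * Polynomial.aeval b q :=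
            congrArg (fun z => z * Polynomial.aeval b q) h3
          rw [h]
          have h' : c * Polynomial.aeval b r * Polynomial.aeval b q =
              Polynomial.aeval b r * (c * Polynomial.aeval b q) := by ring
          rw [h', h2, mul_zero]
        have h5 : Polynomial.aeval b q = 0 := by
          have h : IsNilpotent (Polynomial.aeval b q) := ⟨2, by rw [pow_two]; exact h4⟩
          exact h.eq_zero
        exact ih b q hqm hqdeg h5
      · set u : B := algebraMap Ω B (q.eval a)⁻¹ * Polynomial.aeval b q with hu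
        have hcu : c * u = 0 := by rw [hu, mul_left_comm, h2, mul_zero]
        have hu1 : u = 1 + algebraMap Ω B (q.eval a)⁻¹ * (c * Polynomial.aeval b r) := by
          rw [hu, h3, mul_add, ← map_mul, inv_mul_cancel₀ hqa, map_one]
        have huu : u * u = u := by
          have h : u * u =
              u * (1 + algebraMap Ω B (q.eval a)⁻¹ * (c * Polynomial.aeval b r)) :=
            congrArg (fun z => u * z) hu1
          rw [h, mul_add, mul_one]
          have h' : u * (algebraMap Ω B (q.eval a)⁻¹ * (c * Polynomial.aeval b r)) =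
              (c * u) * (algebraMap Ω B (q.eval a)⁻¹ * Polynomial.aeval b r) := by ring
          rw [h', hcu, zero_mul, add_zero]
        rcases hidem u huu with h0 | h1
        · have h5 : Polynomial.aeval b q = 0 := by
            have h := congrArg (fun z => algebraMap Ω B (q.eval a) * z) h0
            simp only [hu, ← mul_assoc, ← map_mul, mul_inv_cancel₀ hqa, map_one, one_mul,
              mul_zero] at h
            exact h
          exact ih b q hqm hqdeg h5
        · have h6 : c = 0 := by
            rw [← mul_one c, ← h1]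
            exact hcu
          exact ⟨a, (sub_eq_zero.1 h6).symm⟩
  intro b
  obtain ⟨p, hp, hpb⟩ := hint b
  exact key _ b p hp rfl (by rw [Polynomial.aeval_def]; exact hpb)

end Alg

section Sch

/-- the global functions of a connected reduced scheme have only the trivial idempotents -/
theorem idem_trivial_of_connected (Z : Scheme.{u}) [IsReduced Z] [ConnectedSpace Z]
    (e : Γ(Z, ⊤)) (he : e * e = e) : e = 0 ∨ e = 1 := by
  have hcov : ∀ z : Z, z ∈ Z.basicOpen e ∨ z ∈ Z.basicOpen (1 - e) := by
    intro z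
    by_contra hcon
    rw [not_or] at hcon
    obtain ⟨h1, h2⟩ := hcon
    have h1' : Z.evaluation ⊤ z trivial e = 0 :=
      (Z.evaluation_eq_zero_iff_notMem_basicOpen (U := ⊤) z trivial e).2 h1
    have h2' : Z.evaluation ⊤ z trivial (1 - e) = 0 :=
      (Z.evaluation_eq_zero_iff_notMem_basicOpen (U := ⊤) z trivial (1 - e)).2 h2
    have h3 : Z.evaluation ⊤ z trivial (e + (1 - e)) = 0 := by
      rw [map_add, h1', h2', add_zero]
    rw [add_sub_cancel, map_one] at h3
    exact one_ne_zero h3
  have hdisj : Z.basicOpen e ⊓ Z.basicOpen (1 - e) = ⊥ := by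
    rw [← Scheme.basicOpen_mul]
    have h : e * (1 - e) = 0 := by rw [mul_sub, mul_one, he, sub_self]
    rw [h, Scheme.basicOpen_zero]
  have hclopen : IsClopen ((Z.basicOpen e : Z.Opens) : Set Z) := by
    refine ⟨?_, (Z.basicOpen e).isOpen⟩
    have hcompl : ((Z.basicOpen e : Z.Opens) : Set Z)ᶜ =
        ((Z.basicOpen (1 - e) : Z.Opens) : Set Z) := by
      ext z
      constructor
      · intro hz
        rcases hcov z with h | h
        · exact absurd h hz
        · exact h
      · intro hz hz'
        have h : z ∈ Z.basicOpen e ⊓ Z.basicOpen (1 - e) := ⟨hz', hz⟩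
        rw [hdisj] at h
        exact h
    rw [← isOpen_compl_iff, hcompl]
    exact (Z.basicOpen (1 - e)).isOpen
  rcases isClopen_iff.1 hclopen with h | h
  · left
    have h' : Z.basicOpen e = ⊥ := Opens.coe_eq_empty.1 h
    exact (basicOpen_eq_bot_iff e).1 h'
  · right
    have h' : Z.basicOpen e = ⊤ := Opens.coe_eq_univ.1 h
    rw [h', top_inf_eq] at hdisj
    have h'' := (basicOpen_eq_bot_iff (1 - e)).1 hdisj
    exact (sub_eq_zero.1 h'').symm

/-- the base change square of an algebra over a field, on spectra (after helper2) -/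
theorem h0_isPullback_Spec_tensor (k S K : Type u) [CommRing k] [CommRing S] [Algebra k S]
    [CommRing K] [Algebra k K] :
    IsPullback
      (Spec.map (CommRingCat.ofHom
        (Algebra.TensorProduct.includeRight.toRingHom : S →+* K ⊗[k] S)))
      (Spec.map (CommRingCat.ofHom (algebraMap K (K ⊗[k] S))))
      (Spec.map (CommRingCat.ofHom (algebraMap k S)))
      (Spec.map (CommRingCat.ofHom (algebraMap k K))) := by
  have hpo := CommRingCat.isPushout_tensorProduct k K S
  exact (isPullback_SpecMap_of_isPushout _ _ _ _ hpo).flip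

end Sch

section Field

/-- **a proper scheme over a field whose base change to an algebraically closed extension is
reduced and connected has only the constants as global functions** -/
theorem bijective_appTop_of_geom_reduced_connected (k : Type u) [Field k] {Y : Scheme.{u}}
    (q : Y ⟶ Spec (CommRingCat.of k)) [IsProper q]
    (Ω : Type u) [Field Ω] [IsAlgClosed Ω] [Algebra k Ω]
    (hZ : ∀ {Z : Scheme.{u}} (a : Z ⟶ Y) (p : Z ⟶ Spec (CommRingCat.of Ω)),
      IsPullback a p q (Spec.map (CommRingCat.ofHom (algebraMap k Ω))) →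
        IsReduced Z ∧ ConnectedSpace Z) :
    Function.Bijective q.appTop.hom := by
  letI algA : Algebra k Γ(Y, ⊤) :=
    (q.appTop.hom.comp (Scheme.ΓSpecIso (CommRingCat.of k)).inv.hom).toAlgebra
  have P2 := h0_isPullback_Spec_tensor k Γ(Y, ⊤) Ω
  obtain ⟨c, hc⟩ : ∃ c : Spec (CommRingCat.of (Ω ⊗[k] Γ(Y, ⊤))) ⟶ Spec Γ(Y, ⊤),
      c = Spec.map (CommRingCat.ofHom
        (Algebra.TensorProduct.includeRight.toRingHom : Γ(Y, ⊤) →+* Ω ⊗[k] Γ(Y, ⊤))) :=
    ⟨_, rfl⟩
  obtain ⟨d, hd⟩ : ∃ d : Spec (CommRingCat.of (Ω ⊗[k] Γ(Y, ⊤))) ⟶ Spec (CommRingCat.of Ω),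
      d = Spec.map (CommRingCat.ofHom (algebraMap Ω (Ω ⊗[k] Γ(Y, ⊤)))) := ⟨_, rfl⟩
  obtain ⟨φ, hφ⟩ : ∃ φ : Spec Γ(Y, ⊤) ⟶ Spec (CommRingCat.of k), φ = Spec.map
      (CommRingCat.ofHom (algebraMap k Γ(Y, ⊤))) := ⟨_, rfl⟩
  obtain ⟨b, hb⟩ : ∃ b : Spec (CommRingCat.of Ω) ⟶ Spec (CommRingCat.of k), b = Spec.map
      (CommRingCat.ofHom (algebraMap k Ω)) := ⟨_, rfl⟩
  have P2' : IsPullback c d φ b := by
    rw [hc, hd, hφ, hb]; exact P2
  have haφ : Y.toSpecΓ ≫ φ = q := by
    have h1 : φ = Spec.map q.appTop ≫ Spec.map (Scheme.ΓSpecIso (CommRingCat.of k)).inv := by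
      rw [hφ, ← Spec.map_comp]; rfl
    rw [h1, ← Category.assoc, ← Scheme.toSpecΓ_naturality, Category.assoc,
      toSpecΓ_SpecMap_ΓSpecIso_inv, Category.comp_id]
  haveI : CompactSpace Y := QuasiCompact.compactSpace_of_compactSpace q
  haveI : IsSchemeTheoreticallyDominant Y.toSpecΓ := ⟨Scheme.ker_toSpecΓ _⟩
  haveI : Flat b := by
    rw [hb, HasRingHomProperty.Spec_iff (P := @Flat), CommRingCat.hom_ofHom,
      RingHom.flat_algebraMap_iff]
    infer_instance
  haveI : Flat c := MorphismProperty.of_isPullback (P := @Flat) P2'.flip inferInstance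
  have P1 := IsPullback.of_hasPullback Y.toSpecΓ c
  have P12 := P1.paste_vert P2'
  rw [haφ] at P12
  obtain ⟨hred, hconn⟩ := hZ _ _ (by rw [← hb]; exact P12)
  haveI := hred
  haveI := hconn
  haveI : IsProper (pullback.snd Y.toSpecΓ c ≫ d) :=
    MorphismProperty.of_isPullback (P := @IsProper) P12 inferInstance
  have hintp := Groth.Agent.Lib.Helper4.ProperPush1.isIntegral_appTop_of_isProper
    (pullback.snd Y.toSpecΓ c ≫ d)
  -- injectivity on global sections
  have hinj := (pullback.snd Y.toSpecΓ c).app_injective ⊤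
  have hinj2 : Function.Injective (((pullback.snd Y.toSpecΓ c).app ⊤).hom.comp
      (Scheme.ΓSpecIso (CommRingCat.of (Ω ⊗[k] Γ(Y, ⊤)))).inv.hom) := by
    rw [RingHom.coe_comp]
    refine hinj.comp ?_
    exact ((ConcreteCategory.isIso_iff_bijective (Scheme.ΓSpecIso _).inv).1 inferInstance).1
  -- the functions of the base change
  letI algB : Algebra Ω Γ(pullback Y.toSpecΓ c, ⊤) :=
    ((pullback.snd Y.toSpecΓ c ≫ d).appTop.hom.comp
      (Scheme.ΓSpecIso (CommRingCat.of Ω)).inv.hom).toAlgebra
  haveI : Nonempty ↥(pullback Y.toSpecΓ c) := inferInstance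
  haveI : Nonempty ↥((⊤ : (pullback Y.toSpecΓ c).Opens) : Scheme.{u}) := by
    obtain ⟨z⟩ : Nonempty ↥(pullback Y.toSpecΓ c) := inferInstance
    exact ⟨⟨z, trivial⟩⟩
  haveI : Nontrivial Γ(pullback Y.toSpecΓ c, ⊤) := Scheme.component_nontrivial _ ⊤
  haveI : IsReduced Γ(pullback Y.toSpecΓ c, ⊤) := IsReduced.component_reduced ⊤
  have hintB : ∀ x : Γ(pullback Y.toSpecΓ c, ⊤), IsIntegral Ω x := by
    have h1 : (((pullback.snd Y.toSpecΓ c ≫ d).appTop.hom.comp
        (Scheme.ΓSpecIso (CommRingCat.of Ω)).inv.hom).comp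
        (Scheme.ΓSpecIso (CommRingCat.of Ω)).hom.hom) =
        (pullback.snd Y.toSpecΓ c ≫ d).appTop.hom := by
      ext x
      change (pullback.snd Y.toSpecΓ c ≫ d).appTop.hom
        ((Scheme.ΓSpecIso (CommRingCat.of Ω)).inv.hom
          ((Scheme.ΓSpecIso (CommRingCat.of Ω)).hom.hom x)) = _
      have h2 : (Scheme.ΓSpecIso (CommRingCat.of Ω)).inv.hom
          ((Scheme.ΓSpecIso (CommRingCat.of Ω)).hom.hom x) = x :=
        congrArg (fun ψ => ψ.hom x) (Scheme.ΓSpecIso (CommRingCat.of Ω)).hom_inv_id
      rw [h2]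
    have h3 : ((pullback.snd Y.toSpecΓ c ≫ d).appTop.hom.comp
        (Scheme.ΓSpecIso (CommRingCat.of Ω)).inv.hom).IsIntegral :=
      RingHom.IsIntegral.tower_top (Scheme.ΓSpecIso (CommRingCat.of Ω)).hom.hom _
        (by rw [h1]; exact hintp)
    intro x
    exact h3 x
  have hsurjB := surjective_algebraMap_of_integral_reduced_connected Ω
    Γ(pullback Y.toSpecΓ c, ⊤) (idem_trivial_of_connected (pullback Y.toSpecΓ c)) hintB
  -- compatibility of the two algebra structures
  have hcompat : ∀ ω : Ω, (((pullback.snd Y.toSpecΓ c).app ⊤).hom.comp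
      (Scheme.ΓSpecIso (CommRingCat.of (Ω ⊗[k] Γ(Y, ⊤)))).inv.hom)
        (algebraMap Ω (Ω ⊗[k] Γ(Y, ⊤)) ω) =
      algebraMap Ω Γ(pullback Y.toSpecΓ c, ⊤) ω := by
    intro ω
    have h1 : (pullback.snd Y.toSpecΓ c ≫ d).appTop =
        d.appTop ≫ (pullback.snd Y.toSpecΓ c).appTop := Scheme.Hom.comp_appTop _ _
    have h2 : CommRingCat.ofHom (algebraMap Ω (Ω ⊗[k] Γ(Y, ⊤))) ≫
        (Scheme.ΓSpecIso (CommRingCat.of (Ω ⊗[k] Γ(Y, ⊤)))).inv =
        (Scheme.ΓSpecIso (CommRingCat.of Ω)).inv ≫ d.appTop := by
      rw [hd]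
      exact Scheme.ΓSpecIso_inv_naturality _
    have h3 := congrArg (fun ψ => ψ.hom ω) h2
    change (pullback.snd Y.toSpecΓ c).appTop.hom
      ((Scheme.ΓSpecIso (CommRingCat.of (Ω ⊗[k] Γ(Y, ⊤)))).inv.hom
        (algebraMap Ω (Ω ⊗[k] Γ(Y, ⊤)) ω)) =
      (pullback.snd Y.toSpecΓ c ≫ d).appTop.hom
        ((Scheme.ΓSpecIso (CommRingCat.of Ω)).inv.hom ω)
    rw [h1]
    exact congrArg (pullback.snd Y.toSpecΓ c).appTop.hom h3
  -- the base changed algebra is trivial
  haveI : Nontrivial ↑Γ(pullback Y.toSpecΓ c, pullback.snd Y.toSpecΓ c ⁻¹ᵁ ⊤) :=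
    (inferInstance : Nontrivial Γ(pullback Y.toSpecΓ c, ⊤))
  haveI : Nontrivial (Ω ⊗[k] Γ(Y, ⊤)) :=
    (((pullback.snd Y.toSpecΓ c).app ⊤).hom.comp
      (Scheme.ΓSpecIso (CommRingCat.of (Ω ⊗[k] Γ(Y, ⊤)))).inv.hom).domain_nontrivial
  have hbijΩ : Function.Bijective (algebraMap Ω (Ω ⊗[k] Γ(Y, ⊤))) := by
    refine ⟨(algebraMap Ω (Ω ⊗[k] Γ(Y, ⊤))).injective, fun z => ?_⟩
    obtain ⟨ω, hω⟩ := hsurjB ((((pullback.snd Y.toSpecΓ c).app ⊤).hom.comp
      (Scheme.ΓSpecIso (CommRingCat.of (Ω ⊗[k] Γ(Y, ⊤)))).inv.hom) z)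
    exact ⟨ω, hinj2 ((hcompat ω).trans hω)⟩
  have h2 : Module.finrank Ω (Ω ⊗[k] Γ(Y, ⊤)) = 1 :=
    (Algebra.finrank_eq_one_iff_bijective_algebraMap).2 hbijΩ
  rw [Module.finrank_baseChange] at h2
  have hbijk : Function.Bijective (algebraMap k Γ(Y, ⊤)) :=
    (Algebra.finrank_eq_one_iff_bijective_algebraMap).1 h2
  -- remove the identification of the functions on the spectrum of the field
  have hiso : Function.Bijective (Scheme.ΓSpecIso (CommRingCat.of k)).hom.hom :=
    (ConcreteCategory.isIso_iff_bijective (Scheme.ΓSpecIso (CommRingCat.of k)).hom).1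
      inferInstance
  have hcomp : q.appTop.hom = (algebraMap k Γ(Y, ⊤)).comp
      (Scheme.ΓSpecIso (CommRingCat.of k)).hom.hom := by
    ext x
    change q.appTop.hom x = q.appTop.hom ((Scheme.ΓSpecIso (CommRingCat.of k)).inv.hom
      ((Scheme.ΓSpecIso (CommRingCat.of k)).hom.hom x))
    have h3 : (Scheme.ΓSpecIso (CommRingCat.of k)).inv.hom
        ((Scheme.ΓSpecIso (CommRingCat.of k)).hom.hom x) = x :=
      congrArg (fun ψ => ψ.hom x) (Scheme.ΓSpecIso (CommRingCat.of k)).hom_inv_id
    rw [h3]
  rw [hcomp, RingHom.coe_comp]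
  exact hbijk.comp hiso

end Field

section Main

variable {X S : Scheme.{u}} (f : X ⟶ S) [IsProper f] [Flat f] [LocallyOfFinitePresentation f]

/-- **a proper flat finitely presented morphism with reduced and connected geometric fibres has
`O_S = f_* O_X`** -/
theorem isIso_app_of_geom_reduced_connected
    (h : ∀ (K : Type u) [Field K] [IsAlgClosed K] (g : Spec (CommRingCat.of K) ⟶ S),
      IsReduced (pullback f g) ∧ ConnectedSpace ↥(pullback f g))
    (V : S.Opens) : IsIso (f.app V) := by
  refine isIso_app_of_h0 f (fun s => ?_) V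
  haveI : IsProper (f.fiberToSpecResidueField s) := by
    change IsProper (pullback.snd f (S.fromSpecResidueField s)); infer_instance
  have P3 : IsPullback (f.fiberι s) (f.fiberToSpecResidueField s) f
      (S.fromSpecResidueField s) := IsPullback.of_hasPullback f (S.fromSpecResidueField s)
  have hb := bijective_appTop_of_geom_reduced_connected (S.residueField s)
    (f.fiberToSpecResidueField s) (AlgebraicClosure (S.residueField s)) (by
      intro Z a p P
      have P123 := P.paste_horiz P3
      obtain ⟨hred, hconn⟩ := h (AlgebraicClosure (S.residueField s))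
        (Spec.map (CommRingCat.ofHom (algebraMap (S.residueField s)
          (AlgebraicClosure (S.residueField s)))) ≫ S.fromSpecResidueField s)
      haveI := hred
      haveI := hconn
      refine ⟨isReduced_of_isOpenImmersion P123.isoPullback.hom, ?_⟩
      have hsurj : Function.Surjective P123.isoPullback.inv := fun z =>
        ⟨P123.isoPullback.hom z, by
          rw [← Scheme.Hom.comp_apply, P123.isoPullback.hom_inv_id]; rfl⟩
      exact hsurj.connectedSpace P123.isoPullback.inv.continuous)
  exact (ConcreteCategory.isIso_iff_bijective _).2 hb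

end Main

end Groth.Agent.Helper7.GenBC
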