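import Mathlib
import Groth.Prelude.Def_CohCmp
import Groth.Agent.Lib.Helper7.GenBC.EpiZero

set_option linter.style.haveILetI false
set_option linter.unusedVariables false
set_option linter.unusedSectionVars false
set_option autoImplicit false
set_option backward.isDefEq.respectTransparency.types false
set_option backward.isDefEq.respectTransparency false
set_option synthInstance.maxHeartbeats 400000
set_option maxHeartbeats 1600000

universe u

/-! helper7: horizontal composition of the base change maps of higher direct images -/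

open CategoryTheory CategoryTheory.Limits Opposite TopologicalSpace AlgebraicGeometry
open AlgebraicGeometry.Scheme.Modules
open Groth.Agent.Lead.BCU

namespace Groth.Agent.Helper7.GenBC.HComp

section Basic

theorem presheaf_map_self {Z : Scheme.{u}} (H : Z.Modules) {O : Z.Opens} (a : op O ⟶ op O)
    (x : Γ(H, O)) : H.presheaf.map a x = x := by
  have : a = 𝟙 _ := Subsingleton.elim _ _
  rw [this, CategoryTheory.Functor.map_id]
  rfl

theorem map_map_self {Z : Scheme.{u}} (H : Z.Modules) {O O' : Z.Opens} (a : op O ⟶ op O')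
    (b : op O' ⟶ op O) (x : Γ(H, O)) : H.presheaf.map b (H.presheaf.map a x) = x := by
  rw [← ConcreteCategory.comp_apply, ← CategoryTheory.Functor.map_comp]
  exact presheaf_map_self H _ x

theorem res_rfl {Z : Scheme.{u}} (H : Z.Modules) {O : Z.Opens} (h : O ≤ O) (x : Γ(H, O)) :
    res H h x = x :=
  presheaf_map_self H _ x

theorem iso_hom_inv_app {Z : Scheme.{u}} {K₁ K₂ : Z.Modules} (θ : K₁ ≅ K₂) (O : Z.Opens)
    (z : Γ(K₁, O)) : θ.inv.app O (θ.hom.app O z) = z := by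
  have h := congrArg (fun φ => Hom.app φ O) θ.hom_inv_id
  exact congrArg (fun φ => φ z) h

theorem iso_inv_hom_app {Z : Scheme.{u}} {K₁ K₂ : Z.Modules} (θ : K₁ ≅ K₂) (O : Z.Opens)
    (z : Γ(K₂, O)) : θ.hom.app O (θ.inv.app O z) = z := by
  have h := congrArg (fun φ => Hom.app φ O) θ.inv_hom_id
  exact congrArg (fun φ => φ z) h

variable {A C : Scheme.{u}} (k : A ⟶ C)

theorem unitRes_rfl (G : C.Modules) (O : C.Opens) (m : Γ(G, O)) :
    unitRes k G (le_refl (k ⁻¹ᵁ O)) m =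
      ((pullbackPushforwardAdjunction k).unit.app G).app O m :=
  res_rfl _ _ _

theorem unit_naturality_apply {G G' : C.Modules} (ψ : G ⟶ G') (O : C.Opens) (m : Γ(G, O)) :
    ((Scheme.Modules.pullback k).map ψ).app (k ⁻¹ᵁ O)
        (((pullbackPushforwardAdjunction k).unit.app G).app O m) =
      ((pullbackPushforwardAdjunction k).unit.app G').app O (ψ.app O m) := by
  have h := (pullbackPushforwardAdjunction k).unit.naturality ψ
  have h2 := congrArg (fun φ => Hom.app φ O) h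
  have h3 := congrArg (fun φ => φ m) h2
  exact h3.symm

theorem map_unitRes {G G' : C.Modules} (ψ : G ⟶ G') {O : C.Opens} {O' : A.Opens}
    (e : O' ≤ k ⁻¹ᵁ O) (m : Γ(G, O)) :
    ((Scheme.Modules.pullback k).map ψ).app O' (unitRes k G e m) =
      unitRes k G' e (ψ.app O m) := by
  unfold unitRes
  refine (app_res _ e _).trans ?_
  exact congrArg (res _ e) (unit_naturality_apply k ψ O m)

theorem transp_unit (M : C.Modules) (N : A.Modules)
    (φ : M ⟶ (pushforward k).obj N) (V : C.Opens) (m : Γ(M, V)) :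
    (transp k M N φ).app (k ⁻¹ᵁ V) (((pullbackPushforwardAdjunction k).unit.app M).app V m) =
      φ.app V m := by
  have e1 : (pullbackPushforwardAdjunction k).unit.app M ≫
      (pushforward k).map (transp k M N φ) = φ := by
    have h0 := (pullbackPushforwardAdjunction k).homEquiv_unit (f := transp k M N φ)
    rw [← h0]
    exact Equiv.apply_symm_apply _ _
  have e2 := congrArg (fun ψ => Hom.app ψ V) e1
  exact congrArg (fun ψ => ψ m) e2

end Basic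

section Ext

theorem eq_of_locally' {X : Scheme.{u}} (M : X.Modules) {O : X.Opens} (s t : Γ(M, O))
    (h : ∀ x ∈ O, ∃ (W : X.Opens) (hW : W ≤ O), x ∈ W ∧ res M hW s = res M hW t) : s = t := by
  have h' : ∀ x : O, ∃ (W : X.Opens) (hW : W ≤ O), x.1 ∈ W ∧ res M hW s = res M hW t :=
    fun x => h x.1 x.2
  choose W hW hxW he using h'
  let FM : TopCat.Sheaf Ab X := ⟨M.presheaf, M.isSheaf⟩
  exact FM.eq_of_locally_eq' W O (fun x => homOfLE (hW x))
    (fun x hx => Opens.mem_iSup.2 ⟨⟨x, hx⟩, hxW ⟨x, hx⟩⟩) s t he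

theorem hom_ext_of_affine {Z : Scheme.{u}} {M N : Z.Modules} (a b : M ⟶ N)
    (h : ∀ (W₀ : Z.Opens), IsAffineOpen W₀ → ∀ m : Γ(M, W₀), a.app W₀ m = b.app W₀ m) :
    a = b := by
  apply Scheme.Modules.hom_ext
  intro O
  apply ConcreteCategory.hom_ext
  intro m
  apply eq_of_locally' N
  intro x hx
  obtain ⟨_, ⟨W₀, hW₀, rfl⟩, hxW, hle⟩ :=
    Z.isBasis_affineOpens.exists_subset_of_mem_open hx O.2
  have hle' : W₀ ≤ O := fun y hy => hle hy
  refine ⟨W₀, hle', hxW, ?_⟩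
  refine ((app_res a hle' m).symm.trans ?_).trans (app_res b hle' m)
  exact h W₀ hW₀ _

theorem pullback_hom_ext {A C : Scheme.{u}} (k : A ⟶ C) {G : C.Modules} {N : A.Modules}
    (α β : (Scheme.Modules.pullback k).obj G ⟶ N)
    (h : ∀ (O : C.Opens) (m : Γ(G, O)),
      α.app (k ⁻¹ᵁ O) (((pullbackPushforwardAdjunction k).unit.app G).app O m) =
        β.app (k ⁻¹ᵁ O) (((pullbackPushforwardAdjunction k).unit.app G).app O m)) : α = β := by
  apply ((pullbackPushforwardAdjunction k).homEquiv _ _).injective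
  simp only [Adjunction.homEquiv_unit]
  apply Scheme.Modules.hom_ext
  intro O
  apply ConcreteCategory.hom_ext
  intro m
  exact h O m

theorem pullback2_hom_ext {A B C : Scheme.{u}} (k₁ : A ⟶ B) (k₂ : B ⟶ C) {G : C.Modules}
    {N : A.Modules}
    (α β : (Scheme.Modules.pullback k₁).obj ((Scheme.Modules.pullback k₂).obj G) ⟶ N)
    (h : ∀ (O : C.Opens), IsAffineOpen O → ∀ (m : Γ(G, O)),
      α.app (k₁ ⁻¹ᵁ (k₂ ⁻¹ᵁ O))
          (((pullbackPushforwardAdjunction k₁).unit.app ((Scheme.Modules.pullback k₂).obj G)).app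
            (k₂ ⁻¹ᵁ O) (((pullbackPushforwardAdjunction k₂).unit.app G).app O m)) =
        β.app (k₁ ⁻¹ᵁ (k₂ ⁻¹ᵁ O))
          (((pullbackPushforwardAdjunction k₁).unit.app ((Scheme.Modules.pullback k₂).obj G)).app
            (k₂ ⁻¹ᵁ O) (((pullbackPushforwardAdjunction k₂).unit.app G).app O m))) : α = β := by
  apply ((pullbackPushforwardAdjunction k₁).homEquiv _ _).injective
  apply ((pullbackPushforwardAdjunction k₂).homEquiv _ _).injective
  simp only [Adjunction.homEquiv_unit]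
  apply hom_ext_of_affine
  intro O hO m
  exact h O hO m

end Ext

section RestrictIso

theorem restrictIso_hom_app {X : Scheme.{u}} (U : X.Opens) (F : X.Modules)
    (O : (↑U : Scheme.{u}).Opens) (m : Γ(F, U.ι ''ᵁ O)) :
    ((restrictFunctorIsoPullback U.ι).hom.app F).app O m =
      unitRes U.ι F (le_of_eq (U.ι.preimage_image_eq O).symm) m := by
  have e : O ≤ U.ι ⁻¹ᵁ (U.ι ''ᵁ O) := le_of_eq (U.ι.preimage_image_eq O).symm
  have h1 := unit_openImm_apply U.ι F (U.ι ''ᵁ O) m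
  have h2 := app_res ((restrictFunctorIsoPullback U.ι).hom.app F) e
    (res F (U.ι.image_preimage_le (U.ι ''ᵁ O)) m)
  have h3 : res (F.restrict U.ι) e (res F (U.ι.image_preimage_le (U.ι ''ᵁ O)) m) = m :=
    map_map_self F (homOfLE (U.ι.image_preimage_le (U.ι ''ᵁ O))).op
      (U.ι.opensFunctor.map (homOfLE e)).op m
  unfold unitRes
  exact ((congrArg (fun z => ((restrictFunctorIsoPullback U.ι).hom.app F).app O z) h3).symm.trans
    h2).trans (congrArg (res _ e) h1.symm)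

end RestrictIso

section PullOnIso

variable {X Y : Scheme.{u}} (g : X ⟶ Y) (U : Y.Opens) (U' : X.Opens) (h : U' ≤ g ⁻¹ᵁ U)
  (F : Y.Modules)

theorem le_aux (O : (↑U : Scheme.{u}).Opens) :
    U'.ι ''ᵁ ((g.resLE U U' h) ⁻¹ᵁ O) ≤ g ⁻¹ᵁ (U.ι ''ᵁ O) := by
  have e₀ : O ≤ U.ι ⁻¹ᵁ (U.ι ''ᵁ O) := le_of_eq (U.ι.preimage_image_eq O).symm
  have hO : (g.resLE U U' h) ⁻¹ᵁ O ≤ (g.resLE U U' h ≫ U.ι) ⁻¹ᵁ (U.ι ''ᵁ O) :=
    (g.resLE U U' h).preimage_mono e₀
  rw [Scheme.Hom.resLE_comp_ι g h] at hO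
  rintro _ ⟨y, hy, rfl⟩
  exact hO hy

theorem pullOnIso_unit (O : (↑U : Scheme.{u}).Opens) (m : Γ(F, U.ι ''ᵁ O)) :
    (CohPull.pullOnIso g U U' h F).hom.app ((g.resLE U U' h) ⁻¹ᵁ O)
        (((pullbackPushforwardAdjunction (g.resLE U U' h)).unit.app (F.restrict U.ι)).app O m) =
      unitRes g F (le_aux g U U' h O) m := by
  have e₀ : O ≤ U.ι ⁻¹ᵁ (U.ι ''ᵁ O) := le_of_eq (U.ι.preimage_image_eq O).symm
  have hO : (g.resLE U U' h) ⁻¹ᵁ O ≤ (g.resLE U U' h ≫ U.ι) ⁻¹ᵁ (U.ι ''ᵁ O) :=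
    (g.resLE U U' h).preimage_mono e₀
  have hO' : (g.resLE U U' h) ⁻¹ᵁ O ≤ (U'.ι ≫ g) ⁻¹ᵁ (U.ι ''ᵁ O) := by
    have := hO
    rw [Scheme.Hom.resLE_comp_ι g h] at this
    exact this
  have eB : U'.ι ''ᵁ ((g.resLE U U' h) ⁻¹ᵁ O) ≤ g ⁻¹ᵁ (U.ι ''ᵁ O) := le_aux g U U' h O
  have eA : (g.resLE U U' h) ⁻¹ᵁ O ≤ U'.ι ⁻¹ᵁ (U'.ι ''ᵁ ((g.resLE U U' h) ⁻¹ᵁ O)) :=
    le_of_eq (U'.ι.preimage_image_eq _).symm
  have s1 : ((Scheme.Modules.pullback (g.resLE U U' h)).map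
        ((restrictFunctorIsoPullback U.ι).hom.app F)).app ((g.resLE U U' h) ⁻¹ᵁ O)
        (((pullbackPushforwardAdjunction (g.resLE U U' h)).unit.app (F.restrict U.ι)).app O m) =
      unitRes (g.resLE U U' h) ((Scheme.Modules.pullback U.ι).obj F) (le_refl _)
        (unitRes U.ι F e₀ m) := by
    refine (unit_naturality_apply (g.resLE U U' h) ((restrictFunctorIsoPullback U.ι).hom.app F)
      O m).trans ?_
    refine Eq.trans ?_ (unitRes_rfl (g.resLE U U' h) _ O (unitRes U.ι F e₀ m)).symm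
    exact congrArg (fun z => ((pullbackPushforwardAdjunction (g.resLE U U' h)).unit.app
      ((Scheme.Modules.pullback U.ι).obj F)).app O z) (restrictIso_hom_app U F O m)
  have s2 := pullbackComp_unitRes (g.resLE U U' h) U.ι F e₀ (le_refl _) hO m
  have s3 : ((pullbackCongr (Scheme.Hom.resLE_comp_ι g h)).hom.app F).app
        ((g.resLE U U' h) ⁻¹ᵁ O) (unitRes (g.resLE U U' h ≫ U.ι) F hO m) =
      unitRes (U'.ι ≫ g) F hO' m :=
    congr_unit_res (Scheme.Hom.resLE_comp_ι g h) F (U.ι ''ᵁ O) hO hO' m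
  have s4 := pullbackComp_unitRes U'.ι g F eB eA hO' m
  have s4' : ((pullbackComp U'.ι g).inv.app F).app ((g.resLE U U' h) ⁻¹ᵁ O)
        (unitRes (U'.ι ≫ g) F hO' m) =
      unitRes U'.ι ((Scheme.Modules.pullback g).obj F) eA (unitRes g F eB m) := by
    rw [← s4]
    exact iso_hom_inv_app ((pullbackComp U'.ι g).app F) _ _
  have s5 := restrictIso_hom_app U' ((Scheme.Modules.pullback g).obj F)
    ((g.resLE U U' h) ⁻¹ᵁ O) (unitRes g F eB m)
  have s5' : ((restrictFunctorIsoPullback U'.ι).inv.app ((Scheme.Modules.pullback g).obj F)).app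
        ((g.resLE U U' h) ⁻¹ᵁ O)
        (unitRes U'.ι ((Scheme.Modules.pullback g).obj F) eA (unitRes g F eB m)) =
      unitRes g F eB m := by
    rw [← s5]
    exact iso_hom_inv_app ((restrictFunctorIsoPullback U'.ι).app
      ((Scheme.Modules.pullback g).obj F)) _ _
  have t2 := (congrArg (fun z => ((pullbackComp (g.resLE U U' h) U.ι).hom.app F).app
    ((g.resLE U U' h) ⁻¹ᵁ O) z) s1).trans s2
  have t3 := (congrArg (fun z => ((pullbackCongr (Scheme.Hom.resLE_comp_ι g h)).hom.app F).app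
    ((g.resLE U U' h) ⁻¹ᵁ O) z) t2).trans s3
  have t4 := (congrArg (fun z => ((pullbackComp U'.ι g).inv.app F).app
    ((g.resLE U U' h) ⁻¹ᵁ O) z) t3).trans s4'
  have t5 := (congrArg (fun z => ((restrictFunctorIsoPullback U'.ι).inv.app
    ((Scheme.Modules.pullback g).obj F)).app ((g.resLE U U' h) ⁻¹ᵁ O) z) t4).trans s5'
  exact t5

theorem pullOnIso_unit_congr (k : (↑U' : Scheme.{u}) ⟶ (↑U : Scheme.{u}))
    (hk : k = g.resLE U U' h) (O : (↑U : Scheme.{u}).Opens) (m : Γ(F, U.ι ''ᵁ O))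
    (e' : U'.ι ''ᵁ (k ⁻¹ᵁ O) ≤ g ⁻¹ᵁ (U.ι ''ᵁ O)) :
    (CohPull.pullOnIso g U U' h F).hom.app (k ⁻¹ᵁ O)
        (((pullbackCongr hk).hom.app (F.restrict U.ι)).app (k ⁻¹ᵁ O)
          (((pullbackPushforwardAdjunction k).unit.app (F.restrict U.ι)).app O m)) =
      unitRes g F e' m := by
  subst hk
  have : (pullbackCongr (rfl : g.resLE U U' h = g.resLE U U' h)).hom.app (F.restrict U.ι) =
      𝟙 _ := by
    simp [pullbackCongr]
  rw [this]
  exact pullOnIso_unit g U U' h F O m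

end PullOnIso

section Comp

variable {X Y Z : Scheme.{u}} (f : X ⟶ Y) (g : Y ⟶ Z) (UZ : Z.Opens) (UY : Y.Opens)
  (UX : X.Opens) (h₂ : UY ≤ g ⁻¹ᵁ UZ) (h₁ : UX ≤ f ⁻¹ᵁ UY) (h₃ : UX ≤ (f ≫ g) ⁻¹ᵁ UZ)
  (L : Z.Modules)

theorem resLE_comp_eq :
    f.resLE UY UX h₁ ≫ g.resLE UZ UY h₂ = (f ≫ g).resLE UZ UX h₃ := by
  rw [Scheme.Hom.resLE_comp_resLE]

theorem pullOnIso_comp :
    (pullbackComp (f.resLE UY UX h₁) (g.resLE UZ UY h₂)).inv.app (L.restrict UZ.ι) ≫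
      (Scheme.Modules.pullback (f.resLE UY UX h₁)).map (CohPull.pullOnIso g UZ UY h₂ L).hom ≫
      (CohPull.pullOnIso f UY UX h₁ ((Scheme.Modules.pullback g).obj L)).hom ≫
      (restrictFunctor UX.ι).map ((pullbackComp f g).hom.app L) =
    (pullbackCongr (resLE_comp_eq f g UZ UY UX h₂ h₁ h₃)).hom.app (L.restrict UZ.ι) ≫
      (CohPull.pullOnIso (f ≫ g) UZ UX h₃ L).hom := by
  apply pullback_hom_ext (f.resLE UY UX h₁ ≫ g.resLE UZ UY h₂)
  intro O m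
  have hO : UX.ι ''ᵁ ((f.resLE UY UX h₁ ≫ g.resLE UZ UY h₂) ⁻¹ᵁ O) ≤
      (f ≫ g) ⁻¹ᵁ (UZ.ι ''ᵁ O) :=
    (le_aux f UY UX h₁ ((g.resLE UZ UY h₂) ⁻¹ᵁ O)).trans
      (f.preimage_mono (le_aux g UZ UY h₂ O))
  have a1 := unit_comp_apply (f.resLE UY UX h₁) (g.resLE UZ UY h₂) (L.restrict UZ.ι) O m
  have b1 := unit_naturality_apply (f.resLE UY UX h₁) (CohPull.pullOnIso g UZ UY h₂ L).hom
    ((g.resLE UZ UY h₂) ⁻¹ᵁ O)
    (((pullbackPushforwardAdjunction (g.resLE UZ UY h₂)).unit.app (L.restrict UZ.ι)).app O m)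
  have b2 := pullOnIso_unit g UZ UY h₂ L O m
  have c1 := pullOnIso_unit f UY UX h₁ ((Scheme.Modules.pullback g).obj L)
    ((g.resLE UZ UY h₂) ⁻¹ᵁ O) (unitRes g L (le_aux g UZ UY h₂ O) m)
  have d1 := pullbackComp_unitRes f g L (le_aux g UZ UY h₂ O)
    (le_aux f UY UX h₁ ((g.resLE UZ UY h₂) ⁻¹ᵁ O)) hO m
  have r1 := pullOnIso_unit_congr (f ≫ g) UZ UX h₃ L
    (f.resLE UY UX h₁ ≫ g.resLE UZ UY h₂) (resLE_comp_eq f g UZ UY UX h₂ h₁ h₃) O m hO
  have t1 := (congrArg (fun z => ((Scheme.Modules.pullback (f.resLE UY UX h₁)).map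
    (CohPull.pullOnIso g UZ UY h₂ L).hom).app
      ((f.resLE UY UX h₁ ≫ g.resLE UZ UY h₂) ⁻¹ᵁ O) z) a1.symm).trans b1
  have t2 := t1.trans (congrArg (fun z => ((pullbackPushforwardAdjunction
    (f.resLE UY UX h₁)).unit.app (((Scheme.Modules.pullback g).obj L).restrict UY.ι)).app
      ((g.resLE UZ UY h₂) ⁻¹ᵁ O) z) b2)
  have t3 := (congrArg (fun z => (CohPull.pullOnIso f UY UX h₁
    ((Scheme.Modules.pullback g).obj L)).hom.app
      ((f.resLE UY UX h₁ ≫ g.resLE UZ UY h₂) ⁻¹ᵁ O) z) t2).trans c1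
  have t4 := (congrArg (fun z => ((restrictFunctor UX.ι).map ((pullbackComp f g).hom.app L)).app
      ((f.resLE UY UX h₁ ≫ g.resLE UZ UY h₂) ⁻¹ᵁ O) z) t3).trans d1
  exact t4.trans r1.symm

theorem pullMod_congr {A C : Scheme.{u}} {k k' : A ⟶ C} (e : k = k') (G : C.Modules) (p : ℕ)
    (x : Coh.HH C G p) :
    CohPull.pullMod k' G p x =
      CohPull.mapH ((pullbackCongr e).hom.app G) p (CohPull.pullMod k G p x) := by
  subst e
  have : (pullbackCongr (rfl : k = k)).hom.app G = 𝟙 _ := by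
    simp [pullbackCongr]
  rw [this]
  change _ = Sheaf.H.map ((SheafOfModules.toSheaf _).map (𝟙 _)) p _
  rw [CategoryTheory.Functor.map_id, Sheaf.H.map_id_apply]

theorem pullOn_comp (p : ℕ) (x : Coh.HHon Z L UZ p) :
    CohPull.pullOn (f ≫ g) UZ UX h₃ L p x =
      CohPull.mapH ((restrictFunctor UX.ι).map ((pullbackComp f g).hom.app L)) p
        (CohPull.pullOn f UY UX h₁ ((Scheme.Modules.pullback g).obj L) p
          (CohPull.pullOn g UZ UY h₂ L p x)) := by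
  have e1 : CohPull.pullOn (f ≫ g) UZ UX h₃ L p x =
      CohPull.mapH (CohPull.pullOnIso (f ≫ g) UZ UX h₃ L).hom p
        (CohPull.pullMod ((f ≫ g).resLE UZ UX h₃) (L.restrict UZ.ι) p x) := rfl
  have e2 : CohPull.pullOn g UZ UY h₂ L p x =
      CohPull.mapH (CohPull.pullOnIso g UZ UY h₂ L).hom p
        (CohPull.pullMod (g.resLE UZ UY h₂) (L.restrict UZ.ι) p x) := rfl
  have e3 : ∀ y, CohPull.pullOn f UY UX h₁ ((Scheme.Modules.pullback g).obj L) p y =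
      CohPull.mapH (CohPull.pullOnIso f UY UX h₁ ((Scheme.Modules.pullback g).obj L)).hom p
        (CohPull.pullMod (f.resLE UY UX h₁)
          (((Scheme.Modules.pullback g).obj L).restrict UY.ι) p y) := fun y => rfl
  have hL : CohPull.pullOn (f ≫ g) UZ UX h₃ L p x =
      CohPull.mapH ((pullbackCongr (resLE_comp_eq f g UZ UY UX h₂ h₁ h₃)).hom.app
          (L.restrict UZ.ι) ≫ (CohPull.pullOnIso (f ≫ g) UZ UX h₃ L).hom) p
        (CohPull.pullMod (f.resLE UY UX h₁ ≫ g.resLE UZ UY h₂) (L.restrict UZ.ι) p x) := by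
    rw [e1, pullMod_congr (resLE_comp_eq f g UZ UY UX h₂ h₁ h₃), mapH_mapH]
  have hR : CohPull.mapH ((restrictFunctor UX.ι).map ((pullbackComp f g).hom.app L)) p
        (CohPull.pullOn f UY UX h₁ ((Scheme.Modules.pullback g).obj L) p
          (CohPull.pullOn g UZ UY h₂ L p x)) =
      CohPull.mapH ((pullbackComp (f.resLE UY UX h₁) (g.resLE UZ UY h₂)).inv.app
          (L.restrict UZ.ι) ≫
        (Scheme.Modules.pullback (f.resLE UY UX h₁)).map (CohPull.pullOnIso g UZ UY h₂ L).hom ≫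
        (CohPull.pullOnIso f UY UX h₁ ((Scheme.Modules.pullback g).obj L)).hom ≫
        (restrictFunctor UX.ι).map ((pullbackComp f g).hom.app L)) p
        (CohPull.pullMod (f.resLE UY UX h₁ ≫ g.resLE UZ UY h₂) (L.restrict UZ.ι) p x) := by
    rw [e2, e3, pullMod_mapH, pullMod_comp]
    refine (congrArg (fun t => CohPull.mapH ((restrictFunctor UX.ι).map
      ((pullbackComp f g).hom.app L)) p (CohPull.mapH (CohPull.pullOnIso f UY UX h₁
        ((Scheme.Modules.pullback g).obj L)).hom p t)) (mapH_mapH _ _ p _)).trans ?_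
    refine (congrArg (fun t => CohPull.mapH ((restrictFunctor UX.ι).map
      ((pullbackComp f g).hom.app L)) p t) (mapH_mapH _ _ p _)).trans ?_
    refine (mapH_mapH _ _ p _).trans ?_
    refine congrArg (fun t => CohPull.mapH t p _) ?_
    simp only [Category.assoc]
  rw [hL, hR, pullOnIso_comp]

end Comp

section Main

/-- **horizontal composition of the base change maps of higher direct images** -/
theorem bc_comp_horizontal
    {X Y Z U V W : Scheme.{u}} (f : X ⟶ Y) (g : Y ⟶ Z) (ξ : X ⟶ U) (η : Y ⟶ V) (ζ : Z ⟶ W)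
    (φ : U ⟶ V) (ψ : V ⟶ W) (w₁ : f ≫ η = ξ ≫ φ) (w₂ : g ≫ ζ = η ≫ ψ)
    (hw : (f ≫ g) ≫ ζ = ξ ≫ (φ ≫ ψ))
    [QuasiCompact ζ] [QuasiSeparated ζ]
    [HasInjectiveResolutions X.Modules] [HasInjectiveResolutions Y.Modules]
    [HasInjectiveResolutions Z.Modules]
    (L : Z.Modules) [L.IsQuasicoherent] (p : ℕ)
    {Δζ : RDer.DerivedLES (pushforward ζ)} {Δη : RDer.DerivedLES (pushforward η)}
    {Δξ : RDer.DerivedLES (pushforward ξ)}
    (Eζ : CohCmp.SectCmp ζ Δζ) (Eη : CohCmp.SectCmp η Δη) (Eξ : CohCmp.SectCmp ξ Δξ)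
    (B₂ : CohCmp.GenBC ζ ψ η g w₂ Eζ Eη) (B₁ : CohCmp.GenBC η φ ξ f w₁ Eη Eξ)
    (B : CohCmp.GenBC ζ (φ ≫ ψ) ξ (f ≫ g) hw Eζ Eξ) :
    (pullbackComp φ ψ).hom.app ((Coh.Rpush ζ p).obj L) ≫ B.bc p L =
      (Scheme.Modules.pullback φ).map (B₂.bc p L) ≫
        B₁.bc p ((Scheme.Modules.pullback g).obj L) ≫
        (Coh.Rpush ξ p).map ((pullbackComp f g).hom.app L) := by
  apply pullback2_hom_ext φ ψ
  intro W₀ hW₀ m
  obtain ⟨x, rfl⟩ := (eps_bijective_of_isAffineOpen ζ Eζ W₀ hW₀ L p).2 m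
  -- the left hand side
  have l1 := unit_comp_apply φ ψ ((Coh.Rpush ζ p).obj L) W₀ (Eζ.ε W₀ L p x)
  have l2 : ((pullbackComp φ ψ).hom.app ((Coh.Rpush ζ p).obj L)).app (φ ⁻¹ᵁ (ψ ⁻¹ᵁ W₀))
      (((pullbackPushforwardAdjunction φ).unit.app
        ((Scheme.Modules.pullback ψ).obj ((Coh.Rpush ζ p).obj L))).app (ψ ⁻¹ᵁ W₀)
        (((pullbackPushforwardAdjunction ψ).unit.app ((Coh.Rpush ζ p).obj L)).app W₀
          (Eζ.ε W₀ L p x))) =
      ((pullbackPushforwardAdjunction (φ ≫ ψ)).unit.app ((Coh.Rpush ζ p).obj L)).app W₀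
        (Eζ.ε W₀ L p x) := by
    rw [l1]
    exact iso_inv_hom_app ((pullbackComp φ ψ).app ((Coh.Rpush ζ p).obj L)) _ _
  have l3 := transp_unit (φ ≫ ψ) ((Coh.Rpush ζ p).obj L)
    ((Coh.Rpush ξ p).obj ((Scheme.Modules.pullback (f ≫ g)).obj L)) (B.φ p L) W₀
    (Eζ.ε W₀ L p x)
  have l4 := B.compat W₀ L p x
  have lchain := (congrArg (fun z => (B.bc p L).app (φ ⁻¹ᵁ (ψ ⁻¹ᵁ W₀)) z) l2).trans
    (l3.trans l4)
  -- the right hand side
  have r1 := unit_naturality_apply φ (B₂.bc p L) (ψ ⁻¹ᵁ W₀)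
    (((pullbackPushforwardAdjunction ψ).unit.app ((Coh.Rpush ζ p).obj L)).app W₀
      (Eζ.ε W₀ L p x))
  have r2 := transp_unit ψ ((Coh.Rpush ζ p).obj L)
    ((Coh.Rpush η p).obj ((Scheme.Modules.pullback g).obj L)) (B₂.φ p L) W₀ (Eζ.ε W₀ L p x)
  have r3 := B₂.compat W₀ L p x
  have r4 := transp_unit φ ((Coh.Rpush η p).obj ((Scheme.Modules.pullback g).obj L))
    ((Coh.Rpush ξ p).obj ((Scheme.Modules.pullback f).obj ((Scheme.Modules.pullback g).obj L)))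
    (B₁.φ p ((Scheme.Modules.pullback g).obj L)) (ψ ⁻¹ᵁ W₀)
    (Eη.ε (ψ ⁻¹ᵁ W₀) ((Scheme.Modules.pullback g).obj L) p
      (CohPull.pullOn g (ζ ⁻¹ᵁ W₀) (η ⁻¹ᵁ (ψ ⁻¹ᵁ W₀)) (CohCmp.sqLE ζ ψ η g w₂ W₀) L p x))
  have r5 := B₁.compat (ψ ⁻¹ᵁ W₀) ((Scheme.Modules.pullback g).obj L) p
    (CohPull.pullOn g (ζ ⁻¹ᵁ W₀) (η ⁻¹ᵁ (ψ ⁻¹ᵁ W₀)) (CohCmp.sqLE ζ ψ η g w₂ W₀) L p x)
  have r6 := Eξ.natural (φ ⁻¹ᵁ (ψ ⁻¹ᵁ W₀)) ((pullbackComp f g).hom.app L) p
    (CohPull.pullOn f (η ⁻¹ᵁ (ψ ⁻¹ᵁ W₀)) (ξ ⁻¹ᵁ (φ ⁻¹ᵁ (ψ ⁻¹ᵁ W₀)))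
      (CohCmp.sqLE η φ ξ f w₁ (ψ ⁻¹ᵁ W₀)) ((Scheme.Modules.pullback g).obj L) p
      (CohPull.pullOn g (ζ ⁻¹ᵁ W₀) (η ⁻¹ᵁ (ψ ⁻¹ᵁ W₀)) (CohCmp.sqLE ζ ψ η g w₂ W₀) L p x))
  have t1 := r1.trans (congrArg (fun z => ((pullbackPushforwardAdjunction φ).unit.app
    ((Coh.Rpush η p).obj ((Scheme.Modules.pullback g).obj L))).app (ψ ⁻¹ᵁ W₀) z)
    (r2.trans r3))
  have t2 := (congrArg (fun z => (B₁.bc p ((Scheme.Modules.pullback g).obj L)).app
    (φ ⁻¹ᵁ (ψ ⁻¹ᵁ W₀)) z) t1).trans (r4.trans r5)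
  have t3 := (congrArg (fun z => ((Coh.Rpush ξ p).map ((pullbackComp f g).hom.app L)).app
    (φ ⁻¹ᵁ (ψ ⁻¹ᵁ W₀)) z) t2).trans r6.symm
  have hcomp := pullOn_comp f g (ζ ⁻¹ᵁ W₀) (η ⁻¹ᵁ (ψ ⁻¹ᵁ W₀)) (ξ ⁻¹ᵁ (φ ⁻¹ᵁ (ψ ⁻¹ᵁ W₀)))
    (CohCmp.sqLE ζ ψ η g w₂ W₀) (CohCmp.sqLE η φ ξ f w₁ (ψ ⁻¹ᵁ W₀))
    (CohCmp.sqLE ζ (φ ≫ ψ) ξ (f ≫ g) hw W₀) L p x
  exact lchain.trans ((congrArg (fun z => Eξ.ε (φ ⁻¹ᵁ (ψ ⁻¹ᵁ W₀))
    ((Scheme.Modules.pullback (f ≫ g)).obj L) p z) hcomp).trans t3.symm)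

end Main

end Groth.Agent.Helper7.GenBC.HComp
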