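import Mathlib
import Groth.Prelude.Def_CohCmp
import Groth.Agent.Lib.Helper7.GenBC.EpiTwoRows
import Groth.Agent.Lib.Helper7.Betti.Noeth
import Groth.Agent.Lib.Helper4.FibRank1

set_option linter.style.haveILetI false
set_option linter.unusedVariables false
set_option linter.unusedSectionVars false
set_option autoImplicit false
set_option backward.isDefEq.respectTransparency.types false
set_option backward.isDefEq.respectTransparency false
set_option synthInstance.maxHeartbeats 400000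
set_option maxHeartbeats 1600000

universe u

/-! helper7: fibre rank formula for the model complex over the base ring, free loci of its cokernels, and local constancy of fibre ranks -/

open CategoryTheory CategoryTheory.Limits Opposite TopologicalSpace AlgebraicGeometry Topology
open AlgebraicGeometry.Scheme.Modules TensorProduct
open Groth.Agent.Helper1
open Groth.Agent.Helper1.RpushLoc
open Groth.Agent.Helper1.FlatCxL
open Groth.Agent.Helper3
open Groth.Agent.Lib.Helper4.BaseChgRing1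
open Groth.Agent.Lib.Helper4.TenSec2
open Groth.Agent.Lib.Helper4.LocCech1
open Groth.Agent.Lib.Helper4.CechTen1
open Groth.Agent.Lib.Helper4.ExchAlg1
open Groth.Agent.Lib.Helper4.ExchAlg2
open Groth.Agent.Lib.Helper4.RedRank1
open Groth.Agent.Lib.Helper4.GrauertAlg1
open Groth.Agent.Lead.BCU

namespace Groth.Agent.Helper7.GenBC

attribute [local instance] secMod

section RankAlg

/-- fibre ranks of a base change are the fibre ranks at the contracted primes -/
theorem fibreRank_baseChange {A₀ A : Type u} [CommRing A₀] [CommRing A] [Algebra A₀ A]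
    (Q : Type u) [AddCommGroup Q] [Module A₀ Q] (y : PrimeSpectrum A) :
    fibreRank (A := A) (A ⊗[A₀] Q) y =
      fibreRank Q (PrimeSpectrum.comap (algebraMap A₀ A) y) := by
  let L := y.asIdeal.ResidueField
  haveI : IsScalarTower A₀ A L := inferInstance
  let e2 : L ⊗[A] (A ⊗[A₀] Q) ≃ₗ[L] L ⊗[A₀] Q :=
    TensorProduct.AlgebraTensorModule.cancelBaseChange A₀ A L L Q
  have h1 : fibreRank (A := A) (A ⊗[A₀] Q) y = Module.finrank L (L ⊗[A₀] Q) := e2.finrank_eq
  rw [h1]
  apply finrank_tensor_field_eq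
  rw [PrimeSpectrum.comap_asIdeal]
  ext a
  rw [RingHom.mem_ker, Ideal.mem_comap, IsScalarTower.algebraMap_apply A₀ A L, ← RingHom.mem_ker,
    Ideal.ker_algebraMap_residueField]

variable {A : Type u} [CommRing A] (W : Type u) [AddCommGroup W] [Module A W]

/-- on the free locus the fibre rank is the rank of the stalk -/
theorem fibreRank_eq_rankAtStalk_of_mem_freeLocus (x : PrimeSpectrum A)
    (hx : x ∈ Module.freeLocus A W) : fibreRank W x = Module.rankAtStalk W x := by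
  haveI h1 : Module.Free (Localization.AtPrime x.asIdeal)
      (LocalizedModule x.asIdeal.primeCompl W) := hx
  haveI : Module.Free (Localization.AtPrime x.asIdeal)
      (Localization.AtPrime x.asIdeal ⊗[A] W) :=
    Module.Free.of_equiv (LocalizedModule.equivTensorProduct x.asIdeal.primeCompl W)
  let e : x.asIdeal.ResidueField ⊗[Localization.AtPrime x.asIdeal]
      (Localization.AtPrime x.asIdeal ⊗[A] W) ≃ₗ[x.asIdeal.ResidueField]
      x.asIdeal.ResidueField ⊗[A] W :=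
    TensorProduct.AlgebraTensorModule.cancelBaseChange A (Localization.AtPrime x.asIdeal)
      x.asIdeal.ResidueField x.asIdeal.ResidueField W
  have h2 : fibreRank W x = Module.finrank x.asIdeal.ResidueField
      (x.asIdeal.ResidueField ⊗[Localization.AtPrime x.asIdeal]
        (Localization.AtPrime x.asIdeal ⊗[A] W)) := e.finrank_eq.symm
  rw [h2, Module.finrank_baseChange, Module.rankAtStalk_eq_finrank_tensorProduct]

/-- the fibre rank of a finitely presented module is constant near a point of its free locus -/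
theorem eventually_fibreRank_eq_of_mem_freeLocus [Module.FinitePresentation A W]
    (y : PrimeSpectrum A) (hy : y ∈ Module.freeLocus A W) :
    ∀ᶠ y' in 𝓝 y, fibreRank W y' = fibreRank W y := by
  have hopen : IsOpen (Module.freeLocus A W) := Module.isOpen_freeLocus
  have hlc := Module.isLocallyConstant_rankAtStalk_freeLocus (R := A) (M := W)
  have h1 : ∀ᶠ x in 𝓝 (⟨y, hy⟩ : Module.freeLocus A W),
      Module.rankAtStalk W x.1 = Module.rankAtStalk W y := hlc.eventually_eq ⟨y, hy⟩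
  have h2 : ∀ᶠ y' in 𝓝 y, ∃ h : y' ∈ Module.freeLocus A W,
      Module.rankAtStalk W y' = Module.rankAtStalk W y := by
    have h3 := hopen.isOpenEmbedding_subtypeVal.map_nhds_eq (⟨y, hy⟩ : Module.freeLocus A W)
    rw [← h3, Filter.eventually_map]
    filter_upwards [h1] with x hx
    exact ⟨x.2, hx⟩
  filter_upwards [h2] with y' hy'
  obtain ⟨h, hr⟩ := hy'
  rw [fibreRank_eq_rankAtStalk_of_mem_freeLocus W y' h,
    fibreRank_eq_rankAtStalk_of_mem_freeLocus W y hy, hr]

theorem mem_freeLocus_Wq_congr {B : Type u} [CommRing B]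
    (L : CochainComplex (ModuleCat.{u} B) ℤ) {o o' q q' : ℤ} (ho : o = o') (hq : q = q')
    (y : PrimeSpectrum B) (h : y ∈ Module.freeLocus B (Wq L o q)) :
    y ∈ Module.freeLocus B (Wq L o' q') := by
  subst ho hq
  exact h

end RankAlg

namespace NModel

variable {A : Type u} [CommRing A] {X : Scheme.{u}} {f : X ⟶ Spec (CommRingCat.of A)}
  {F : X.Modules} (M : NModel A f F)

/-- flatness of the cokernels of the base changed complexes passes to further base changes -/
theorem flat_Wq_baseChange {B : Type u} [CommRing B] (ψ : A →+* B) (p q : ℤ)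
    (h : letI : Algebra M.A₀ A := ((RingHom.id A).comp M.j).toAlgebra
      Module.Flat A (Wq (bcK (B := A) M.D.K) p q)) :
    letI : Algebra M.A₀ B := (ψ.comp M.j).toAlgebra
    Module.Flat B (Wq (bcK (B := B) M.D.K) p q) := by
  letI algA : Algebra M.A₀ A := ((RingHom.id A).comp M.j).toAlgebra
  letI algAB : Algebra A B := ψ.toAlgebra
  letI algA₀B : Algebra M.A₀ B := (ψ.comp M.j).toAlgebra
  haveI : IsScalarTower M.A₀ A B := IsScalarTower.of_algebraMap_eq (fun x => rfl)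
  haveI := h
  let e1 : Wq (bcK (B := A) M.D.K) p q ≃ₗ[A] A ⊗[M.A₀] (Wq M.D.K p q) :=
    wEquiv (B := A) M.D.K p q
  let e2 : B ⊗[A] (Wq (bcK (B := A) M.D.K) p q) ≃ₗ[B] B ⊗[A] (A ⊗[M.A₀] (Wq M.D.K p q)) :=
    AlgebraTensorModule.congr (LinearEquiv.refl B B) e1
  let e3 : B ⊗[A] (A ⊗[M.A₀] (Wq M.D.K p q)) ≃ₗ[B] B ⊗[M.A₀] (Wq M.D.K p q) :=
    AlgebraTensorModule.cancelBaseChange M.A₀ A B B (Wq M.D.K p q)
  let e4 : Wq (bcK (B := B) M.D.K) p q ≃ₗ[B] B ⊗[M.A₀] (Wq M.D.K p q) :=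
    wEquiv (B := B) M.D.K p q
  haveI : Module.Flat B (B ⊗[A] (Wq (bcK (B := A) M.D.K) p q)) := inferInstance
  exact Module.Flat.of_linearEquiv (e4 ≪≫ₗ e3.symm ≪≫ₗ e2.symm)

/-- the cokernel of the complex over the base ring is free at a point when the exchange property
holds over a localization at the point -/
theorem mem_freeLocus_Wq_of_local (p : ℤ) (y : PrimeSpectrum A) {B : Type u} [CommRing B]
    [IsLocalRing B] (ψ : A →+* B)
    (hloc : letI : Algebra A B := ψ.toAlgebra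
      IsLocalization.AtPrime B y.asIdeal)
    (hPS : letI : Algebra M.A₀ B := (ψ.comp M.j).toAlgebra
      PresSurj (bcK (B := B) M.D.K) p) :
    letI : Algebra M.A₀ A := ((RingHom.id A).comp M.j).toAlgebra
    y ∈ Module.freeLocus A (Wq (bcK (B := A) M.D.K) p (p + 1)) := by
  letI algA : Algebra M.A₀ A := ((RingHom.id A).comp M.j).toAlgebra
  letI algAB : Algebra A B := ψ.toAlgebra
  letI algA₀B : Algebra M.A₀ B := (ψ.comp M.j).toAlgebra
  haveI : IsScalarTower M.A₀ A B := IsScalarTower.of_algebraMap_eq (fun x => rfl)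
  haveI := hloc
  have hfl : Module.Flat B (Wq (bcK (B := B) M.D.K) p (p + 1)) :=
    (M.presSurj_iff_flat_Wq ψ p).1 hPS
  let e1 : Wq (bcK (B := A) M.D.K) p (p + 1) ≃ₗ[A] A ⊗[M.A₀] (Wq M.D.K p (p + 1)) :=
    wEquiv (B := A) M.D.K p (p + 1)
  let e2 : B ⊗[A] (Wq (bcK (B := A) M.D.K) p (p + 1)) ≃ₗ[B]
      B ⊗[A] (A ⊗[M.A₀] (Wq M.D.K p (p + 1))) :=
    AlgebraTensorModule.congr (LinearEquiv.refl B B) e1
  let e3 : B ⊗[A] (A ⊗[M.A₀] (Wq M.D.K p (p + 1))) ≃ₗ[B] B ⊗[M.A₀] (Wq M.D.K p (p + 1)) :=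
    AlgebraTensorModule.cancelBaseChange M.A₀ A B B (Wq M.D.K p (p + 1))
  let e4 : Wq (bcK (B := B) M.D.K) p (p + 1) ≃ₗ[B] B ⊗[M.A₀] (Wq M.D.K p (p + 1)) :=
    wEquiv (B := B) M.D.K p (p + 1)
  haveI := hfl
  haveI : Module.Flat B (B ⊗[A] (Wq (bcK (B := A) M.D.K) p (p + 1))) :=
    Module.Flat.of_linearEquiv (e2 ≪≫ₗ e3 ≪≫ₗ e4.symm)
  haveI hfinL : ∀ i, Module.Finite A ((bcK (B := A) M.D.K).X i) := fun i => by
    haveI := (M.D.hff i).1
    exact (show Module.Finite A (A ⊗[M.A₀] M.D.K.X i) from inferInstance)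
  haveI hfreeL : ∀ i, Module.Free A ((bcK (B := A) M.D.K).X i) := fun i => by
    haveI := (M.D.hff i).2
    exact (show Module.Free A (A ⊗[M.A₀] M.D.K.X i) from inferInstance)
  haveI := finitePresentation_Wq (bcK (B := A) M.D.K) p (p + 1)
  haveI : Module.Finite B (B ⊗[A] (Wq (bcK (B := A) M.D.K) p (p + 1))) := inferInstance
  haveI : Module.Free B (B ⊗[A] (Wq (bcK (B := A) M.D.K) p (p + 1))) :=
    Module.free_of_flat_of_isLocalRing
  exact (Module.mem_freeLocus_iff_tensor y B).2 inferInstance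

/-- the cokernels of the complex over the base ring are free at the points near which the
exchange property holds -/
theorem mem_freeLocus_Wq (p : ℤ) (g : A)
    (hPS : ∀ (B : Type u) [CommRing B] (ψ : A →+* B), IsUnit (ψ g) →
      letI : Algebra M.A₀ B := (ψ.comp M.j).toAlgebra
      PresSurj (bcK (B := B) M.D.K) p)
    (y : PrimeSpectrum A) (hgy : g ∉ y.asIdeal) :
    letI : Algebra M.A₀ A := ((RingHom.id A).comp M.j).toAlgebra
    y ∈ Module.freeLocus A (Wq (bcK (B := A) M.D.K) p (p + 1)) := by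
  have hu : IsUnit (algebraMap A (Localization.AtPrime y.asIdeal) g) :=
    IsLocalization.map_units (Localization.AtPrime y.asIdeal) (⟨g, hgy⟩ : y.asIdeal.primeCompl)
  have h1 := hPS (Localization.AtPrime y.asIdeal)
    (algebraMap A (Localization.AtPrime y.asIdeal)) hu
  refine M.mem_freeLocus_Wq_of_local p y (algebraMap A (Localization.AtPrime y.asIdeal)) ?_ h1
  have h0 : IsLocalization.AtPrime (Localization.AtPrime y.asIdeal) y.asIdeal := inferInstance
  exact @IsLocalization'.mk A _ y.asIdeal.primeCompl (Localization.AtPrime y.asIdeal) _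
    (algebraMap A (Localization.AtPrime y.asIdeal)).toAlgebra
    ((isLocalization_iff_isLocalizationMap (M := y.asIdeal.primeCompl)
      (S := Localization.AtPrime y.asIdeal)).1 h0)

/-- **the fibre rank formula for the complex over the base ring** -/
theorem fiberRank_add (p : ℕ) (y : ↑(Spec (CommRingCat.of A))) :
    letI : Algebra M.A₀ A := ((RingHom.id A).comp M.j).toAlgebra
    CohIII.fiberRank f F p y + Module.finrank M.A₀ (M.D.K.X ((p : ℤ) + 1)) =
      fibreRank (A := A) (Wq (bcK (B := A) M.D.K) ((p : ℤ) - 1) (p : ℤ)) y +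
        fibreRank (A := A) (Wq (bcK (B := A) M.D.K) (p : ℤ) ((p : ℤ) + 1)) y := by
  letI algA : Algebra M.A₀ A := ((RingHom.id A).comp M.j).toAlgebra
  haveI : M.F₀.IsQuasicoherent := M.hcoh.1
  haveI : ∀ j, Module.Free M.A₀ (M.D.K.X j) := fun j => (M.D.hff j).2
  have hy₀ : (Spec.map (CommRingCat.ofHom M.j)) y =
      PrimeSpectrum.comap (algebraMap M.A₀ A) y := rfl
  have e1 : CohIII.fiberRank f F p y =
      CohIII.fiberRank (M.X₀ ↘ Spec (CommRingCat.of M.A₀)) M.F₀ p
        ((Spec.map (CommRingCat.ofHom M.j)) y) :=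
    (Groth.Agent.Helper7.Betti.betti_congr f M.e y p).symm.trans
      (Groth.Agent.Helper7.Betti.betti_baseChange (M.X₀ ↘ Spec (CommRingCat.of M.A₀))
        (Spec.map (CommRingCat.ofHom M.j)) M.q f M.hpb M.F₀ y p)
  have e2 := Groth.Agent.Lib.Helper4.FibRank1.MData.fiberRank_add M.D p
    ((Spec.map (CommRingCat.ofHom M.j)) y)
  rw [Groth.Agent.Lib.Helper4.FibRank1.fibreRank_free (M.D.K.X ((p : ℤ) + 1))
    ((Spec.map (CommRingCat.ofHom M.j)) y)] at e2
  have w1 : fibreRank (A := A) (Wq (bcK (B := A) M.D.K) ((p : ℤ) - 1) (p : ℤ)) y =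
      fibreRank (Wq M.D.K ((p : ℤ) - 1) (p : ℤ)) ((Spec.map (CommRingCat.ofHom M.j)) y) := by
    rw [fibreRank_congr (wEquiv (B := A) M.D.K ((p : ℤ) - 1) (p : ℤ)) y, fibreRank_baseChange, hy₀]
  have w2 : fibreRank (A := A) (Wq (bcK (B := A) M.D.K) (p : ℤ) ((p : ℤ) + 1)) y =
      fibreRank (Wq M.D.K (p : ℤ) ((p : ℤ) + 1)) ((Spec.map (CommRingCat.ofHom M.j)) y) := by
    rw [fibreRank_congr (wEquiv (B := A) M.D.K (p : ℤ) ((p : ℤ) + 1)) y, fibreRank_baseChange, hy₀]
  rw [e1, e2, w1, w2]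

end NModel

section ChartRank

variable {X S : Scheme.{u}} (f : X ⟶ S) [IsProper f] [LocallyOfFinitePresentation f]
  (F : X.Modules) [F.IsQuasicoherent]
  {V₁ : S.Opens} (hV₁ : IsAffineOpen V₁)
  (M : NModel Γ(S, V₁) (strMap f hV₁) ((Scheme.Modules.pullback (f ⁻¹ᵁ V₁).ι).obj F))

/-- the fibre rank formula over an affine chart of the base -/
theorem fiberRank_chart_add (p : ℕ) (y : ↑(Spec (CommRingCat.of Γ(S, V₁)))) :
    letI : Algebra M.A₀ Γ(S, V₁) := ((RingHom.id Γ(S, V₁)).comp M.j).toAlgebra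
    CohIII.fiberRank f F p (hV₁.fromSpec y) + Module.finrank M.A₀ (M.D.K.X ((p : ℤ) + 1)) =
      fibreRank (A := Γ(S, V₁)) (Wq (bcK (B := Γ(S, V₁)) M.D.K) ((p : ℤ) - 1) (p : ℤ)) y +
        fibreRank (A := Γ(S, V₁)) (Wq (bcK (B := Γ(S, V₁)) M.D.K) (p : ℤ) ((p : ℤ) + 1)) y := by
  have hsq := Groth.Agent.Lib.Helper4.ChartSq1.isPullback_chart f hV₁
  have e0 : CohIII.fiberRank (strMap f hV₁) ((Scheme.Modules.pullback (f ⁻¹ᵁ V₁).ι).obj F) p y =
      CohIII.fiberRank f F p (hV₁.fromSpec y) :=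
    Groth.Agent.Helper7.Betti.betti_baseChange f hV₁.fromSpec (f ⁻¹ᵁ V₁).ι (strMap f hV₁) hsq F y p
  rw [← e0]
  exact M.fiberRank_add p y

/-- local constancy of the fibre rank on an open set over which the two adjacent cokernels of
the complex are locally free -/
theorem isLocallyConstant_fiberRank_of_freeLocus (p : ℕ) (V : S.Opens) (hVV₁ : V ≤ V₁)
    (h1 : ∀ y : ↑(Spec (CommRingCat.of Γ(S, V₁))), hV₁.fromSpec y ∈ V →
      letI : Algebra M.A₀ Γ(S, V₁) := ((RingHom.id Γ(S, V₁)).comp M.j).toAlgebra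
      (y : PrimeSpectrum Γ(S, V₁)) ∈ Module.freeLocus Γ(S, V₁)
        (Wq (bcK (B := Γ(S, V₁)) M.D.K) ((p : ℤ) - 1) (p : ℤ)))
    (h2 : ∀ y : ↑(Spec (CommRingCat.of Γ(S, V₁))), hV₁.fromSpec y ∈ V →
      letI : Algebra M.A₀ Γ(S, V₁) := ((RingHom.id Γ(S, V₁)).comp M.j).toAlgebra
      (y : PrimeSpectrum Γ(S, V₁)) ∈ Module.freeLocus Γ(S, V₁)
        (Wq (bcK (B := Γ(S, V₁)) M.D.K) (p : ℤ) ((p : ℤ) + 1))) :
    IsLocallyConstant (fun v : V => CohIII.fiberRank f F p v.1) := by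
  letI algA : Algebra M.A₀ Γ(S, V₁) := ((RingHom.id Γ(S, V₁)).comp M.j).toAlgebra
  haveI hfinL : ∀ i, Module.Finite Γ(S, V₁) ((bcK (B := Γ(S, V₁)) M.D.K).X i) := fun i => by
    haveI := (M.D.hff i).1
    exact (show Module.Finite Γ(S, V₁) (Γ(S, V₁) ⊗[M.A₀] M.D.K.X i) from inferInstance)
  haveI hfreeL : ∀ i, Module.Free Γ(S, V₁) ((bcK (B := Γ(S, V₁)) M.D.K).X i) := fun i => by
    haveI := (M.D.hff i).2
    exact (show Module.Free Γ(S, V₁) (Γ(S, V₁) ⊗[M.A₀] M.D.K.X i) from inferInstance)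
  haveI := finitePresentation_Wq (bcK (B := Γ(S, V₁)) M.D.K) ((p : ℤ) - 1) (p : ℤ)
  haveI := finitePresentation_Wq (bcK (B := Γ(S, V₁)) M.D.K) (p : ℤ) ((p : ℤ) + 1)
  rw [IsLocallyConstant.iff_eventually_eq]
  intro v
  obtain ⟨y, hy⟩ : ∃ y : ↑(Spec (CommRingCat.of Γ(S, V₁))), hV₁.fromSpec y = v.1 := by
    have hmem : v.1 ∈ Set.range hV₁.fromSpec := by
      rw [hV₁.range_fromSpec]
      exact hVV₁ v.2
    exact hmem
  have hyV : hV₁.fromSpec y ∈ V := by
    rw [hy]
    exact v.2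
  have ev1 := eventually_fibreRank_eq_of_mem_freeLocus
    (Wq (bcK (B := Γ(S, V₁)) M.D.K) ((p : ℤ) - 1) (p : ℤ)) y (h1 y hyV)
  have ev2 := eventually_fibreRank_eq_of_mem_freeLocus
    (Wq (bcK (B := Γ(S, V₁)) M.D.K) (p : ℤ) ((p : ℤ) + 1)) y (h2 y hyV)
  have hN := ev1.and ev2
  have himg : hV₁.fromSpec '' {y' : ↑(Spec (CommRingCat.of Γ(S, V₁))) |
      fibreRank (A := Γ(S, V₁)) (Wq (bcK (B := Γ(S, V₁)) M.D.K) ((p : ℤ) - 1) (p : ℤ)) y' =
        fibreRank (A := Γ(S, V₁)) (Wq (bcK (B := Γ(S, V₁)) M.D.K) ((p : ℤ) - 1) (p : ℤ)) y ∧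
      fibreRank (A := Γ(S, V₁)) (Wq (bcK (B := Γ(S, V₁)) M.D.K) (p : ℤ) ((p : ℤ) + 1)) y' =
        fibreRank (A := Γ(S, V₁)) (Wq (bcK (B := Γ(S, V₁)) M.D.K) (p : ℤ) ((p : ℤ) + 1)) y}
      ∈ 𝓝 v.1 := by
    rw [← hy]
    exact hV₁.fromSpec.isOpenEmbedding.isOpenMap.image_mem_nhds hN
  have hpre := continuous_subtype_val.continuousAt.preimage_mem_nhds (x := v) himg
  filter_upwards [hpre] with v' hv'
  obtain ⟨y', ⟨hy'1, hy'2⟩, hy'⟩ := hv'
  have E' := fiberRank_chart_add f F hV₁ M p y'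
  have E0 := fiberRank_chart_add f F hV₁ M p y
  change CohIII.fiberRank f F p v'.1 = CohIII.fiberRank f F p v.1
  rw [← hy', ← hy]
  omega

end ChartRank

end Groth.Agent.Helper7.GenBC
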