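import Mathlib
import Groth.Prelude.Def_CohCmp
import Groth.Agent.Lib.Helper7.GenBC.EpiCech
import Groth.Agent.Lib.Helper4.RelEffCartier
import Groth.Agent.Lib.Helper4.SepCover1
import Groth.Agent.Lib.Helper1.FBC2
import Groth.Agent.S0010

set_option linter.style.haveILetI false
set_option linter.unusedVariables false
set_option linter.unusedSectionVars false
set_option autoImplicit false
set_option backward.isDefEq.respectTransparency.types false
set_option backward.isDefEq.respectTransparency false
set_option synthInstance.maxHeartbeats 400000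
set_option maxHeartbeats 1600000

universe u

/-! helper7: flatness of all Cech cokernels from flat cohomology: vanishing above the size of the cover, descending induction, and conversion of base changes across a pushout square of rings -/

open CategoryTheory CategoryTheory.Limits Opposite TopologicalSpace AlgebraicGeometry
open TensorProduct
open AlgebraicGeometry.Scheme.Modules
open Groth.Agent.Helper1
open Groth.Agent.Lib.Helper4.BaseChgRing1
open Groth.Agent.Lib.Helper4.TenSec2
open Groth.Agent.Lib.Helper4.LocCech1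
open Groth.Agent.Lib.Helper4.CechTen1
open Groth.Agent.Lib.Helper4.CechTen2
open Groth.Agent.Lib.Helper4.CechTen3
open Groth.Agent.Lib.Helper4.BCSec1
open Groth.Agent.Lib.Helper4.BCSec2
open Groth.Agent.Lib.Helper4.HomEl1
open Groth.Agent.Lib.Helper4.ExchAlg1
open Groth.Agent.Lead.FBC
open Groth.Agent.Helper7.BC0

namespace Groth.Agent.Helper7.GenBC

attribute [local instance] secMod

section Alg

variable {A : Type u} [CommRing A]

/-- **one step of the descending induction**: in a complex `C0 → C1 → C2` with `C2` flat, flat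
cokernel of the second differential and flat cohomology in the middle, the cokernel of the first
differential is flat -/
theorem flat_coker_step {C0 C1 C2 HC : Type u} [AddCommGroup C0] [Module A C0] [AddCommGroup C1]
    [Module A C1] [AddCommGroup C2] [Module A C2] [AddCommGroup HC] [Module A HC]
    (d0 : C0 →ₗ[A] C1) (d1 : C1 →ₗ[A] C2) (hdd : ∀ y, d1 (d0 y) = 0)
    [Module.Flat A C2] [Module.Flat A (C2 ⧸ LinearMap.range d1)] [Module.Flat A HC]
    (cC : LinearMap.ker d1 →ₗ[A] HC) (hcC : Function.Surjective cC)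
    (hcC0 : ∀ z : LinearMap.ker d1, cC z = 0 ↔ ∃ y, d0 y = z.1) :
    Module.Flat A (C1 ⧸ LinearMap.range d0) := by
  haveI hI : Module.Flat A (LinearMap.range d1) :=
    Groth.Agent.Helper4.FlatExact.flat_ker_of_exact (LinearMap.range d1).subtype
      (LinearMap.range d1).mkQ (Submodule.subtype_injective _) (Submodule.mkQ_surjective _)
      (LinearMap.exact_subtype_mkQ _)
  have hle : LinearMap.range d0 ≤ LinearMap.ker d1.rangeRestrict := by
    rintro _ ⟨y, rfl⟩
    rw [LinearMap.mem_ker]
    apply Subtype.ext
    exact hdd y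
  let dbar : (C1 ⧸ LinearMap.range d0) →ₗ[A] LinearMap.range d1 :=
    (LinearMap.range d0).liftQ d1.rangeRestrict hle
  have hdbar : ∀ c, dbar ((LinearMap.range d0).mkQ c) = d1.rangeRestrict c := fun c =>
    Submodule.liftQ_apply _ _ _
  have hsurj : Function.Surjective dbar := by
    intro w
    obtain ⟨c, rfl⟩ := d1.surjective_rangeRestrict w
    exact ⟨(LinearMap.range d0).mkQ c, hdbar c⟩
  have hmem : ∀ z : LinearMap.ker d1,
      ((LinearMap.range d0).mkQ.comp (LinearMap.ker d1).subtype) z ∈ LinearMap.ker dbar := by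
    intro z
    rw [LinearMap.mem_ker]
    change dbar ((LinearMap.range d0).mkQ z.1) = 0
    rw [hdbar]
    apply Subtype.ext
    exact LinearMap.mem_ker.1 z.2
  let q : LinearMap.ker d1 →ₗ[A] LinearMap.ker dbar :=
    ((LinearMap.range d0).mkQ.comp (LinearMap.ker d1).subtype).codRestrict (LinearMap.ker dbar) hmem
  have hq : Function.Surjective q := by
    rintro ⟨w, hw⟩
    obtain ⟨c, rfl⟩ := (LinearMap.range d0).mkQ_surjective w
    have hc : d1 c = 0 := by
      have h1 : dbar ((LinearMap.range d0).mkQ c) = 0 := LinearMap.mem_ker.1 hw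
      rw [hdbar] at h1
      exact congrArg Subtype.val h1
    exact ⟨⟨c, LinearMap.mem_ker.2 hc⟩, Subtype.ext rfl⟩
  have hker : LinearMap.ker cC = LinearMap.ker q := by
    ext z
    rw [LinearMap.mem_ker, LinearMap.mem_ker, hcC0]
    constructor
    · rintro ⟨y, hy⟩
      apply Subtype.ext
      change (LinearMap.range d0).mkQ z.1 = 0
      rw [← hy]
      exact (Submodule.Quotient.mk_eq_zero _).2 ⟨y, rfl⟩
    · intro h
      have h1 : (LinearMap.range d0).mkQ z.1 = 0 := congrArg Subtype.val h
      exact (Submodule.Quotient.mk_eq_zero _).1 h1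
  let eK : HC ≃ₗ[A] LinearMap.ker dbar :=
    (cC.quotKerEquivOfSurjective hcC).symm ≪≫ₗ (Submodule.quotEquivOfEq _ _ hker) ≪≫ₗ
      (q.quotKerEquivOfSurjective hq)
  haveI : Module.Flat A (LinearMap.ker dbar) := Module.Flat.of_linearEquiv eK.symm
  exact Groth.Agent.Helper4.FlatExact.flat_of_exact (LinearMap.ker dbar).subtype dbar
    (Submodule.subtype_injective _) hsurj (LinearMap.exact_subtype_ker_map dbar)

/-- injectivity of a tensored map only depends on the scalar multiplication of the module
tensored with -/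
theorem rTensor_injective_transfer {M N : Type u} [AddCommGroup M] [Module A M] [AddCommGroup N]
    [Module A N] (f : M →ₗ[A] N) (P : Type u) [AddCommGroup P] (m1 m2 : Module A P)
    (hsm : ∀ (a : A) (x : P), (haveI := m1; a • x) = (haveI := m2; a • x))
    (h : letI := m1; Function.Injective (f.rTensor P)) :
    letI := m2; Function.Injective (f.rTensor P) := by
  obtain rfl : m1 = m2 := Module.ext' _ _ hsm
  exact h

end Alg

section Pushout

variable {R R' B B' : Type u} [CommRing R] [CommRing R'] [CommRing B] [CommRing B']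
  (φR : R →+* R') (φB : B →+* B') (α : R →+* B) (α' : R' →+* B')

/-- a base change along the left side of a pushout square of rings, by a map which is semilinear
along the right side, is a base change along the right side -/
theorem isBC_of_pushout_left
    (hpo : IsPushout (CommRingCat.ofHom φR) (CommRingCat.ofHom α) (CommRingCat.ofHom α')
      (CommRingCat.ofHom φB))
    {M N : Type u} [AddCommGroup M] [Module R M] [Module B M]
    (hM : ∀ (r : R) (m : M), r • m = α r • m)
    [AddCommGroup N] [Module R' N] [Module B' N]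
    (hN : ∀ (r : R') (n : N), r • n = α' r • n)
    {l : M → N} (hl : ∀ (b : B) (m : M), l (b • m) = φB b • l m)
    (h : Groth.Agent.Lead.BCU.IsBC φR l) : Groth.Agent.Lead.BCU.IsBC φB l := by
  have comm : α'.comp φR = φB.comp α := by
    have := hpo.w
    exact congrArg CommRingCat.Hom.hom this
  letI : Algebra R R' := φR.toAlgebra
  letI : Algebra R B := α.toAlgebra
  letI : Algebra B B' := φB.toAlgebra
  letI : Algebra R' B' := α'.toAlgebra
  letI : Algebra R B' := (φB.comp α).toAlgebra
  haveI : IsScalarTower R B B' := IsScalarTower.of_algebraMap_eq' rfl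
  haveI : IsScalarTower R R' B' := IsScalarTower.of_algebraMap_eq' comm.symm
  haveI : IsScalarTower R B M := ⟨fun r b m => by
    change (α r * b) • m = r • b • m
    rw [mul_smul, hM]⟩
  haveI hP : Algebra.IsPushout R R' B B' := CommRingCat.isPushout_iff_isPushout.1 hpo
  letI : Module B N := Module.compHom N φB
  haveI : IsScalarTower B B' N := ⟨fun a a' n => by
    change (φB a * a') • n = φB a • a' • n
    exact mul_smul _ _ _⟩
  haveI : IsScalarTower R' B' N := ⟨fun a a' n => by
    change (α' a * a') • n = a • a' • n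
    rw [mul_smul, hN]⟩
  letI : Module R N := Module.compHom N φR
  haveI : IsScalarTower R R' N := ⟨fun a a' n => by
    change (φR a * a') • n = φR a • a' • n
    exact mul_smul _ _ _⟩
  obtain ⟨l1', hl1, hb1⟩ := h
  let e1 : R' ⊗[R] M ≃ₗ[R'] N := hb1.equiv
  let c : B' ⊗[B] M ≃ₗ[R'] R' ⊗[R] M := Algebra.IsPushout.cancelBaseChange R R' B B' M
  let lB : M →ₗ[B] N :=
    { toFun := l
      map_add' := fun x y => by
        rw [← hl1, ← hl1, ← hl1]
        exact l1'.map_add x y
      map_smul' := fun b m => hl b m }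
  let τ : B' ⊗[B] M →ₗ[B'] N := lB.liftBaseChange B'
  have hτ : ∀ t : R' ⊗[R] M, τ (c.symm t) = e1 t := by
    intro t
    induction t using TensorProduct.induction_on with
    | zero => rw [map_zero, map_zero, map_zero]
    | add x y hx hy => rw [map_add, map_add, map_add, hx, hy]
    | tmul s m =>
      rw [Algebra.IsPushout.cancelBaseChange_symm_tmul, LinearMap.liftBaseChange_tmul,
        IsBaseChange.equiv_tmul, hl1]
      exact (hN s (l m)).symm
  have hbij : Function.Bijective τ := by
    have h3 : (τ : B' ⊗[B] M → N) = e1 ∘ c := by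
      funext t
      rw [Function.comp_apply, ← hτ (c t), LinearEquiv.symm_apply_apply]
    rw [h3]
    exact e1.bijective.comp c.bijective
  refine ⟨lB, fun _ => rfl, IsBaseChange.of_equiv (LinearEquiv.ofBijective τ hbij) (fun x => ?_)⟩
  change τ ((1 : B') ⊗ₜ[B] x) = lB x
  rw [LinearMap.liftBaseChange_tmul, one_smul]

end Pushout

section Top

variable (A : Type u) [CommRing A] {X : Scheme.{u}} [X.Over (Spec (CommRingCat.of A))]
variable (G : X.Modules) {ι : Type u} (U : ι → X.Opens)

/-- if the cohomology in degree `p` of a base change vanishes, the boundaries of the Čech complex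
in degree `p + 1` stay embedded in the cochains after the base change -/
theorem injective_rTensor_of_subsingleton {B : Type u} [CommRing B] (φ : A →+* B)
    {X' : Scheme.{u}} [X'.Over (Spec (CommRingCat.of B))] (r : X' ⟶ X) [Finite ι]
    [G.IsQuasicoherent]
    (hsq : IsPullback r (X' ↘ Spec (CommRingCat.of B)) (X ↘ Spec (CommRingCat.of A))
      (Spec.map (CommRingCat.ofHom φ)))
    (haff : ∀ (n : ℕ) (a : Fin (n + 1) → ι), IsAffineOpen (TCx.W U a)) (hcov : iSup U = ⊤)
    (p : ℕ) (hvan : Subsingleton (Coh.HH X' (Fp r G) p)) :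
    letI := φ.toAlgebra
    Function.Injective ((Bq (CZ A G U) (p : ℤ) ((p + 1 : ℕ) : ℤ)).subtype.rTensor B) := by
  letI := φ.toAlgebra
  haveI : IsAffineHom r := isAffineHom_of_sq φ r hsq
  haveI : (Fp r G).IsQuasicoherent := Groth.Agent.Lead.PB.isQuasicoherent_pullback _ _
  haveI : ((Scheme.Modules.pushforward r).obj (Fp r G)).IsQuasicoherent :=
    Groth.Agent.Helper1.PushQc.isQuasicoherent_pushforward r (Fp r G)
  rw [injective_iff_map_eq_zero]
  intro x hx
  obtain ⟨y, rfl⟩ := LinearMap.rTensor_surjective B
    (sig_surjective (CZ A G U) (p : ℤ) ((p + 1 : ℕ) : ℤ)) x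
  have hy : ((CZ A G U).d (p : ℤ) ((p + 1 : ℕ) : ℤ)).hom.rTensor B y = 0 := by
    rw [← subtype_comp_sig, LinearMap.rTensor_comp, LinearMap.comp_apply]
    exact hx
  have hw : sgm φ r G U hsq.w p y ∈ LinearMap.ker (DdA B (Fp r G) (Up r U) p) := by
    rw [LinearMap.mem_ker, ← sgm_d φ r G U hsq.w p y, hy, map_zero]
  obtain ⟨o, hop, v, hv⟩ := exists_bdry φ r G U hsq haff hcov p ⟨_, hw⟩ (Subsingleton.elim _ _)
  have hyv : y = ((CZ A G U).d o (p : ℤ)).hom.rTensor B v :=
    ((sgm_bijective φ r G U hsq haff p).1 hv).symm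
  rw [hyv, ← LinearMap.comp_apply, ← LinearMap.rTensor_comp,
    sig_comp_d (CZ A G U) o (p : ℤ) ((p + 1 : ℕ) : ℤ), LinearMap.rTensor_zero,
    LinearMap.zero_apply]

theorem isAffineOpen_of_haff
    (haff : ∀ (n : ℕ) (a : Fin (n + 1) → ι), IsAffineOpen (TCx.W U a)) (i : ι) :
    IsAffineOpen (U i) := by
  have h := haff 0 (fun _ => i)
  rw [TCx.W_eq_iInf] at h
  have e : (⨅ _ : Fin (0 + 1), U i) = U i := iInf_const
  rwa [e] at h

/-- **flatness of the Čech cokernels above the number of members of the cover**, for a separated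
scheme over an affine base -/
theorem flat_coker_of_card_le [Finite ι] [G.IsQuasicoherent]
    [IsSeparated (X ↘ Spec (CommRingCat.of A))]
    (hfl : FlatMod.IsFlatOver (X ↘ Spec (CommRingCat.of A)) G)
    (haff : ∀ (n : ℕ) (a : Fin (n + 1) → ι), IsAffineOpen (TCx.W U a)) (hcov : iSup U = ⊤)
    (p : ℕ) (hp : Nat.card ι ≤ p) :
    Module.Flat A (Co G U (p + 1) ⧸ LinearMap.range (DdA A G U p)) := by
  haveI : Module.Flat A ((CZ A G U).X ((p + 1 : ℕ) : ℤ)) := Groth.Agent.Lib.Helper4.MumCx2.flat_CZ A G U hfl haff _
  have h1 : Module.Flat A ((CZ A G U).X ((p + 1 : ℕ) : ℤ) ⧸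
      Bq (CZ A G U) (p : ℤ) ((p + 1 : ℕ) : ℤ)) := by
    apply flat_coker_of_injective
    intro I
    let φ : A →+* A ⧸ I := Ideal.Quotient.mk I
    let X' : Scheme.{u} := pullback (X ↘ Spec (CommRingCat.of A))
      (Spec.map (CommRingCat.ofHom φ))
    let r : X' ⟶ X := pullback.fst _ _
    letI ov' : X'.Over (Spec (CommRingCat.of (A ⧸ I))) := ⟨pullback.snd _ _⟩
    have hsq : IsPullback r (X' ↘ Spec (CommRingCat.of (A ⧸ I)))
        (X ↘ Spec (CommRingCat.of A)) (Spec.map (CommRingCat.ofHom φ)) :=
      IsPullback.of_hasPullback _ _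
    haveI : IsAffineHom r := isAffineHom_of_sq φ r hsq
    haveI : IsSeparated (X' ↘ Spec (CommRingCat.of (A ⧸ I))) :=
      MorphismProperty.of_isPullback (P := @IsSeparated) hsq inferInstance
    haveI : (Fp r G).IsQuasicoherent := Groth.Agent.Lead.PB.isQuasicoherent_pullback _ _
    have hvan : Subsingleton (Coh.HH X' (Fp r G) p) := by
      let e := Finite.equivFin ι
      refine Groth.Agent.S0010.result X' (Nat.card ι) (fun i => Up r U (e.symm i))
        (fun i => (isAffineOpen_of_haff U haff (e.symm i)).preimage r) ?_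
        (fun V W hV hW => Groth.Agent.Lib.Helper4.SepCover1.isAffineOpen_inf
          (X' ↘ Spec (CommRingCat.of (A ⧸ I))) hV hW) (Fp r G) p hp
      show (⨆ i, Up r U (e.symm i)) = ⊤
      rw [Equiv.iSup_comp (g := Up r U) e.symm]
      exact iSup_Up r U hcov
    have key := injective_rTensor_of_subsingleton A G U φ r hsq haff hcov p hvan
    exact rTensor_injective_transfer _ (A ⧸ I) (@Algebra.toModule A (A ⧸ I) _ _ φ.toAlgebra) _
      (fun a x => (Algebra.smul_def a x).symm) key
  refine flat_quot_range_of_equiv (exN A G U p).toLinearEquiv (exN A G U (p + 1)).toLinearEquiv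
    ((CZ A G U).d (p : ℤ) ((p + 1 : ℕ) : ℤ)).hom (DdA A G U p) ?_ h1
  intro y
  have h2 := congrArg (fun m => m ≫ (exN A G U (p + 1)).hom) (CZ_d A G U p)
  simp only [Category.assoc, Iso.inv_hom_id, Category.comp_id] at h2
  exact ConcreteCategory.congr_hom h2 y

/-- **flat cohomology gives flat Čech cokernels in all degrees**, for a quasi-coherent module
flat over an affine base on a separated scheme -/
theorem flat_coker_of_flat_HH [Finite ι] [G.IsQuasicoherent]
    [IsSeparated (X ↘ Spec (CommRingCat.of A))]
    (hfl : FlatMod.IsFlatOver (X ↘ Spec (CommRingCat.of A)) G)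
    (haff : ∀ (n : ℕ) (a : Fin (n + 1) → ι), IsAffineOpen (TCx.W U a)) (hcov : iSup U = ⊤)
    (hH : ∀ m : ℕ, Module.Flat A (Coh.HH X G m)) (p : ℕ) :
    Module.Flat A (Co G U (p + 1) ⧸ LinearMap.range (DdA A G U p)) := by
  have key : ∀ (k p : ℕ), Nat.card ι ≤ p + k →
      Module.Flat A (Co G U (p + 1) ⧸ LinearMap.range (DdA A G U p)) := by
    intro k
    induction k with
    | zero =>
      intro p hp
      exact flat_coker_of_card_le A G U hfl haff hcov p (by omega)
    | succ k ih =>
      intro p hp
      haveI := ih (p + 1) (by omega)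
      haveI : Module.Flat A (Co G U (p + 1 + 1)) := flat_Co A G U hfl haff _
      haveI := hH (p + 1)
      refine flat_coker_step (DdA A G U p) (DdA A G U (p + 1)) (fun y => ?_)
        (cC (A := A) G U hcov (p + 1)) (cC_surjective (A := A) G U haff hcov (p + 1))
        (fun z => ?_)
      · rw [DdA_apply, DdA_apply]
        exact Dd_Dd G U p y
      · rw [cC_apply, cc_eq_zero_iff_succ G U hcov haff p]
        constructor
        · rintro ⟨y, hy⟩
          exact ⟨y, (DdA_apply A G U p y).trans hy⟩
        · rintro ⟨y, hy⟩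
          exact ⟨y, (DdA_apply A G U p y).symm.trans hy⟩
  exact key (Nat.card ι) p (by omega)

end Top

end Groth.Agent.Helper7.GenBC
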