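import Mathlib
import Groth.Prelude.Def_CohCmp
import Groth.Agent.Lib.Helper7.GenBC.EpiKT
import Groth.Agent.Lib.Helper7.GenBC.AllFlat
import Groth.Agent.Lib.Helper5.RpushPerf.TenG2
import Groth.Agent.Lib.Helper5.RpushCl.RpushClassic
import Groth.Agent.Lib.Lead.QcIso
import Groth.Agent.Lib.Lead.FB1

set_option linter.style.haveILetI false
set_option linter.unusedVariables false
set_option linter.unusedSectionVars false
set_option autoImplicit false
set_option backward.isDefEq.respectTransparency.types false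
set_option backward.isDefEq.respectTransparency false
set_option synthInstance.maxHeartbeats 400000
set_option maxHeartbeats 1600000

universe u

/-! helper7: base change for flat higher direct images: chart statement over affine opens of the three bases via the Cech complex over the coordinate ring of the lowest base, and the global isomorphism -/

open CategoryTheory CategoryTheory.Limits Opposite TopologicalSpace AlgebraicGeometry
open AlgebraicGeometry.Scheme.Modules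
open Groth.Agent.Helper1
open Groth.Agent.Helper1.RpushLoc
open Groth.Agent.Helper3
open Groth.Agent.Lib.Helper4.BaseChgRing1
open Groth.Agent.Lib.Helper4.TenSec2
open Groth.Agent.Lib.Helper4.LocCech1
open Groth.Agent.Lib.Helper4.CechTen1
open Groth.Agent.Lead.BCU

namespace Groth.Agent.Helper7.GenBC

attribute [local instance] secMod

section Scalars

/-- the ring map to global functions of a composite with a morphism of affine schemes -/
theorem toGlobal_comp_SpecMap {A B : Type u} [CommRing A] [CommRing B] (α : A →+* B)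
    {Z : Scheme.{u}} (q : Z ⟶ Spec (CommRingCat.of B)) (a : A) :
    Coh.toGlobal (q ≫ Spec.map (CommRingCat.ofHom α)) a = Coh.toGlobal q (α a) := by
  have h := Scheme.ΓSpecIso_inv_naturality (CommRingCat.ofHom α)
  have h2 : ((Spec.map (CommRingCat.ofHom α)).appTop).hom
      ((Scheme.ΓSpecIso (CommRingCat.of A)).inv.hom a) =
      (Scheme.ΓSpecIso (CommRingCat.of B)).inv.hom (α a) :=
    (congrArg (fun m => m.hom a) h).symm
  change (q ≫ Spec.map (CommRingCat.ofHom α)).appTop.hom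
      ((Scheme.ΓSpecIso (CommRingCat.of A)).inv.hom a) =
    q.appTop.hom ((Scheme.ΓSpecIso (CommRingCat.of B)).inv.hom (α a))
  rw [← h2]
  rfl

/-- the two actions on cohomology, for a scheme over `Spec B` regarded over `Spec A` -/
theorem smul_over_comp {A B : Type u} [CommRing A] [CommRing B] (α : A →+* B) {Z : Scheme.{u}}
    [ovA : Z.Over (Spec (CommRingCat.of A))] [ovB : Z.Over (Spec (CommRingCat.of B))]
    (h : (Z ↘ Spec (CommRingCat.of A)) =
      (Z ↘ Spec (CommRingCat.of B)) ≫ Spec.map (CommRingCat.ofHom α))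
    (M : Z.Modules) (p : ℕ) (a : A) (x : Coh.HH Z M p) : a • x = α a • x := by
  change Coh.toGlobal (Z ↘ Spec (CommRingCat.of A)) a • x =
    Coh.toGlobal (Z ↘ Spec (CommRingCat.of B)) (α a) • x
  rw [h, toGlobal_comp_SpecMap]

/-- restriction of scalars of a linear equivalence along a ring map, for compatible actions -/
noncomputable def restrictEquiv {A B : Type u} [CommRing A] [CommRing B] (α : A →+* B)
    {M N : Type u} [AddCommGroup M] [Module A M] [Module B M] [AddCommGroup N] [Module A N]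
    [Module B N] (hM : ∀ (a : A) (m : M), a • m = α a • m)
    (hN : ∀ (a : A) (n : N), a • n = α a • n) (e : M ≃ₗ[B] N) : M ≃ₗ[A] N :=
  { e.toAddEquiv with
    map_smul' := fun a m => by
      change e (a • m) = a • e m
      rw [hM, hN, e.map_smul] }

theorem restrictEquiv_apply {A B : Type u} [CommRing A] [CommRing B] (α : A →+* B)
    {M N : Type u} [AddCommGroup M] [Module A M] [Module B M] [AddCommGroup N] [Module A N]
    [Module B N] (hM : ∀ (a : A) (m : M), a • m = α a • m)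
    (hN : ∀ (a : A) (n : N), a • n = α a • n) (e : M ≃ₗ[B] N) (m : M) :
    restrictEquiv α hM hN e m = e m := rfl

end Scalars

section FlatChart

/-- flatness over the base, for the restriction to an open lying over an affine open of the base,
with respect to any structure map to the spectrum of the coordinate ring -/
theorem isFlatOver_chart_comp {X S : Scheme.{u}} (a : X ⟶ S) (F : X.Modules) [F.IsQuasicoherent]
    (hF : FlatMod.IsFlatOver a F) (O : X.Opens) {W : S.Opens} (hW : IsAffineOpen W)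
    (q : (↑O : Scheme.{u}) ⟶ Spec (CommRingCat.of Γ(S, W)))
    (hq : O.ι ≫ a = q ≫ hW.fromSpec) :
    FlatMod.IsFlatOver q (F.restrict O.ι) := by
  intro x
  have h0 : FlatMod.IsFlatOver (O.ι ≫ a) ((Scheme.Modules.restrictFunctor O.ι).obj F) :=
    Groth.Agent.Lib.Helper5.RpushPerf.isFlatOver_restrict a O F hF
  have hk : IsPullback (𝟙 (Spec (CommRingCat.of Γ(S, W)))) (𝟙 _) hW.fromSpec hW.fromSpec :=
    IsKernelPair.id_of_mono hW.fromSpec
  have h1 : IsPullback (𝟙 (↑O : Scheme.{u})) q q (𝟙 (Spec (CommRingCat.of Γ(S, W)))) :=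
    IsPullback.of_horiz_isIso ⟨by rw [Category.id_comp, Category.comp_id]⟩
  have h2 := h1.paste_vert hk
  rw [Category.comp_id, ← hq] at h2
  haveI : (F.restrict O.ι).IsQuasicoherent := inferInstance
  have h3 := Groth.Agent.Lead.FB.flat_baseChange h2 (F.restrict O.ι) x (h0 _)
  exact Groth.Agent.Lib.Helper4.ChartSq1.isFlatOverAt_of_iso q
    ((Scheme.Modules.pullbackId _).app (F.restrict O.ι)) x h3

end FlatChart

section Local

variable {X S X' S' : Scheme.{u}} (f : X ⟶ S) (g : S' ⟶ S) (f' : X' ⟶ S') (g' : X' ⟶ X)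
  (h : IsPullback g' f' f g) [QuasiCompact f] [QuasiSeparated f] [QuasiCompact f']
  [QuasiSeparated f'] [HasInjectiveResolutions X.Modules] [HasInjectiveResolutions X'.Modules]
  {Δ : RDer.DerivedLES (pushforward f)} {Δ' : RDer.DerivedLES (pushforward f')}
  (E : CohCmp.SectCmp f Δ) (E' : CohCmp.SectCmp f' Δ') (B : CohCmp.GenBC f g f' g' h.w E E')
  (F : X.Modules) [F.IsQuasicoherent] (p : ℕ)

/-- the sections of the base change map over an affine chart are semilinear -/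
theorem res_phi_smul {V : S.Opens} {V' : S'.Opens} (e : V' ≤ g ⁻¹ᵁ V) (b : Γ(S, V))
    (m : Γ((Coh.Rpush f p).obj F, V)) :
    res ((Coh.Rpush f' p).obj ((Scheme.Modules.pullback g').obj F)) e
        (show Γ((Coh.Rpush f' p).obj ((Scheme.Modules.pullback g').obj F), g ⁻¹ᵁ V) from
          (B.φ p F).app V (b • m)) =
      (g.appLE V V' e).hom b •
        res ((Coh.Rpush f' p).obj ((Scheme.Modules.pullback g').obj F)) e
          (show Γ((Coh.Rpush f' p).obj ((Scheme.Modules.pullback g').obj F), g ⁻¹ᵁ V) from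
            (B.φ p F).app V m) := by
  have h0 : (B.φ p F).app V (b • m) = b • (B.φ p F).app V m :=
    Scheme.Modules.Hom.app_smul _ b m
  have h1 : (b • ((B.φ p F).app V m) :
      Γ((pushforward g).obj ((Coh.Rpush f' p).obj ((Scheme.Modules.pullback g').obj F)), V)) =
      (show Γ((Coh.Rpush f' p).obj ((Scheme.Modules.pullback g').obj F), g ⁻¹ᵁ V) from
        ((g.app V).hom b : Γ(S', g ⁻¹ᵁ V)) •
        (show Γ((Coh.Rpush f' p).obj ((Scheme.Modules.pullback g').obj F), g ⁻¹ᵁ V) from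
          (B.φ p F).app V m)) := rfl
  exact (congrArg (res ((Coh.Rpush f' p).obj ((Scheme.Modules.pullback g').obj F)) e)
    (h0.trans h1)).trans
    ((Groth.Agent.Lead.FBC.res_smul' ((Coh.Rpush f' p).obj ((Scheme.Modules.pullback g').obj F))
      e _ _).trans rfl)

set_option maxRecDepth 8000 in
/-- **the local base change statement from a base change over smaller rings**: if the coordinate
rings of the affine opens `V`, `V'` of the bases form a pushout square over rings `A → A'`, and the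
pullback map of the cohomology of the charts is a base change along `A → A'`, then the sections of
the base change map exhibit a base change along the coordinate rings -/
theorem isBC_local_of_pullMod {V : S.Opens} (hV : IsAffineOpen V) {V' : S'.Opens}
    (hV' : IsAffineOpen V') (e : V' ≤ g ⁻¹ᵁ V)
    {A A' : Type u} [CommRing A] [CommRing A'] (φ₀ : A →+* A') (α : A →+* Γ(S, V))
    (α' : A' →+* Γ(S', V'))
    (hpo : IsPushout (CommRingCat.ofHom φ₀) (CommRingCat.ofHom α) (CommRingCat.ofHom α')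
      (CommRingCat.ofHom (g.appLE V V' e).hom))
    (hle : f' ⁻¹ᵁ V' ≤ g' ⁻¹ᵁ (f ⁻¹ᵁ V))
    (hbc : letI : (↑(f ⁻¹ᵁ V) : Scheme.{u}).Over (Spec (CommRingCat.of A)) :=
        ⟨strMap f hV ≫ Spec.map (CommRingCat.ofHom α)⟩;
      letI : (↑(f' ⁻¹ᵁ V') : Scheme.{u}).Over (Spec (CommRingCat.of A')) :=
        ⟨strMap f' hV' ≫ Spec.map (CommRingCat.ofHom α')⟩;
      IsBC φ₀ (CohPull.pullMod (g'.resLE (f ⁻¹ᵁ V) (f' ⁻¹ᵁ V') hle)
        (F.restrict (f ⁻¹ᵁ V).ι) p)) :
    IsBC (g.appLE V V' e).hom (fun m : Γ((Coh.Rpush f p).obj F, V) =>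
      res ((Coh.Rpush f' p).obj ((Scheme.Modules.pullback g').obj F)) e
        (show Γ((Coh.Rpush f' p).obj ((Scheme.Modules.pullback g').obj F), g ⁻¹ᵁ V) from
          (B.φ p F).app V m)) := by
  letI ovA : (↑(f ⁻¹ᵁ V) : Scheme.{u}).Over (Spec (CommRingCat.of A)) :=
    ⟨strMap f hV ≫ Spec.map (CommRingCat.ofHom α)⟩
  letI ovA' : (↑(f' ⁻¹ᵁ V') : Scheme.{u}).Over (Spec (CommRingCat.of A')) :=
    ⟨strMap f' hV' ≫ Spec.map (CommRingCat.ofHom α')⟩
  letI ovB : (↑(f ⁻¹ᵁ V) : Scheme.{u}).Over (Spec (CommRingCat.of Γ(S, V))) := ⟨strMap f hV⟩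
  letI ovB' : (↑(f' ⁻¹ᵁ V') : Scheme.{u}).Over (Spec (CommRingCat.of Γ(S', V'))) :=
    ⟨strMap f' hV'⟩
  have h₂ : f' ⁻¹ᵁ (g ⁻¹ᵁ V) ≤ g' ⁻¹ᵁ (f ⁻¹ᵁ V) := CohCmp.sqLE f g f' g' h.w V
  have h₃ : f' ⁻¹ᵁ V' ≤ f' ⁻¹ᵁ (g ⁻¹ᵁ V) := f'.preimage_mono e
  have hbc' : IsBC φ₀ (CohPull.pullMod
      (ResLE.jj h₃ ≫ g'.resLE (f ⁻¹ᵁ V) (f' ⁻¹ᵁ (g ⁻¹ᵁ V)) h₂)
      (F.restrict (f ⁻¹ᵁ V).ι) p) := by
    rw [jj_comp_resLE g' (f ⁻¹ᵁ V) (f' ⁻¹ᵁ (g ⁻¹ᵁ V)) (f' ⁻¹ᵁ V') h₂ h₃]
    exact hbc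
  haveI : ((Scheme.Modules.pullback g').obj F).IsQuasicoherent :=
    Groth.Agent.Lead.PB.isQuasicoherent_pullback _ _
  let μ := epsLin f E hV rfl F p
  let ν₀ := epsLin f' E' hV' rfl ((Scheme.Modules.pullback g').obj F) p
  let ψ := psiIso g' (f ⁻¹ᵁ V) (f' ⁻¹ᵁ (g ⁻¹ᵁ V)) (f' ⁻¹ᵁ V') h₂ h₃ F
  let ν := (Groth.Agent.Helper3.FlatTen.HHcongr Γ(S', V') ψ p).trans ν₀
  letI mA : Module A Γ((Coh.Rpush f p).obj F, V) := Module.compHom _ α
  letI mA' : Module A' Γ((Coh.Rpush f' p).obj ((Scheme.Modules.pullback g').obj F), V') :=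
    Module.compHom _ α'
  let μA : Γ((Coh.Rpush f p).obj F, V) ≃ₗ[A] Coh.HHon X F (f ⁻¹ᵁ V) p :=
    restrictEquiv α (fun _ _ => rfl)
      (fun a x => smul_over_comp α rfl (F.restrict (f ⁻¹ᵁ V).ι) p a x) μ.symm
  let νA : Γ((Coh.Rpush f' p).obj ((Scheme.Modules.pullback g').obj F), V') ≃ₗ[A']
      Coh.HH (↑(f' ⁻¹ᵁ V') : Scheme.{u})
        ((Scheme.Modules.pullback (ResLE.jj h₃ ≫ g'.resLE (f ⁻¹ᵁ V) (f' ⁻¹ᵁ (g ⁻¹ᵁ V)) h₂)).obj
          (F.restrict (f ⁻¹ᵁ V).ι)) p :=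
    restrictEquiv α' (fun _ _ => rfl) (fun a x => smul_over_comp α' rfl _ p a x) ν.symm
  have hA : IsBC φ₀ (fun m : Γ((Coh.Rpush f p).obj F, V) =>
      res ((Coh.Rpush f' p).obj ((Scheme.Modules.pullback g').obj F)) e
        (show Γ((Coh.Rpush f' p).obj ((Scheme.Modules.pullback g').obj F), g ⁻¹ᵁ V) from
          (B.φ p F).app V m)) := by
    refine IsBC.of_equiv μA νA ?_ hbc'
    intro m
    change ν.symm _ = CohPull.pullMod _ _ p (μ.symm m)
    rw [LinearEquiv.symm_apply_eq]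
    obtain ⟨x, rfl⟩ := μ.surjective m
    rw [LinearEquiv.symm_apply_apply]
    exact res_phi_eq f g f' g' h E E' B F p e x
  exact isBC_of_pushout_left φ₀ (g.appLE V V' e).hom α α' hpo (fun _ _ => rfl) (fun _ _ => rfl)
    (fun b m => res_phi_smul f g f' g' h E E' B F p e b m) hA

end Local

section Main

variable {X Y S X' Y' S' : Scheme.{u}} (a : X ⟶ S) (b : Y ⟶ S) (f : X ⟶ Y) (hf : f ≫ b = a)
  [IsSeparated f] [QuasiCompact f]
  (g : S' ⟶ S) (gY : Y' ⟶ Y) (b' : Y' ⟶ S') (hY : IsPullback gY b' b g)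
  (gX : X' ⟶ X) (f' : X' ⟶ Y') (hX : IsPullback gX f' f gY)
  [HasInjectiveResolutions X.Modules] [HasInjectiveResolutions X'.Modules]
  (F : X.Modules) [F.IsQuasicoherent] (hF : FlatMod.IsFlatOver a F)
  (hR : ∀ n : ℕ, FlatMod.IsFlatOver b ((Coh.Rpush f n).obj F))
  {Δ : RDer.DerivedLES (pushforward f)} {Δ' : RDer.DerivedLES (pushforward f')}
  (E : CohCmp.SectCmp f Δ) (E' : CohCmp.SectCmp f' Δ') (B : CohCmp.GenBC f gY f' gX hX.w E E')

include hf hY hF hR in
/-- **the chart statement**: over affine opens `W ⊆ S`, `W' ⊆ S'` over `W`, `V ⊆ Y` over `W` and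
the affine open `V' = V ×_W W'` of `Y'`, the sections of the base change map exhibit the sections
of the higher direct image upstairs as the base change of those downstairs -/
theorem isBC_chart_of_flat (n : ℕ) {W : S.Opens} (hW : IsAffineOpen W) {W' : S'.Opens}
    (hW' : IsAffineOpen W') (hWW' : W' ≤ g ⁻¹ᵁ W) {V : Y.Opens} (hV : IsAffineOpen V)
    (hVW : V ≤ b ⁻¹ᵁ W) {V' : Y'.Opens} (hV'eq : V' = gY ⁻¹ᵁ V ⊓ b' ⁻¹ᵁ W')
    (e : V' ≤ gY ⁻¹ᵁ V) :
    IsAffineOpen V' ∧ IsBC (gY.appLE V V' e).hom (fun m : Γ((Coh.Rpush f n).obj F, V) =>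
      res ((Coh.Rpush f' n).obj ((Scheme.Modules.pullback gX).obj F)) e
        (show Γ((Coh.Rpush f' n).obj ((Scheme.Modules.pullback gX).obj F), gY ⁻¹ᵁ V) from
          (B.φ n F).app V m)) := by
  haveI : QuasiSeparated f := inferInstance
  haveI : IsSeparated f' := MorphismProperty.of_isPullback (P := @IsSeparated) hX inferInstance
  haveI : QuasiCompact f' := MorphismProperty.of_isPullback (P := @QuasiCompact) hX inferInstance
  haveI : QuasiSeparated f' := inferInstance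
  have hV' : IsAffineOpen V' := Groth.Agent.Lead.FB.chart_affine hY hW hW' hV hWW' hVW hV'eq
  have hV'W' : V' ≤ b' ⁻¹ᵁ W' := by
    rw [hV'eq]
    exact inf_le_right
  have hpo := Groth.Agent.Lead.FB.chart_isPushout hY hW hW' hV hWW' hVW hV'eq e hV'W'
  refine ⟨hV', ?_⟩
  have hle : f' ⁻¹ᵁ V' ≤ gX ⁻¹ᵁ (f ⁻¹ᵁ V) :=
    (f'.preimage_mono e).trans (CohCmp.sqLE f gY f' gX hX.w V)
  refine isBC_local_of_pullMod f gY f' gX hX E E' B F n hV hV' e (g.appLE W W' hWW').hom
    (b.appLE W V hVW).hom (b'.appLE W' V' hV'W').hom hpo.flip hle ?_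
  letI ovA : (↑(f ⁻¹ᵁ V) : Scheme.{u}).Over (Spec (CommRingCat.of Γ(S, W))) :=
    ⟨strMap f hV ≫ Spec.map (CommRingCat.ofHom (b.appLE W V hVW).hom)⟩
  letI ovA' : (↑(f' ⁻¹ᵁ V') : Scheme.{u}).Over (Spec (CommRingCat.of Γ(S', W'))) :=
    ⟨strMap f' hV' ≫ Spec.map (CommRingCat.ofHom (b'.appLE W' V' hV'W').hom)⟩
  have hsqch := Groth.Agent.Lib.Helper4.ChartSq1.isPullback_chart f hV
  haveI : IsSeparated (strMap f hV) :=
    MorphismProperty.of_isPullback (P := @IsSeparated) hsqch inferInstance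
  haveI : QuasiCompact (strMap f hV) :=
    MorphismProperty.of_isPullback (P := @QuasiCompact) hsqch inferInstance
  haveI : CompactSpace (↑(f ⁻¹ᵁ V) : Scheme.{u}) :=
    QuasiCompact.compactSpace_of_compactSpace (strMap f hV)
  obtain ⟨ι₀, hfin, U₀, hcov, haff⟩ :=
    Groth.Agent.Lib.Helper4.SepCover1.exists_cover (strMap f hV)
  haveI := hfin
  haveI : IsSeparated ((↑(f ⁻¹ᵁ V) : Scheme.{u}) ↘ Spec (CommRingCat.of Γ(S, W))) :=
    (inferInstance : IsSeparated
      (strMap f hV ≫ Spec.map (CommRingCat.ofHom (b.appLE W V hVW).hom)))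
  have e2 : Spec.map (CommRingCat.ofHom (b.appLE W V hVW).hom) ≫ hW.fromSpec =
      hV.fromSpec ≫ b := hW.SpecMap_appLE_fromSpec b hV hVW
  have hq : (f ⁻¹ᵁ V).ι ≫ a =
      (strMap f hV ≫ Spec.map (CommRingCat.ofHom (b.appLE W V hVW).hom)) ≫ hW.fromSpec := by
    rw [Category.assoc, e2, ← Category.assoc, ← hsqch.w, Category.assoc, hf]
  have hflA : FlatMod.IsFlatOver
      ((↑(f ⁻¹ᵁ V) : Scheme.{u}) ↘ Spec (CommRingCat.of Γ(S, W))) (F.restrict (f ⁻¹ᵁ V).ι) :=
    isFlatOver_chart_comp a F hF (f ⁻¹ᵁ V) hW _ hq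
  have hH : ∀ m : ℕ, Module.Flat Γ(S, W)
      (Coh.HH (↑(f ⁻¹ᵁ V) : Scheme.{u}) (F.restrict (f ⁻¹ᵁ V).ι) m) := by
    intro m
    haveI : ((Coh.Rpush f m).obj F).IsQuasicoherent :=
      Groth.Agent.Lib.Helper5.RpushClassic.isQuasicoherent_rpush f F m
    have h1 := Groth.Agent.Lead.FO.flat_sectionsOver_of_isFlatOverAt b ((Coh.Rpush f m).obj F)
      hV hW hVW (fun z => hR m z.1)
    letI mA : Module Γ(S, W) Γ((Coh.Rpush f m).obj F, V) :=
      Groth.Agent.Lead.FO.sectionsOver b ((Coh.Rpush f m).obj F) hVW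
    haveI : Module.Flat Γ(S, W) Γ((Coh.Rpush f m).obj F, V) := h1
    letI ovB : (↑(f ⁻¹ᵁ V) : Scheme.{u}).Over (Spec (CommRingCat.of Γ(Y, V))) := ⟨strMap f hV⟩
    let μ := epsLin f E hV rfl F m
    let μA : Coh.HH (↑(f ⁻¹ᵁ V) : Scheme.{u}) (F.restrict (f ⁻¹ᵁ V).ι) m ≃ₗ[Γ(S, W)]
        Γ((Coh.Rpush f m).obj F, V) :=
      restrictEquiv (b.appLE W V hVW).hom
        (fun a x => smul_over_comp (b.appLE W V hVW).hom rfl (F.restrict (f ⁻¹ᵁ V).ι) m a x)
        (fun _ _ => rfl) μ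
    exact Module.Flat.of_linearEquiv μA
  have hCo : ∀ m, Module.Flat Γ(S, W) (Co (F.restrict (f ⁻¹ᵁ V).ι) U₀ m) := fun m =>
    Groth.Agent.Helper7.BC0.flat_Co Γ(S, W) (F.restrict (f ⁻¹ᵁ V).ι) U₀ hflA haff m
  have hWf := flat_coker_of_flat_HH Γ(S, W) (F.restrict (f ⁻¹ᵁ V).ι) U₀ hflA haff hcov hH n
  have sq1 := isPullback_resLE hX hV hV' e hle
  have sq2 := isPullback_SpecMap_of_isPushout _ _ _ _ hpo
  have sq := sq1.paste_vert sq2
  exact isBC_pullMod (g.appLE W W' hWW').hom (gX.resLE (f ⁻¹ᵁ V) (f' ⁻¹ᵁ V') hle)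
    (F.restrict (f ⁻¹ᵁ V).ι) U₀ sq haff hcov n hCo hWf

include hf hY hF hR in
/-- **base change for flat higher direct images**: if `F` and all its higher direct images are
flat over `S`, the base change maps along any base change of `S` are isomorphisms -/
theorem isIso_bc_of_flat_rpush (n : ℕ) : IsIso (B.bc n F) := by
  haveI : QuasiSeparated f := inferInstance
  haveI : IsSeparated f' := MorphismProperty.of_isPullback (P := @IsSeparated) hX inferInstance
  haveI : QuasiCompact f' := MorphismProperty.of_isPullback (P := @QuasiCompact) hX inferInstance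
  haveI : QuasiSeparated f' := inferInstance
  haveI : ((Coh.Rpush f n).obj F).IsQuasicoherent :=
    Groth.Agent.Lib.Helper5.RpushClassic.isQuasicoherent_rpush f F n
  haveI : ((Scheme.Modules.pullback gX).obj F).IsQuasicoherent :=
    Groth.Agent.Lead.PB.isQuasicoherent_pullback _ _
  haveI : ((Coh.Rpush f' n).obj ((Scheme.Modules.pullback gX).obj F)).IsQuasicoherent :=
    Groth.Agent.Lib.Helper5.RpushClassic.isQuasicoherent_rpush f' _ n
  haveI : ((Scheme.Modules.pullback gY).obj ((Coh.Rpush f n).obj F)).IsQuasicoherent :=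
    Groth.Agent.Lead.PB.isQuasicoherent_pullback _ _
  change IsIso (transp gY ((Coh.Rpush f n).obj F)
    ((Coh.Rpush f' n).obj ((Scheme.Modules.pullback gX).obj F)) (B.φ n F))
  apply Groth.Agent.Lead.QcIso.isIso_of_bijective_affine
  intro y'
  obtain ⟨_, ⟨W, hW, rfl⟩, hyW, -⟩ :=
    S.isBasis_affineOpens.exists_subset_of_mem_open (Set.mem_univ (b (gY y'))) isOpen_univ
  have hw : b (gY y') = g (b' y') := by
    rw [← Scheme.Hom.comp_apply, ← Scheme.Hom.comp_apply, hY.w]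
  obtain ⟨_, ⟨W', hW', rfl⟩, hyW', hW'le⟩ :=
    S'.isBasis_affineOpens.exists_subset_of_mem_open
      (show b' y' ∈ (g ⁻¹ᵁ W : S'.Opens) from by
        show g (b' y') ∈ W
        rw [← hw]
        exact hyW) (g ⁻¹ᵁ W).isOpen
  obtain ⟨_, ⟨V, hV, rfl⟩, hyV, hVle⟩ :=
    Y.isBasis_affineOpens.exists_subset_of_mem_open
      (show gY y' ∈ (b ⁻¹ᵁ W : Y.Opens) from hyW) (b ⁻¹ᵁ W).isOpen
  have hWW' : W' ≤ g ⁻¹ᵁ W := fun z hz => hW'le hz
  have hVW : V ≤ b ⁻¹ᵁ W := fun z hz => hVle hz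
  obtain ⟨hV', hbc⟩ := isBC_chart_of_flat a b f hf g gY b' hY gX f' hX F hF hR E E' B n hW hW'
    hWW' hV hVW (V' := gY ⁻¹ᵁ V ⊓ b' ⁻¹ᵁ W') rfl inf_le_left
  refine ⟨gY ⁻¹ᵁ V ⊓ b' ⁻¹ᵁ W', hV', ⟨hyV, hyW'⟩, ?_⟩
  exact bijective_of_isBC_of_isBC (gY.appLE V (gY ⁻¹ᵁ V ⊓ b' ⁻¹ᵁ W') inf_le_left).hom
    (isBC_unitRes gY ((Coh.Rpush f n).obj F) hV hV' inf_le_left) hbc
    ((transp gY ((Coh.Rpush f n).obj F)
      ((Coh.Rpush f' n).obj ((Scheme.Modules.pullback gX).obj F)) (B.φ n F)).app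
        (gY ⁻¹ᵁ V ⊓ b' ⁻¹ᵁ W')).hom
    (fun r x => Hom.app_smul _ r x)
    (fun m => transp_unitRes gY _ _ (B.φ n F) inf_le_left m)

end Main

end Groth.Agent.Helper7.GenBC
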