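import Mathlib
import Groth.Prelude.Def_ModelsG
import Groth.Prelude.Def_ClSub2
import Groth.Agent.Lib.Helper7.GenBC.H0Geom
import Groth.Agent.Lib.Helper7.BC0.Open
import Groth.Agent.Lib.Helper1.HH0

set_option linter.style.haveILetI false
set_option linter.unusedVariables false
set_option linter.unusedSectionVars false
set_option autoImplicit false
set_option backward.isDefEq.respectTransparency.types false
set_option backward.isDefEq.respectTransparency false
set_option synthInstance.maxHeartbeats 400000
set_option maxHeartbeats 1600000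

universe u

/-! helper7: families whose fibres have one dimensional spaces of global functions: the functions of the fibres of a base change, universal O_S = f_* O_X, and finite local freeness of the first higher direct image of the structure sheaf for fibres of dimension at most one -/

open CategoryTheory CategoryTheory.Limits Opposite TopologicalSpace AlgebraicGeometry
open AlgebraicGeometry.Scheme.Modules
open Groth.Agent.Helper1
open Groth.Agent.Lead.BCU

namespace Groth.Agent.Helper7.GenBC.H0Curve

section AppTop

theorem appLE_top_eq {X Y : Scheme.{u}} (q : X ⟶ Y) (e : (⊤ : X.Opens) ≤ q ⁻¹ᵁ ⊤) :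
    q.appLE ⊤ ⊤ e = q.appTop := by
  simp [Scheme.Hom.appLE]

theorem isIso_appTop_of_isIso_appLE {X Y : Scheme.{u}} (q : X ⟶ Y) (V : X.Opens) (hV : V = ⊤)
    (e : V ≤ q ⁻¹ᵁ ⊤) (h : IsIso (q.appLE ⊤ V e)) : IsIso q.appTop := by
  subst hV
  rw [appLE_top_eq] at h
  exact h

/-- a scheme over a field whose space of global functions has dimension one has only the constants
as global functions -/
theorem isIso_appTop_of_hRank {k : Type u} [Field k] {Y : Scheme.{u}}
    (q : Y ⟶ Spec (CommRingCat.of k))
    (h : Models.hRank k Y q (Coh.structureModule Y) 0 = 1) : IsIso q.appTop := by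
  letI ov : Y.Over (Spec (CommRingCat.of k)) := ⟨q⟩
  letI algA : Algebra k Γ(Y, ⊤) :=
    (q.appTop.hom.comp (Scheme.ΓSpecIso (CommRingCat.of k)).inv.hom).toAlgebra
  have h1 : Module.finrank k (Coh.HH Y (Coh.structureModule Y) 0) = 1 := h
  let e : Coh.HH Y (Coh.structureModule Y) 0 ≃ₗ[k] Γ(Y, ⊤) :=
    { toFun := fun x => HH0.equiv Y (Coh.structureModule Y) x
      map_add' := fun x y => map_add (HH0.equiv Y (Coh.structureModule Y)) x y
      map_smul' := fun a x => by
        have h2 := HH0.equiv_smul_over Y (Coh.structureModule Y) a x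
        rw [RingHom.id_apply, Algebra.smul_def]
        exact h2
      invFun := fun y => (HH0.equiv Y (Coh.structureModule Y)).symm y
      left_inv := fun x => (HH0.equiv Y (Coh.structureModule Y)).symm_apply_apply x
      right_inv := fun y => (HH0.equiv Y (Coh.structureModule Y)).apply_symm_apply y }
  have h2 : Module.finrank k Γ(Y, ⊤) = 1 := by
    rw [← e.finrank_eq]; exact h1
  have hbijk : Function.Bijective (algebraMap k Γ(Y, ⊤)) :=
    (Algebra.finrank_eq_one_iff_bijective_algebraMap).1 h2
  have hiso : Function.Bijective (Scheme.ΓSpecIso (CommRingCat.of k)).hom.hom :=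
    (ConcreteCategory.isIso_iff_bijective (Scheme.ΓSpecIso (CommRingCat.of k)).hom).1
      inferInstance
  have hcomp : q.appTop.hom = (algebraMap k Γ(Y, ⊤)).comp
      (Scheme.ΓSpecIso (CommRingCat.of k)).hom.hom := by
    ext x
    change q.appTop.hom x = q.appTop.hom ((Scheme.ΓSpecIso (CommRingCat.of k)).inv.hom
      ((Scheme.ΓSpecIso (CommRingCat.of k)).hom.hom x))
    have h3 : (Scheme.ΓSpecIso (CommRingCat.of k)).inv.hom
        ((Scheme.ΓSpecIso (CommRingCat.of k)).hom.hom x) = x :=
      congrArg (fun ψ => ψ.hom x) (Scheme.ΓSpecIso (CommRingCat.of k)).hom_inv_id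
    rw [h3]
  refine (ConcreteCategory.isIso_iff_bijective q.appTop).2 ?_
  change Function.Bijective q.appTop.hom
  rw [hcomp, RingHom.coe_comp]
  exact hbijk.comp hiso

end AppTop

section BaseChange

variable {X S S' : Scheme.{u}} (f : X ⟶ S) [QuasiCompact f] [QuasiSeparated f] (g : S' ⟶ S)

/-- the global functions of a fibre of a base change: if the fibre of `f` over `g s'` has only the
constants as functions, so does the fibre of the base change over `s'` -/
theorem isIso_appTop_fibre_baseChange (s' : S')
    (h : IsIso (f.fiberToSpecResidueField (g s')).appTop) :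
    IsIso ((pullback.snd f g).fiberToSpecResidueField s').appTop := by
  have H := isPullback_fiberToSpecResidueField_of_isPullback (IsPullback.of_hasPullback f g) s'
  haveI : Flat (Spec.map (g.residueFieldMap s')) := by
    rw [HasRingHomProperty.Spec_iff (P := @Flat)]
    letI := (g.residueFieldMap s').hom.toAlgebra
    change Module.Flat (S.residueField (g s')) (S'.residueField s')
    infer_instance
  haveI : QuasiCompact (f.fiberToSpecResidueField (g s')) := by
    change QuasiCompact (pullback.snd f (S.fromSpecResidueField (g s'))); infer_instance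
  haveI : QuasiSeparated (f.fiberToSpecResidueField (g s')) := by
    change QuasiSeparated (pullback.snd f (S.fromSpecResidueField (g s'))); infer_instance
  haveI : CompactSpace ↥(f.fiber (g s')) :=
    QuasiCompact.compactSpace_of_compactSpace (f.fiberToSpecResidueField (g s'))
  haveI : QuasiSeparatedSpace ↥(f.fiber (g s')) :=
    quasiSeparatedSpace_of_quasiSeparated (f.fiberToSpecResidueField (g s'))
  have hUST : (⊤ : (Spec (S'.residueField s')).Opens) ≤
      (Spec.map (g.residueFieldMap s')) ⁻¹ᵁ ⊤ := fun _ _ => trivial
  have hUSX : (⊤ : (f.fiber (g s')).Opens) ≤ (f.fiberToSpecResidueField (g s')) ⁻¹ᵁ ⊤ :=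
    fun _ _ => trivial
  have hcpt : IsCompact (X := ↥(f.fiber (g s'))) ((⊤ : (f.fiber (g s')).Opens) : Set _) := by
    rw [Opens.coe_top]; exact isCompact_univ
  have hqs : IsQuasiSeparated (α := ↥(f.fiber (g s')))
      ((⊤ : (f.fiber (g s')).Opens) : Set _) := by
    rw [Opens.coe_top]; exact isQuasiSeparated_univ
  have hiso := isIso_pushoutSection_of_isQuasiSeparated_of_flat_right H hUST hUSX rfl
    (isAffineOpen_top _) (isAffineOpen_top _) hcpt hqs
  have hpo := (isIso_pushoutSection_iff H hUST hUSX rfl).1 hiso
  haveI : IsIso ((f.fiberToSpecResidueField (g s')).appLE ⊤ ⊤ hUSX) := by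
    rw [appLE_top_eq]; exact h
  have h4 := hpo.isIso_inr_of_isIso
  exact isIso_appTop_of_isIso_appLE _ _ (by simp) _ h4

end BaseChange

section Main

variable {X S : Scheme.{u}} (f : X ⟶ S) [IsProper f] [Flat f] [LocallyOfFinitePresentation f]

/-- **universal `O_S = f_* O_X`** when all fibres have only the constants as functions -/
theorem isIso_unitToPush_baseChange
    (h : ∀ s : S, IsIso (f.fiberToSpecResidueField s).appTop) {S' : Scheme.{u}} (g : S' ⟶ S) :
    IsIso (ClSub.unitToPush (pullback.snd f g)) := by
  haveI : IsProper (pullback.snd f g) := inferInstance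
  haveI : Flat (pullback.snd f g) := inferInstance
  haveI : LocallyOfFinitePresentation (pullback.snd f g) := inferInstance
  apply TwForm.isIso_of_app_bijective
  intro V
  haveI := isIso_app_of_h0 (pullback.snd f g)
    (fun s' => isIso_appTop_fibre_baseChange f g s' (h (g s'))) V
  exact (ConcreteCategory.isIso_iff_bijective ((pullback.snd f g).app V)).1 inferInstance

/-- the first higher direct image of the structure sheaf is finite locally free when the fibres
have dimension at most one and only the constants as functions -/
theorem isFinLocFree_rpush_one [HasInjectiveResolutions X.Modules]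
    (h : ∀ s : S, IsIso (f.fiberToSpecResidueField s).appTop)
    (hdim : ∀ s : S, topologicalKrullDim ↥(f.fiber s) ≤ 1) :
    FlatMod.IsFinLocFree ((Coh.Rpush f 1).obj (Coh.structureModule X)) := by
  haveI hq : (Coh.structureModule X).IsQuasicoherent :=
    IdealModL.isQuasicoherent_structureModule
  have hfp : CohB1.IsFP (Coh.structureModule X) := Groth.Agent.Helper1.FPA.isFP_unit X
  have hfl : FlatMod.IsFlatOver f (Coh.structureModule X) :=
    h0_isFlatOver_structureModule f
  haveI : ((Coh.Rpush f 1).obj (Coh.structureModule X)).IsQuasicoherent :=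
    Groth.Agent.Lib.Helper5.RpushClassic.isQuasicoherent_rpush f (Coh.structureModule X) 1
  apply Groth.Agent.Lead.FLF.isFinLocFree_of_affine_nhds
  intro s
  have hepi : Epi (CohBC.bc0 f (S.fromSpecResidueField s) (f.fiberToSpecResidueField s)
      (f.fiberι s) (f.fiber_fac s) (Coh.structureModule X)) := by
    refine h0_epi_bc0_of_isGen f (Coh.structureModule X) s (V := ⊤) trivial
      (TwForm.one' (f ⁻¹ᵁ ⊤)) (AmpleLib.isGen_one' _) ?_
    haveI := h s
    exact (ConcreteCategory.bijective_of_isIso (f.fiberToSpecResidueField s).appTop).2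
  have h2 : Subsingleton (CohIII.fiberH f (Coh.structureModule X) s 2) :=
    Groth.Agent.Helper7.BC0.subsingleton_fiberH_of_dim_lt f (Coh.structureModule X) s 1
      (hdim s) 2 (by norm_num)
  obtain ⟨V, hsV, hV⟩ := exists_nhd_finLocFree_one_of_epi_bc0 f s (Coh.structureModule X)
    hfp hfl h2 hepi
  obtain ⟨_, ⟨W, hW, rfl⟩, hsW, hle⟩ :=
    S.isBasis_affineOpens.exists_subset_of_mem_open hsV V.2
  have hle' : W ≤ V := fun y hy => hle hy
  exact ⟨W, hW, hsW, finite_projective_sections_of_isFinLocFree_restrict _ V hV W hW hle'⟩

/-- **families of curves whose fibres have one dimensional spaces of functions** -/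
theorem main [HasInjectiveResolutions X.Modules]
    (hdim : ∀ s : S, topologicalKrullDim ↥(f.fiber s) ≤ 1)
    (h0 : ∀ s : S, Models.hRank ↥(S.residueField s) (f.fiber s) (f.fiberToSpecResidueField s)
      (Coh.structureModule (f.fiber s)) 0 = 1) :
    (∀ (S' : Scheme.{u}) (g : S' ⟶ S), IsIso (ClSub.unitToPush (pullback.snd f g))) ∧
      FlatMod.IsFinLocFree ((Coh.Rpush f 1).obj (Coh.structureModule X)) := by
  have h : ∀ s : S, IsIso (f.fiberToSpecResidueField s).appTop :=
    fun s => isIso_appTop_of_hRank (f.fiberToSpecResidueField s) (h0 s)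
  exact ⟨fun S' g => isIso_unitToPush_baseChange f h g, isFinLocFree_rpush_one f h hdim⟩

end Main

end Groth.Agent.Helper7.GenBC.H0Curve
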