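import Mathlib
import Groth.Prelude.Def_ClSub2
import Groth.Agent.Lib.Helper7.GenBC.H0Geom
import Groth.Agent.Lib.Helper7.SmoothBC.GeomRed

set_option linter.style.haveILetI false
set_option linter.unusedVariables false
set_option linter.unusedSectionVars false
set_option autoImplicit false
set_option backward.isDefEq.respectTransparency.types false
set_option backward.isDefEq.respectTransparency false
set_option synthInstance.maxHeartbeats 400000
set_option maxHeartbeats 1600000

universe u

/-! helper7: proper smooth morphisms with geometrically connected fibres: the fibres have only the constants as global functions, and O_S = f_* O_X -/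

open CategoryTheory CategoryTheory.Limits Opposite TopologicalSpace AlgebraicGeometry
open AlgebraicGeometry.Scheme.Modules
open Groth.Agent.Helper1

namespace Groth.Agent.Helper7.GenBC.H0Smooth

variable {P S : Scheme.{u}} (q : P ⟶ S) [IsProper q] [Smooth q] [GeometricallyConnected q]

/-- the fibres of a proper smooth morphism with geometrically connected fibres have only the
constants as global functions -/
theorem isIso_appTop_fibre (s : S) : IsIso (q.fiberToSpecResidueField s).appTop := by
  haveI : IsProper (q.fiberToSpecResidueField s) := by
    change IsProper (pullback.snd q (S.fromSpecResidueField s)); infer_instance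
  haveI : Smooth (q.fiberToSpecResidueField s) := by
    change Smooth (pullback.snd q (S.fromSpecResidueField s)); infer_instance
  have hb := bijective_appTop_of_geom_reduced_connected (S.residueField s)
    (q.fiberToSpecResidueField s) (AlgebraicClosure (S.residueField s)) (by
      intro Z a p hP
      haveI : Smooth p := MorphismProperty.of_isPullback (P := @Smooth) hP inferInstance
      refine ⟨Groth.Agent.Helper7.SmoothBC.isReduced_of_smooth_over_field
        (AlgebraicClosure (S.residueField s)) p, ?_⟩
      exact GeometricallyConnected.geometrically_connectedSpace
        (f := q.fiberToSpecResidueField s) _ a p hP)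
  exact (ConcreteCategory.isIso_iff_bijective _).2 hb

/-- **`O_S = q_* O_P` for a proper smooth morphism with geometrically connected fibres** -/
theorem isIso_unitToPush : IsIso (ClSub.unitToPush q) := by
  apply TwForm.isIso_of_app_bijective
  intro V
  haveI := isIso_app_of_h0 q (fun s => isIso_appTop_fibre q s) V
  exact (ConcreteCategory.isIso_iff_bijective (q.app V)).1 inferInstance

end Groth.Agent.Helper7.GenBC.H0Smooth
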