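import Mathlib
import Groth.Prelude.Def_ModelsG
import Groth.Prelude.Def_ClSub2
import Groth.Prelude.Def_CurvBase
import Groth.Agent.Lib.Helper7.GenBC.H0Smooth
import Groth.Agent.Lib.Helper7.GenBC.H0Curve
import Groth.Agent.Lib.Helper7.GenBC.KT
import Groth.Agent.Lib.Lead.FLF6
import Groth.Agent.Lib.Helper4.RpushSec1
import Groth.Agent.Lib.Helper1.QcPullGen

set_option linter.style.haveILetI false
set_option linter.unusedVariables false
set_option linter.unusedSectionVars false
set_option autoImplicit false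
set_option backward.isDefEq.respectTransparency.types false
set_option backward.isDefEq.respectTransparency false
set_option synthInstance.maxHeartbeats 400000
set_option maxHeartbeats 1600000

universe u

/-! helper7: the rank of a finite locally free higher direct image at a point where the cohomology of the fibre vanishes in the next degree is the dimension of the cohomology of the fibre; the first higher direct image of the structure sheaf of a family of smooth curves of genus g is finite locally free of rank g -/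

open CategoryTheory CategoryTheory.Limits Opposite TopologicalSpace AlgebraicGeometry
open AlgebraicGeometry.Scheme.Modules
open Groth.Agent.Helper1
open Groth.Agent.Helper1.RpushLoc
open Groth.Agent.Helper3
open Groth.Agent.Lib.Helper4.BaseChgRing1
open Groth.Agent.Lib.Helper4.TenSec2
open Groth.Agent.Lib.Helper4.LocCech1
open Groth.Agent.Lib.Helper4.CechTen1
open Groth.Agent.Lead.BCU

namespace Groth.Agent.Helper7.GenBC.RankOne

section Alg

/-- the rank at the kernel of a map to a field of a finite flat module whose base change along the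
map is given: it is the dimension of the base change -/
theorem rankAtStalk_of_isBC {A : Type u} [CommRing A] {κ : Type u} [Field κ] (φ : A →+* κ)
    {M N : Type u} [AddCommGroup M] [Module A M] [AddCommGroup N] [Module κ N]
    [Module.Finite A M] [Module.Flat A M] (l : M → N) (h : IsBC φ l)
    (p : PrimeSpectrum A) (q : PrimeSpectrum κ) (hp : PrimeSpectrum.comap φ q = p) :
    Module.rankAtStalk M p = Module.finrank κ N := by
  letI := φ.toAlgebra
  letI : Module A N := Module.compHom N φ
  haveI : IsScalarTower A κ N := ⟨fun a b n => by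
    change (φ a * b) • n = φ a • b • n
    exact mul_smul _ _ _⟩
  obtain ⟨l', -, hb⟩ := h
  have h1 := Module.rankAtStalk_isBaseChange hb q
  have h2 : PrimeSpectrum.comap (algebraMap A κ) q = p := hp
  rw [h2] at h1
  rw [← h1]
  exact congrFun (Module.rankAtStalk_eq_finrank_of_free (R := κ) (M := N)) q

end Alg

attribute [local instance] secMod

section Main

variable {X S : Scheme.{u}} (f : X ⟶ S) [IsProper f] [LocallyOfFinitePresentation f] (s : S)
  (F : X.Modules) [F.IsQuasicoherent] (hfp : CohB1.IsFP F) (hfl : FlatMod.IsFlatOver f F)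

include hfp hfl in
/-- **the rank of a finite locally free higher direct image** at a point where the cohomology of
the fibre in the next degree vanishes is the dimension of the cohomology of the fibre -/
theorem exists_rankAtStalk_eq_fiberRank [HasInjectiveResolutions X.Modules] (p : ℕ)
    (h1 : Subsingleton (CohIII.fiberH f F s (p + 1)))
    (hM : FlatMod.IsFinLocFree ((Coh.Rpush f p).obj F)) :
    ∃ (W : S.Opens) (hW : IsAffineOpen W) (hsW : s ∈ W),
      Module.rankAtStalk (R := Γ(S, W)) Γ((Coh.Rpush f p).obj F, W)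
          (hW.primeIdealOf ⟨s, hsW⟩) =
        letI : (f.fiber s).Over (Spec (CommRingCat.of (S.residueField s))) :=
          ⟨f.fiberToSpecResidueField s⟩
        Module.finrank (S.residueField s) (CohIII.fiberH f F s p) := by
  obtain ⟨_, ⟨V₁, hV₁, rfl⟩, hsV₁, -⟩ :=
    S.isBasis_affineOpens.exists_subset_of_mem_open (Set.mem_univ s) isOpen_univ
  have hsq := Groth.Agent.Lib.Helper4.ChartSq1.isPullback_chart f hV₁
  haveI : IsProper (strMap f hV₁) :=
    MorphismProperty.of_isPullback (P := @IsProper) hsq inferInstance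
  haveI : LocallyOfFinitePresentation (strMap f hV₁) :=
    MorphismProperty.of_isPullback (P := @LocallyOfFinitePresentation) hsq inferInstance
  have hF' : CohB1.IsFP ((Scheme.Modules.pullback (f ⁻¹ᵁ V₁).ι).obj F) :=
    Groth.Agent.Lead.LimZ.isFP_pullback _ F hfp
  haveI : ((Scheme.Modules.pullback (f ⁻¹ᵁ V₁).ι).obj F).IsQuasicoherent :=
    (Groth.Agent.Helper7.ConsMod.isCoh_of_isFP _ hF').1
  have hfl' : FlatMod.IsFlatOver (strMap f hV₁)
      ((Scheme.Modules.pullback (f ⁻¹ᵁ V₁).ι).obj F) := fun z =>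
    Groth.Agent.Lead.FB.flat_baseChange hsq F z (hfl _)
  have hr : s ∈ Set.range hV₁.fromSpec := by
    rw [hV₁.range_fromSpec]
    exact hsV₁
  obtain ⟨y₁, hy₁⟩ := hr
  have h1' : Subsingleton (CohIII.fiberH (strMap f hV₁)
      ((Scheme.Modules.pullback (f ⁻¹ᵁ V₁).ι).obj F) y₁ (p + 1)) :=
    (Groth.Agent.Helper7.CohBC.subsingleton_fiberH_baseChange f hV₁.fromSpec (f ⁻¹ᵁ V₁).ι _ hsq
      F y₁ (p + 1)).2 (by rw [hy₁]; exact h1)
  obtain ⟨g₀, hg₀, hflat⟩ := exists_unit_flatW_deg Γ(S, V₁) (strMap f hV₁) _ hF' hfl' p y₁ h1'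
  have hW : IsAffineOpen (S.basicOpen g₀) := hV₁.basicOpen g₀
  have hleW : S.basicOpen g₀ ≤ V₁ := S.basicOpen_le g₀
  have hsW : s ∈ S.basicOpen g₀ := by
    have h4 : y₁ ∈ hV₁.fromSpec ⁻¹ᵁ S.basicOpen g₀ := by
      rw [hV₁.fromSpec_preimage_basicOpen]
      exact hg₀
    rw [← hy₁]
    exact h4
  refine ⟨S.basicOpen g₀, hW, hsW, ?_⟩
  have hs := isPullback_strMap f hV₁ hW hleW
  have hu : IsUnit ((S.presheaf.map (homOfLE hleW).op).hom g₀) :=
    S.toRingedSpace.isUnit_res_basicOpen g₀
  letI ov : (↑(f ⁻¹ᵁ S.basicOpen g₀) : Scheme.{u}).Over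
      (Spec (CommRingCat.of Γ(S, S.basicOpen g₀))) := ⟨strMap f hW⟩
  letI ovs : (f.fiber s).Over (Spec (CommRingCat.of (S.residueField s))) :=
    ⟨f.fiberToSpecResidueField s⟩
  let e₀ : (Scheme.Modules.pullback (X.homOfLE (f.preimage_mono hleW))).obj
      ((Scheme.Modules.pullback (f ⁻¹ᵁ V₁).ι).obj F) ≅ F.restrict (f ⁻¹ᵁ S.basicOpen g₀).ι :=
    (Groth.Agent.Helper7.ConsMod.pullbackFacIso (X.homOfLE_ι (f.preimage_mono hleW)) F).symm ≪≫
      (Scheme.Modules.restrictFunctorIsoPullback _).symm.app F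
  obtain ⟨ι₀, hfin, U', hcovU, haffU, hflW⟩ := hflat Γ(S, S.basicOpen g₀)
    (S.presheaf.map (homOfLE hleW).op).hom hu _ (strMap f hW)
    (X.homOfLE (f.preimage_mono hleW)) hs (F.restrict (f ⁻¹ᵁ S.basicOpen g₀).ι) e₀
  haveI := hfin
  haveI : (F.restrict (f ⁻¹ᵁ S.basicOpen g₀).ι).IsQuasicoherent := inferInstance
  have hflr : FlatMod.IsFlatOver (strMap f hW) (F.restrict (f ⁻¹ᵁ S.basicOpen g₀).ι) :=
    Groth.Agent.Lib.Helper4.ChartSq1.isFlatOver_restrict f hW F hfl
  have hbc := isBC_pullMod (S.evaluation (S.basicOpen g₀) s hsW).hom (fibChart f s hW hsW)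
    (F.restrict (f ⁻¹ᵁ S.basicOpen g₀).ι) U' (isPullback_fibChart f s hW hsW) haffU hcovU p
    (fun n => Groth.Agent.Helper7.BC0.flat_Co Γ(S, S.basicOpen g₀)
        (F.restrict (f ⁻¹ᵁ S.basicOpen g₀).ι) U' hflr haffU n) hflW
  haveI : ((Coh.Rpush f p).obj F).IsQuasicoherent :=
    Groth.Agent.Lib.Helper5.RpushClassic.isQuasicoherent_rpush f F p
  obtain ⟨eS⟩ := Groth.Agent.Lib.Helper4.RpushSec1.nonempty_sections_equiv f F hW p
  obtain ⟨hfinM, hprojM⟩ :=
    (Groth.Agent.Lead.FLF.isFinLocFree_iff_affineOpens ((Coh.Rpush f p).obj F)).1 hM _ hW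
  haveI : Module.Finite Γ(S, S.basicOpen g₀)
      (Coh.HH (↑(f ⁻¹ᵁ S.basicOpen g₀)) (F.restrict (f ⁻¹ᵁ S.basicOpen g₀).ι) p) :=
    Module.Finite.equiv eS
  haveI : Module.Projective Γ(S, S.basicOpen g₀)
      (Coh.HH (↑(f ⁻¹ᵁ S.basicOpen g₀)) (F.restrict (f ⁻¹ᵁ S.basicOpen g₀).ι) p) :=
    Module.Projective.of_equiv eS
  let q : PrimeSpectrum (S.residueField s) := ⟨⊥, Ideal.isPrime_bot⟩
  have hq : PrimeSpectrum.comap (S.evaluation (S.basicOpen g₀) s hsW).hom q =
      hW.primeIdealOf ⟨s, hsW⟩ := by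
    have hinj : Function.Injective hW.fromSpec := hW.fromSpec.isOpenEmbedding.injective
    apply hinj
    rw [hW.fromSpec_primeIdealOf]
    have h6 := congrArg (fun ψ : Spec (S.residueField s) ⟶ S => ψ q)
      (SpecMap_evaluation_fromSpec s hW hsW)
    exact h6.trans (Scheme.fromSpecResidueField_apply s q)
  have h5 := rankAtStalk_of_isBC (S.evaluation (S.basicOpen g₀) s hsW).hom _ hbc
    (hW.primeIdealOf ⟨s, hsW⟩) q hq
  rw [Module.rankAtStalk_eq_of_equiv eS, h5]
  exact (Groth.Agent.Helper3.FlatTen.HHcongr (S.residueField s)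
    ((Scheme.Modules.pullback (fibChart f s hW hsW)).mapIso
      ((Scheme.Modules.restrictFunctorIsoPullback _).app F) ≪≫ fibChartIso f s hW hsW F)
    p).finrank_eq

end Main

section Curve

variable {X S : Scheme.{u}} (f : X ⟶ S) [IsProper f] [Smooth f] [GeometricallyConnected f]

/-- **the first higher direct image of the structure sheaf of a family of smooth proper
geometrically connected curves of genus `g` is finite locally free of rank `g`** -/
theorem main (hdim : ∀ s : S, topologicalKrullDim ↥(f.fiber s) = 1) (g : ℕ)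
    (hgen : ∀ s : S,
      letI : (f.fiber s).Over (Spec (S.residueField s)) := ⟨f.fiberToSpecResidueField s⟩
      Curv2.genus (S.residueField s) (f.fiber s) = g)
    [HasInjectiveResolutions X.Modules] :
    FlatMod.IsFinLocFreeOfRank g ((Coh.Rpush f 1).obj (Coh.structureModule X)) := by
  haveI hq : (Coh.structureModule X).IsQuasicoherent :=
    IdealModL.isQuasicoherent_structureModule
  have hfp : CohB1.IsFP (Coh.structureModule X) := Groth.Agent.Helper1.FPA.isFP_unit X
  have hfl : FlatMod.IsFlatOver f (Coh.structureModule X) :=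
    h0_isFlatOver_structureModule f
  have hM : FlatMod.IsFinLocFree ((Coh.Rpush f 1).obj (Coh.structureModule X)) :=
    H0Curve.isFinLocFree_rpush_one f (fun s => H0Smooth.isIso_appTop_fibre f s)
      (fun s => (hdim s).le)
  haveI : ((Coh.Rpush f 1).obj (Coh.structureModule X)).IsQuasicoherent :=
    Groth.Agent.Lib.Helper5.RpushClassic.isQuasicoherent_rpush f (Coh.structureModule X) 1
  intro s
  obtain ⟨V, n, hsV, ⟨e⟩⟩ := hM s
  have h2 : Subsingleton (CohIII.fiberH f (Coh.structureModule X) s 2) :=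
    Groth.Agent.Helper7.BC0.subsingleton_fiberH_of_dim_lt f (Coh.structureModule X) s 1
      ((hdim s).le) 2 (by norm_num)
  obtain ⟨W, hW, hsW, hr⟩ :=
    exists_rankAtStalk_eq_fiberRank f s (Coh.structureModule X) hfp hfl 1 h2 hM
  have h3 := Groth.Agent.Lead.FLF.rankAtStalk_of_free_nhds _ hM hW ⟨s, hsW⟩ V hsV n e
  letI ovs : (f.fiber s).Over (Spec (S.residueField s)) := ⟨f.fiberToSpecResidueField s⟩
  have h4 : n = g := by
    rw [← h3, hr, ← hgen s]
    exact (Groth.Agent.Helper3.FlatTen.HHcongr (S.residueField s)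
      (QcPullGen.pullbackUnitIso (f.fiberι s)) 1).finrank_eq
  subst h4
  exact ⟨V, hsV, ⟨e⟩⟩

end Curve

end Groth.Agent.Helper7.GenBC.RankOne
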