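import Mathlib
import Groth.Prelude.Def_ModelsG
import Groth.Prelude.Def_ClSub2
import Groth.Prelude.Def_CurvBase
import Groth.Agent.Lib.Helper7.GenBC.RankOne
import Groth.Agent.Lib.Helper7.CohBC.Proj
import Groth.Agent.Lib.Helper7.RelH1.Main
import Groth.Agent.Lib.Helper1.FBC5
import Groth.Agent.Lib.Helper1.Curve2
import Groth.Agent.Lib.Helper1.VB5
import Groth.Agent.Lib.Helper1.PullGen2
import Groth.Agent.Lib.Helper1.InvInv2
import Groth.Agent.Lib.Helper5.Perf.RelPerf
import Groth.Agent.Lib.Lead.Punc1
import Groth.Agent.S1522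
import Groth.Agent.S4642

set_option linter.style.haveILetI false
set_option linter.unusedVariables false
set_option linter.unusedSectionVars false
set_option autoImplicit false
set_option backward.isDefEq.respectTransparency.types false
set_option backward.isDefEq.respectTransparency false
set_option synthInstance.maxHeartbeats 400000
set_option maxHeartbeats 1600000

universe u

/-! helper7: invertible modules of fibre degree above 2g-2 on a family of smooth proper geometrically connected curves: vanishing of the first cohomology of the fibres through the geometric fibres, vanishing of the first higher direct image and finite local freeness of the direct image -/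

open CategoryTheory CategoryTheory.Limits Opposite TopologicalSpace AlgebraicGeometry
open AlgebraicGeometry.Scheme.Modules
open Groth.Agent.Helper1
open Groth.Agent.Helper1.RpushLoc
open Groth.Agent.Lead.BCU

namespace Groth.Agent.Helper7.GenBC.DegVanish

section HZero

/-- a scheme over a field with only the constants as global functions has a one dimensional
space of global functions -/
theorem finrank_HH_zero_of_isIso_appTop {k : Type u} [Field k] {Y : Scheme.{u}}
    (q : Y ⟶ Spec (CommRingCat.of k)) (h : IsIso q.appTop) :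
    letI : Y.Over (Spec (CommRingCat.of k)) := ⟨q⟩
    Module.finrank k (Coh.HH Y (Coh.structureModule Y) 0) = 1 := by
  letI ov : Y.Over (Spec (CommRingCat.of k)) := ⟨q⟩
  letI algA : Algebra k Γ(Y, ⊤) :=
    (q.appTop.hom.comp (Scheme.ΓSpecIso (CommRingCat.of k)).inv.hom).toAlgebra
  let e : Coh.HH Y (Coh.structureModule Y) 0 ≃ₗ[k] Γ(Y, ⊤) :=
    { toFun := fun x => HH0.equiv Y (Coh.structureModule Y) x
      map_add' := fun x y => map_add (HH0.equiv Y (Coh.structureModule Y)) x y
      map_smul' := fun a x => by
        have h2 := HH0.equiv_smul_over Y (Coh.structureModule Y) a x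
        rw [RingHom.id_apply, Algebra.smul_def]
        exact h2
      invFun := fun y => (HH0.equiv Y (Coh.structureModule Y)).symm y
      left_inv := fun x => (HH0.equiv Y (Coh.structureModule Y)).symm_apply_apply x
      right_inv := fun y => (HH0.equiv Y (Coh.structureModule Y)).apply_symm_apply y }
  rw [e.finrank_eq]
  apply Module.finrank_of_bijective_algebraMap
  have hiso : Function.Bijective (Scheme.ΓSpecIso (CommRingCat.of k)).inv.hom :=
    (ConcreteCategory.isIso_iff_bijective (Scheme.ΓSpecIso (CommRingCat.of k)).inv).1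
      inferInstance
  have hq : Function.Bijective q.appTop.hom :=
    (ConcreteCategory.isIso_iff_bijective q.appTop).1 h
  change Function.Bijective
    ⇑(q.appTop.hom.comp (Scheme.ΓSpecIso (CommRingCat.of k)).inv.hom)
  rw [RingHom.coe_comp]
  exact hq.comp hiso

end HZero

section Field

/-- **vanishing of the first cohomology in degree above `2g - 2`** on a smooth proper
geometrically connected curve over an arbitrary field, through the base change to an
algebraically closed extension -/
theorem subsingleton_HH_one_of_deg (k : Type u) [Field k] (K : Type u) [Field K] [Algebra k K]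
    [IsAlgClosed K] (Y : Scheme.{u}) [Y.Over (Spec (CommRingCat.of k))]
    [IsProper (Y ↘ Spec (CommRingCat.of k))] [Smooth (Y ↘ Spec (CommRingCat.of k))]
    [GeometricallyConnected (Y ↘ Spec (CommRingCat.of k))]
    (hdim : topologicalKrullDim Y = 1) (N : Y.Modules) (hN : PicF.IsInvertible N)
    (h0 : Module.finrank k (Coh.HH Y (Coh.structureModule Y) 0) = 1)
    (hdeg : ((Module.finrank k (Coh.HH Y N 0) : ℤ) - Module.finrank k (Coh.HH Y N 1)) -
        (1 - (Module.finrank k (Coh.HH Y (Coh.structureModule Y) 1) : ℤ)) >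
      2 * (Module.finrank k (Coh.HH Y (Coh.structureModule Y) 1) : ℤ) - 2) :
    Subsingleton (Coh.HH Y N 1) := by
  letI ovb : (Curv2.bc k Y K).Over (Spec (CommRingCat.of K)) := ⟨Curv2.bcSnd k Y K⟩
  haveI hpr : IsProper ((Curv2.bc k Y K) ↘ Spec (CommRingCat.of K)) := by
    change IsProper (pullback.snd (Y ↘ Spec (CommRingCat.of k))
      (Spec.map (CommRingCat.ofHom (algebraMap k K))))
    infer_instance
  haveI hsm : Smooth (Curv2.bcSnd k Y K) := by
    change Smooth (pullback.snd (Y ↘ Spec (CommRingCat.of k))
      (Spec.map (CommRingCat.ofHom (algebraMap k K))))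
    infer_instance
  haveI hgc : GeometricallyConnected (Curv2.bcSnd k Y K) := by
    change GeometricallyConnected (pullback.snd (Y ↘ Spec (CommRingCat.of k))
      (Spec.map (CommRingCat.ofHom (algebraMap k K))))
    infer_instance
  haveI hqc : QuasiCompact (Curv2.bcSnd k Y K) := by
    change QuasiCompact (pullback.snd (Y ↘ Spec (CommRingCat.of k))
      (Spec.map (CommRingCat.ofHom (algebraMap k K))))
    infer_instance
  haveI hint : IsIntegral (Curv2.bc k Y K) :=
    Groth.Agent.Helper1.VB5.isIntegral_of_smooth_connected K (Curv2.bcSnd k Y K)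
  have hdimb : topologicalKrullDim ↥(Curv2.bc k Y K) = 1 := by
    have h := Groth.Agent.S4642.result (k := k) (K := K) (Y ↘ Spec (CommRingCat.of k))
    rw [← hdim]
    exact h
  have hflfN := Groth.Agent.Helper1.InvInv2.isFinLocFree_of_isInvertible hN
  haveI hqN : N.IsQuasicoherent :=
    Groth.Agent.Lead.FLF.isQuasicoherent_of_isFinLocFree N hflfN
  haveI hqO : (Coh.structureModule Y).IsQuasicoherent :=
    IdealModL.isQuasicoherent_structureModule
  haveI hcY : CompactSpace Y := Groth.Agent.Helper1.FBC.compactSpace_of_isProper k Y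
  have eO : (Scheme.Modules.pullback (Curv2.bcFst k Y K)).obj (Coh.structureModule Y) ≅
      Coh.structureModule (Curv2.bc k Y K) :=
    QcPullGen.pullbackUnitIso (Curv2.bcFst k Y K)
  have g1 : Curv2.genus K (Curv2.bc k Y K) =
      Module.finrank k (Coh.HH Y (Coh.structureModule Y) 1) := by
    unfold Curv2.genus
    rw [← (Groth.Agent.Helper3.FlatTen.HHcongr K eO 1).finrank_eq]
    exact Groth.Agent.Helper1.FBC.finrank_HH_bc k Y K (Coh.structureModule Y) 1
  have e1 : Curv2.euler K (Curv2.bc k Y K)
        ((Scheme.Modules.pullback (Curv2.bcFst k Y K)).obj N) =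
      (Module.finrank k (Coh.HH Y N 0) : ℤ) - Module.finrank k (Coh.HH Y N 1) := by
    rw [Groth.Agent.Helper1.FBC.euler_bc k Y K N]
    exact Groth.Agent.Helper1.Curve.euler_eq_h0_sub_h1 k Y hdim.le N hqN
  have e2 : Curv2.euler K (Curv2.bc k Y K) (Coh.structureModule (Curv2.bc k Y K)) =
      1 - (Module.finrank k (Coh.HH Y (Coh.structureModule Y) 1) : ℤ) := by
    rw [← Groth.Agent.Helper1.Euler.euler_iso K (Curv2.bc k Y K) eO,
      Groth.Agent.Helper1.FBC.euler_bc k Y K (Coh.structureModule Y),
      Groth.Agent.Helper1.Curve.euler_eq_h0_sub_h1 k Y hdim.le _ hqO, h0]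
    push_cast
    ring
  have hdeg' : 2 * (Curv2.genus K (Curv2.bc k Y K) : ℤ) - 1 ≤
      Curv2.deg K (Curv2.bc k Y K)
        ((Scheme.Modules.pullback (Curv2.bcFst k Y K)).obj N) 1 := by
    unfold Curv2.deg
    rw [g1, e1, e2]
    push_cast
    omega
  haveI hsub := Groth.Agent.S1522.result K (Curv2.bc k Y K) hdimb _
    (Groth.Agent.Helper1.PullGen.isInvertible_pullback _ hN) hdeg'
  exact (Groth.Agent.Helper1.FBC.subsingleton_HH_field_iff k K (Curv2.bcFst k Y K)
    (Groth.Agent.Helper1.FBC.isPullback_bc k Y K) N 1).1 hsub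

end Field

section Family

variable {C S : Scheme.{u}} (f : C ⟶ S) [Smooth f] [IsProper f] [GeometricallyConnected f]

/-- the first cohomology of the restriction to a fibre of an invertible module of fibre degree
above `2g - 2` vanishes -/
theorem subsingleton_fiberH_one_of_deg (s : S) (hdim : topologicalKrullDim ↥(f.fiber s) = 1)
    (L : C.Modules) (hL : PicF.IsInvertible L)
    (hdeg : ((CohIII.fiberRank f L 0 s : ℤ) - CohIII.fiberRank f L 1 s) -
        (1 - (CohIII.fiberRank f (Coh.structureModule C) 1 s : ℤ)) >
      2 * (CohIII.fiberRank f (Coh.structureModule C) 1 s : ℤ) - 2) :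
    Subsingleton (CohIII.fiberH f L s 1) := by
  letI ovs : (f.fiber s).Over (Spec (CommRingCat.of (S.residueField s))) :=
    ⟨f.fiberToSpecResidueField s⟩
  haveI hprop : IsProper ((f.fiber s) ↘ Spec (CommRingCat.of (S.residueField s))) := by
    change IsProper (pullback.snd f (S.fromSpecResidueField s)); infer_instance
  haveI hsm : Smooth ((f.fiber s) ↘ Spec (CommRingCat.of (S.residueField s))) := by
    change Smooth (pullback.snd f (S.fromSpecResidueField s)); infer_instance
  haveI hgc : GeometricallyConnected
      ((f.fiber s) ↘ Spec (CommRingCat.of (S.residueField s))) := by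
    change GeometricallyConnected (pullback.snd f (S.fromSpecResidueField s)); infer_instance
  have h0 : Module.finrank (S.residueField s)
      (Coh.HH (f.fiber s) (Coh.structureModule (f.fiber s)) 0) = 1 :=
    finrank_HH_zero_of_isIso_appTop (f.fiberToSpecResidueField s)
      (H0Smooth.isIso_appTop_fibre f s)
  have eO : (Scheme.Modules.pullback (f.fiberι s)).obj (Coh.structureModule C) ≅
      Coh.structureModule (f.fiber s) := QcPullGen.pullbackUnitIso (f.fiberι s)
  have hO1 : CohIII.fiberRank f (Coh.structureModule C) 1 s =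
      Module.finrank (S.residueField s)
        (Coh.HH (f.fiber s) (Coh.structureModule (f.fiber s)) 1) :=
    (Groth.Agent.Helper3.FlatTen.HHcongr (S.residueField s) eO 1).finrank_eq
  rw [hO1] at hdeg
  exact subsingleton_HH_one_of_deg (S.residueField s) (AlgebraicClosure (S.residueField s))
    (f.fiber s) hdim ((Scheme.Modules.pullback (f.fiberι s)).obj L)
    (Groth.Agent.Helper1.PullGen.isInvertible_pullback _ hL) h0 hdeg

/-- **the first higher direct image of an invertible module of fibre degree above `2g - 2`
vanishes and its direct image is finite locally free** -/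
theorem main (hdim : ∀ s : S, topologicalKrullDim ↥(f.fiber s) = 1) (L : C.Modules)
    (hL : PicF.IsInvertible L)
    (hdeg : ∀ s : S, ((CohIII.fiberRank f L 0 s : ℤ) - CohIII.fiberRank f L 1 s) -
        (1 - (CohIII.fiberRank f (Coh.structureModule C) 1 s : ℤ)) >
      2 * (CohIII.fiberRank f (Coh.structureModule C) 1 s : ℤ) - 2)
    [HasInjectiveResolutions C.Modules] :
    IsZero ((Coh.Rpush f 1).obj L) ∧ FlatMod.IsFinLocFree ((Coh.push f).obj L) ∧
      ∀ s : S, CohIII.fiberRank f L 1 s = 0 := by
  have hflf := Groth.Agent.Helper1.InvInv2.isFinLocFree_of_isInvertible hL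
  haveI hq : L.IsQuasicoherent := Groth.Agent.Lead.FLF.isQuasicoherent_of_isFinLocFree L hflf
  have hfp : CohB1.IsFP L := Groth.Agent.Lead.Punc.isFP_of_isFinLocFree L hflf
  have hfl : FlatMod.IsFlatOver f L :=
    Groth.Agent.Lib.Helper5.LpullLib.isFlatOver_of_isFinLocFree f L hflf
  have h1 : ∀ s, Subsingleton (CohIII.fiberH f L s 1) := fun s =>
    subsingleton_fiberH_one_of_deg f s (hdim s) L hL (hdeg s)
  refine ⟨?_, ?_, fun s => ?_⟩
  · choose V hV hsV hsub using fun s =>
      Groth.Agent.Helper7.CohBC.exists_affine_nhd_sections_subsingleton f L hfp hfl 1 s (h1 s)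
    apply Groth.Agent.Helper7.RelH1.isZero_of_basis_sections _
      {W : S.Opens | IsAffineOpen W ∧ ∃ s, W ≤ V s}
    · rw [Opens.isBasis_iff_nbhd]
      intro U x hx
      obtain ⟨W, hW, hxW, hWle⟩ := (Opens.isBasis_iff_nbhd.mp S.isBasis_affineOpens)
        (show x ∈ U ⊓ V x from ⟨hx, hsV x⟩)
      exact ⟨W, ⟨hW, x, hWle.trans inf_le_right⟩, hxW, hWle.trans inf_le_left⟩
    · rintro W ⟨hW, s, hle⟩
      exact hsub s W hW hle
  · haveI : ((Coh.push f).obj L).IsQuasicoherent :=
      Groth.Agent.Helper1.PushQc.isQuasicoherent_pushforward f L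
    apply Groth.Agent.Lead.FLF.isFinLocFree_of_affine_nhds
    intro s
    obtain ⟨V, hV, hsV, hfin⟩ :=
      Groth.Agent.Helper7.CohBC.exists_affine_nhd_sections_finite_projective f L hfp hfl 0 s
        (h1 s) (fun i hi => absurd hi (by omega))
    obtain ⟨k1, k2⟩ := hfin V hV le_rfl
    obtain ⟨es⟩ := Groth.Agent.Lib.Helper4.RpushSec1.nonempty_sections_equiv f L hV 0
    letI : (↑(f ⁻¹ᵁ V) : Scheme.{u}).Over (Spec (CommRingCat.of Γ(S, V))) := ⟨strMap f hV⟩
    have e2 := Groth.Agent.Helper1.VAc.hh0Equiv Γ(S, V) (↑(f ⁻¹ᵁ V) : Scheme.{u})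
      (L.restrict (f ⁻¹ᵁ V).ι)
    have e3 := Groth.Agent.Helper7.BC0.topEquiv f hV rfl L
    haveI := k1
    haveI := k2
    exact ⟨V, hV, hsV, Module.Finite.equiv ((es.trans e2).trans e3),
      Module.Projective.of_equiv ((es.trans e2).trans e3)⟩
  · haveI := h1 s
    exact Module.finrank_zero_of_subsingleton

end Family

end Groth.Agent.Helper7.GenBC.DegVanish
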