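import Mathlib
import Groth.Prelude.Def_CohCmp
import Groth.Agent.Lib.Helper7.GenBC.EpiRank

set_option linter.style.haveILetI false
set_option linter.unusedVariables false
set_option linter.unusedSectionVars false
set_option autoImplicit false
set_option backward.isDefEq.respectTransparency.types false
set_option backward.isDefEq.respectTransparency false
set_option synthInstance.maxHeartbeats 400000
set_option maxHeartbeats 1600000

universe u

/-! helper7: cohomology and base change part (2) with local constancy of fibre ranks, and the reduced base case of Grauert's theorem with base change -/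

open CategoryTheory CategoryTheory.Limits Opposite TopologicalSpace AlgebraicGeometry Topology
open AlgebraicGeometry.Scheme.Modules TensorProduct
open Groth.Agent.Helper1
open Groth.Agent.Helper1.RpushLoc
open Groth.Agent.Helper1.FlatCxL
open Groth.Agent.Helper3
open Groth.Agent.Lib.Helper4.BaseChgRing1
open Groth.Agent.Lib.Helper4.TenSec2
open Groth.Agent.Lib.Helper4.LocCech1
open Groth.Agent.Lib.Helper4.CechTen1
open Groth.Agent.Lib.Helper4.ExchAlg1
open Groth.Agent.Lib.Helper4.ExchAlg2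
open Groth.Agent.Lib.Helper4.RedRank1
open Groth.Agent.Lib.Helper4.GrauertAlg1
open Groth.Agent.Lead.BCU

namespace Groth.Agent.Helper7.GenBC

attribute [local instance] secMod

section Fibre

variable {X S : Scheme.{u}} (f : X ⟶ S) [IsProper f] [LocallyOfFinitePresentation f] (s : S)
  [HasInjectiveResolutions X.Modules] [HasInjectiveResolutions (f.fiber s).Modules]
  (F : X.Modules) [F.IsQuasicoherent] (hfp : CohB1.IsFP F) (hfl : FlatMod.IsFlatOver f F)
  {Δ : RDer.DerivedLES (pushforward f)}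
  {Δs : RDer.DerivedLES (pushforward (f.fiberToSpecResidueField s))}
  (E : CohCmp.SectCmp f Δ) (Es : CohCmp.SectCmp (f.fiberToSpecResidueField s) Δs)
  (Bs : CohCmp.GenBC f (S.fromSpecResidueField s) (f.fiberToSpecResidueField s) (f.fiberι s)
    (f.fiber_fac s) E Es)

include hfp hfl in
/-- if the fibre base change maps at `s` in the degrees `i` and `i + 1` are epimorphisms, then
near `s` the higher direct image in degree `i + 1` is finite locally free and the dimension of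
the cohomology of the fibres in degree `i + 1` is locally constant -/
theorem exists_nhd_finLocFree_rank_of_epi_epi (i : ℕ) (h0 : Epi (Bs.bc i F))
    (h1 : Epi (Bs.bc (i + 1) F)) :
    ∃ V : S.Opens, s ∈ V ∧
      FlatMod.IsFinLocFree (((Coh.Rpush f (i + 1)).obj F).restrict V.ι) ∧
      IsLocallyConstant (fun v : V => CohIII.fiberRank f F (i + 1) v.1) := by
  obtain ⟨V₁, hV₁, hsV₁, ⟨M⟩⟩ := exists_chart_nmodel f s F hfp hfl
  obtain ⟨g₁, hs₁, hP₁⟩ := exists_unit_presSurj_of_epi f s F E Es Bs i h0 hV₁ hsV₁ M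
  obtain ⟨g₂, hs₂, hP₂⟩ := exists_unit_presSurj_of_epi f s F E Es Bs (i + 1) h1 hV₁ hsV₁ M
  refine ⟨S.basicOpen g₁ ⊓ S.basicOpen g₂, ⟨hs₁, hs₂⟩, ?_, ?_⟩
  · haveI : ((Coh.Rpush f (i + 1)).obj F).IsQuasicoherent :=
      Groth.Agent.Lib.Helper5.RpushClassic.isQuasicoherent_rpush f F (i + 1)
    apply Groth.Agent.Helper7.CohBC.isFinLocFree_restrict_of_affine
    intro W hW hle
    have hleW : W ≤ V₁ := hle.trans (inf_le_left.trans (S.basicOpen_le g₁))
    have hu₁ := isUnit_res_of_le_basicOpen g₁ (hle.trans inf_le_left) hleW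
    have hu₂ := isUnit_res_of_le_basicOpen g₂ (hle.trans inf_le_right) hleW
    have hPS₁ := hP₁ Γ(S, W) (S.presheaf.map (homOfLE hleW).op).hom hu₁
    have hPS₂ := hP₂ Γ(S, W) (S.presheaf.map (homOfLE hleW).op).hom hu₂
    have hF₁ := (M.presSurj_iff_flat_Wq (S.presheaf.map (homOfLE hleW).op).hom (i : ℤ)).1 hPS₁
    have hF₂ := (M.presSurj_iff_flat_Wq (S.presheaf.map (homOfLE hleW).op).hom
      ((i + 1 : ℕ) : ℤ)).1 hPS₂
    exact finite_projective_sections_of_flat f F hV₁ M hW hleW (i + 1)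
      (flat_Wq_congr _ (by omega) (by omega) hF₁) hF₂
  · have hg : ∀ (g : Γ(S, V₁)) (y : ↑(Spec (CommRingCat.of Γ(S, V₁)))),
        hV₁.fromSpec y ∈ S.basicOpen g → g ∉ (y : PrimeSpectrum Γ(S, V₁)).asIdeal := by
      intro g y hy
      have h4 : y ∈ hV₁.fromSpec ⁻¹ᵁ S.basicOpen g := hy
      rw [hV₁.fromSpec_preimage_basicOpen] at h4
      exact h4
    apply isLocallyConstant_fiberRank_of_freeLocus f F hV₁ M (i + 1) _
      (inf_le_left.trans (S.basicOpen_le g₁))
    · intro y hy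
      exact mem_freeLocus_Wq_congr _ (by omega) (by omega) y
        (M.mem_freeLocus_Wq (i : ℤ) g₁ hP₁ y (hg g₁ y hy.1))
    · intro y hy
      exact M.mem_freeLocus_Wq ((i + 1 : ℕ) : ℤ) g₂ hP₂ y (hg g₂ y hy.2)

include hfp hfl in
/-- **cohomology and base change, part (2)** -/
theorem row_epi_iff_finLocFree_succ (i : ℕ) (hs : Epi (Bs.bc (i + 1) F)) :
    (Epi (Bs.bc i F) ↔
      ∃ V : S.Opens, s ∈ V ∧
        FlatMod.IsFinLocFree (((Coh.Rpush f (i + 1)).obj F).restrict V.ι)) ∧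
    (Epi (Bs.bc i F) →
      ∃ V : S.Opens, s ∈ V ∧
        FlatMod.IsFinLocFree (((Coh.Rpush f (i + 1)).obj F).restrict V.ι) ∧
        IsLocallyConstant (fun v : V => CohIII.fiberRank f F (i + 1) v.1)) := by
  refine ⟨⟨fun h0 => ?_, fun ⟨V, hsV, hV⟩ =>
    epi_of_epi_succ_of_finLocFree f s F hfp hfl E Es Bs i hs V hsV hV⟩, fun h0 =>
    exists_nhd_finLocFree_rank_of_epi_epi f s F hfp hfl E Es Bs i h0 hs⟩
  obtain ⟨V, hsV, hV, -⟩ := exists_nhd_finLocFree_rank_of_epi_epi f s F hfp hfl E Es Bs i h0 hs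
  exact ⟨V, hsV, hV⟩

end Fibre

section Reduced

variable {X S : Scheme.{u}} (f : X ⟶ S) [IsProper f] [LocallyOfFinitePresentation f]
  [HasInjectiveResolutions X.Modules]
  (F : X.Modules) [F.IsQuasicoherent] (hfp : CohB1.IsFP F) (hfl : FlatMod.IsFlatOver f F)
  [IsReduced S] (i : ℕ) (hlc : IsLocallyConstant (CohIII.fiberRank f F i))
  {Δ : RDer.DerivedLES (pushforward f)} (E : CohCmp.SectCmp f Δ)

include hlc in
/-- over a reduced affine chart, local constancy of the fibre rank in degree `i` makes the two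
adjacent cokernels of the complex over the chart flat -/
theorem flat_Wq_of_isLocallyConstant_fiberRank {V₁ : S.Opens} (hV₁ : IsAffineOpen V₁)
    (M : NModel Γ(S, V₁) (strMap f hV₁) ((Scheme.Modules.pullback (f ⁻¹ᵁ V₁).ι).obj F)) :
    letI : Algebra M.A₀ Γ(S, V₁) := ((RingHom.id Γ(S, V₁)).comp M.j).toAlgebra
    Module.Flat Γ(S, V₁) (Wq (bcK (B := Γ(S, V₁)) M.D.K) ((i : ℤ) - 1) (i : ℤ)) ∧
      Module.Flat Γ(S, V₁) (Wq (bcK (B := Γ(S, V₁)) M.D.K) (i : ℤ) ((i : ℤ) + 1)) := by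
  letI algA : Algebra M.A₀ Γ(S, V₁) := ((RingHom.id Γ(S, V₁)).comp M.j).toAlgebra
  haveI hfinL : ∀ k, Module.Finite Γ(S, V₁) ((bcK (B := Γ(S, V₁)) M.D.K).X k) := fun k => by
    haveI := (M.D.hff k).1
    exact (show Module.Finite Γ(S, V₁) (Γ(S, V₁) ⊗[M.A₀] M.D.K.X k) from inferInstance)
  haveI : Module.Finite Γ(S, V₁) (Wq (bcK (B := Γ(S, V₁)) M.D.K) ((i : ℤ) - 1) (i : ℤ)) :=
    inferInstance
  haveI : Module.Finite Γ(S, V₁) (Wq (bcK (B := Γ(S, V₁)) M.D.K) (i : ℤ) ((i : ℤ) + 1)) :=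
    inferInstance
  have hρ : IsLocallyConstant (fun y : PrimeSpectrum Γ(S, V₁) =>
      CohIII.fiberRank f F i (hV₁.fromSpec y)) :=
    hlc.comp_continuous hV₁.fromSpec.continuous
  have key := isLocallyConstant_of_add
    (fun y : PrimeSpectrum Γ(S, V₁) =>
      fibreRank (A := Γ(S, V₁)) (Wq (bcK (B := Γ(S, V₁)) M.D.K) ((i : ℤ) - 1) (i : ℤ)) y)
    (fun y : PrimeSpectrum Γ(S, V₁) =>
      fibreRank (A := Γ(S, V₁)) (Wq (bcK (B := Γ(S, V₁)) M.D.K) (i : ℤ) ((i : ℤ) + 1)) y)
    (fun y : PrimeSpectrum Γ(S, V₁) => CohIII.fiberRank f F i (hV₁.fromSpec y))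
    (fun _ => Module.finrank M.A₀ (M.D.K.X ((i : ℤ) + 1)))
    (fun x₀ => eventually_fibreRank_le _ x₀) (fun x₀ => eventually_fibreRank_le _ x₀)
    hρ (IsLocallyConstant.const _)
    (fun y => fiberRank_chart_add f F hV₁ M i y)
  haveI : IsReduced Γ(S, V₁) := inferInstance
  exact ⟨flat_of_isLocallyConstant_fibreRank _ key.1, flat_of_isLocallyConstant_fibreRank _ key.2⟩

include hfp hfl hlc in
/-- **Grauert's theorem with base change**: over a reduced base, local constancy of the fibre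
rank in degree `i` makes the higher direct image in degree `i` finite locally free and
compatible with base change, as well as the one in degree `i - 1` -/
theorem row_reduced_locallyConstant :
    FlatMod.IsFinLocFree ((Coh.Rpush f i).obj F) ∧
      ∀ ⦃X' S' : Scheme.{u}⦄ (g' : X' ⟶ X) (f' : X' ⟶ S') (g : S' ⟶ S)
        (h : IsPullback g' f' f g) [HasInjectiveResolutions X'.Modules]
        (Δ' : RDer.DerivedLES (pushforward f')) (E' : CohCmp.SectCmp f' Δ')
        (B : CohCmp.GenBC f g f' g' h.w E E'),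
        IsIso (B.bc i F) ∧ ∀ j : ℕ, j + 1 = i → IsIso (B.bc j F) := by
  have hflat : ∀ s : S, ∃ (V₁ : S.Opens) (hV₁ : IsAffineOpen V₁)
      (M : NModel Γ(S, V₁) (strMap f hV₁) ((Scheme.Modules.pullback (f ⁻¹ᵁ V₁).ι).obj F)),
      s ∈ V₁ ∧
      (letI : Algebra M.A₀ Γ(S, V₁) := ((RingHom.id Γ(S, V₁)).comp M.j).toAlgebra;
        Module.Flat Γ(S, V₁) (Wq (bcK (B := Γ(S, V₁)) M.D.K) ((i : ℤ) - 1) (i : ℤ)) ∧
        Module.Flat Γ(S, V₁) (Wq (bcK (B := Γ(S, V₁)) M.D.K) (i : ℤ) ((i : ℤ) + 1))) := by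
    intro s
    obtain ⟨V₁, hV₁, hsV₁, ⟨M⟩⟩ := exists_chart_nmodel f s F hfp hfl
    exact ⟨V₁, hV₁, M, hsV₁, flat_Wq_of_isLocallyConstant_fiberRank f F i hlc hV₁ M⟩
  constructor
  · haveI : ((Coh.Rpush f i).obj F).IsQuasicoherent :=
      Groth.Agent.Lib.Helper5.RpushClassic.isQuasicoherent_rpush f F i
    apply Groth.Agent.Lead.FLF.isFinLocFree_of_charts
    intro s
    obtain ⟨V₁, hV₁, M, hsV₁, hF1, hF2⟩ := hflat s
    refine ⟨_, V₁.ι, inferInstance, by rw [Scheme.Opens.opensRange_ι]; exact hsV₁, ?_⟩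
    apply Groth.Agent.Helper7.CohBC.isFinLocFree_restrict_of_affine
    intro W hW hle
    exact finite_projective_sections_of_flat f F hV₁ M hW hle i
      (M.flat_Wq_baseChange (S.presheaf.map (homOfLE hle).op).hom _ _ hF1)
      (M.flat_Wq_baseChange (S.presheaf.map (homOfLE hle).op).hom _ _ hF2)
  · intro X' S' g' f' g h _ Δ' E' B
    constructor
    · apply isIso_bc_of_presSurjOn f F hfl E g' f' g h E' B i
      intro z
      obtain ⟨V₁, hV₁, M, hsV₁, hF1, hF2⟩ := hflat (g z)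
      exact ⟨V₁, hV₁, M, V₁, hV₁, le_rfl, hsV₁,
        (M.presSurj_iff_flat_Wq (S.presheaf.map (homOfLE (le_refl V₁)).op).hom (i : ℤ)).2
          (M.flat_Wq_baseChange (S.presheaf.map (homOfLE (le_refl V₁)).op).hom _ _ hF2)⟩
    · intro j hj
      apply isIso_bc_of_presSurjOn f F hfl E g' f' g h E' B j
      intro z
      obtain ⟨V₁, hV₁, M, hsV₁, hF1, hF2⟩ := hflat (g z)
      exact ⟨V₁, hV₁, M, V₁, hV₁, le_rfl, hsV₁,
        (M.presSurj_iff_flat_Wq (S.presheaf.map (homOfLE (le_refl V₁)).op).hom (j : ℤ)).2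
          (flat_Wq_congr _ (by omega) (by omega)
            (M.flat_Wq_baseChange (S.presheaf.map (homOfLE (le_refl V₁)).op).hom _ _ hF1))⟩

end Reduced

end Groth.Agent.Helper7.GenBC
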