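import Mathlib
import Groth.Prelude.Def_CohCmp
import Groth.Agent.Lib.Helper7.GenBC.EpiKT

set_option linter.style.haveILetI false
set_option linter.unusedVariables false
set_option linter.unusedSectionVars false
set_option autoImplicit false
set_option backward.isDefEq.respectTransparency.types false
set_option backward.isDefEq.respectTransparency false
set_option synthInstance.maxHeartbeats 400000
set_option maxHeartbeats 1600000

universe u

/-! helper7: cohomology and base change part (1): epimorphic fibre base change map iff base change near the point -/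

open CategoryTheory CategoryTheory.Limits Opposite TopologicalSpace AlgebraicGeometry
open AlgebraicGeometry.Scheme.Modules

namespace Groth.Agent.Helper7.GenBC

section Fibre

variable {X S : Scheme.{u}} (f : X ⟶ S) [IsProper f] [LocallyOfFinitePresentation f] (s : S)
  [HasInjectiveResolutions X.Modules] [HasInjectiveResolutions (f.fiber s).Modules]
  (F : X.Modules) [F.IsQuasicoherent] (hfp : CohB1.IsFP F) (hfl : FlatMod.IsFlatOver f F)
  {Δ : RDer.DerivedLES (pushforward f)}
  {Δs : RDer.DerivedLES (pushforward (f.fiberToSpecResidueField s))}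
  (E : CohCmp.SectCmp f Δ) (Es : CohCmp.SectCmp (f.fiberToSpecResidueField s) Δs)
  (Bs : CohCmp.GenBC f (S.fromSpecResidueField s) (f.fiberToSpecResidueField s) (f.fiberι s)
    (f.fiber_fac s) E Es)

include hfp hfl in
/-- **cohomology and base change, part (1)**: the fibre base change map at `s` in degree `i` is an
epimorphism if and only if the formation of the `i`-th higher direct image commutes with base
change near `s` -/
theorem row_epi_iff (i : ℕ) :
    Epi (Bs.bc i F) ↔
      ∃ U : S.Opens, s ∈ U ∧
        ∀ ⦃X' S' : Scheme.{u}⦄ (g' : X' ⟶ X) (f' : X' ⟶ S') (g : S' ⟶ S)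
        (h : IsPullback g' f' f g)
        [HasInjectiveResolutions X'.Modules] (Δ' : RDer.DerivedLES (pushforward f'))
        (E' : CohCmp.SectCmp f' Δ')
        (B : CohCmp.GenBC f g f' g' h.w E E'), (∀ z : S', g z ∈ U) → IsIso (B.bc i F) := by
  constructor
  · intro hepi
    obtain ⟨V₁, hV₁, g₀, hs, hflat⟩ := exists_flatWAt_of_epi f s F hfp hfl E Es Bs i hepi
    refine ⟨S.basicOpen g₀, hs, fun X' S' g' f' g h _ Δ' E' B hz => ?_⟩
    exact isIso_bc_of_flatWAt f F hfl E g' f' g h E' B i
      (fun z => ⟨V₁, hV₁, g₀, hz z, hflat⟩)
  · rintro ⟨U, hsU, hU⟩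
    have h : IsPullback (f.fiberι s) (f.fiberToSpecResidueField s) f
        (S.fromSpecResidueField s) :=
      IsPullback.of_hasPullback f (S.fromSpecResidueField s)
    haveI : IsIso (Bs.bc i F) :=
      hU (f.fiberι s) (f.fiberToSpecResidueField s) (S.fromSpecResidueField s) h Δs Es Bs
        (fun z => by
          rw [Scheme.fromSpecResidueField_apply]
          exact hsU)
    infer_instance

end Fibre

end Groth.Agent.Helper7.GenBC
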